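import Cfsg.Agent.Lib.A41.Defs

/-! Standard subgroups: conjugates, inner elements, the map onto the quotient. -/

set_option autoImplicit false

namespace H79.A4

open H69 Subgroup Cfsg
open H30 (F4)
open H10.HeS (T2)
open scoped H10.Sz

variable {G Γ : Type*} [Group G] [Group Γ] {A B B' : Subgroup G} {L : Subgroup Γ} {π : G → Γ}

theorem Four.mono {K K' : Subgroup G} (h : Four K) (le : K ≤ K') : Four K' := by
  obtain ⟨a, ha, b, hb, r⟩ := h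
  exact ⟨a, le ha, b, le hb, r⟩

theorem Cj.refl (A : Subgroup G) : Cj A A := ⟨1, (cj_one A).symm⟩
theorem Cj.symm (h : Cj A B) : Cj B A := by
  obtain ⟨g, rfl⟩ := h
  exact ⟨g⁻¹, (cj_cj_inv A g).symm⟩

theorem Cj.trans (h : Cj A B) (h' : Cj B B') : Cj A B' := by
  obtain ⟨g, rfl⟩ := h
  obtain ⟨g', rfl⟩ := h'
  exact ⟨_, cj_cj A g g'⟩

theorem Cj.conj (h : Cj A B) (g : G) : Cj A (B ^ᶜ g) := h.trans ⟨g, rfl⟩
theorem Cj.std (h : Cj A B) (hA : IsStandardSubgroup A) : IsStandardSubgroup B := by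
  obtain ⟨g, rfl⟩ := h
  exact H10.Sz.std_cj hA g

theorem Cj.four (h : Cj A B) (h4 : Four 𝐂(A)) : Four 𝐂(B) := by
  obtain ⟨g, rfl⟩ := h
  obtain ⟨a, ha, b, hb, a2, b2, c, a1, b1, ab⟩ := h4
  rw [← cj_centralizer]
  refine ⟨_, cj_mem g ha, _, cj_mem g hb, ?_, ?_, ?_, mt conj_eq_one_iff.1 a1, mt conj_eq_one_iff.1 b1,
    mt (H10.Sz.cji g).1 ab⟩
  · rw [conj_mul, a2, mul_one, mul_inv_cancel]
  · rw [conj_mul, b2, mul_one, mul_inv_cancel]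
  · rw [conj_mul, conj_mul, c]

theorem cjK {g k : G} (hk : k ∈ 𝐂(A)) : g * k * g⁻¹ ∈ 𝐂(A ^ᶜ g) := cj_centralizer A g ▸ cj_mem g hk
theorem cjZ {g c : G} (hc : c ∈ Z2 A) : g * c * g⁻¹ ∈ Z2 (A ^ᶜ g) := ⟨cj_mem g hc.1, cjK hc.2.1, hc.2.2.conj g⟩
theorem mem_Z2 {c : G} : c ∈ Z2 A ↔ c ∈ A ∧ c ∈ 𝐂(A) ∧ T2 c := Iff.rfl
theorem AN {a : G} (h : a ∈ A) : a ∈ 𝐍(A) := le_normalizer h
theorem KN {k : G} (h : k ∈ 𝐂(A)) : k ∈ 𝐍(A) := centralizer_le_normalizer _ h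
theorem nA {n a : G} (hn : n ∈ 𝐍(A)) (h : a ∈ A) : n * a * n⁻¹ ∈ A := conj_mem_of_mem_normalizer hn h
theorem nK {n k : G} (hn : n ∈ 𝐍(A)) (h : k ∈ 𝐂(A)) : n * k * n⁻¹ ∈ 𝐂(A) := conj_mem_of_mem_normalizer (normalizer_le_normalizer_centralizer A hn) h
theorem nZ {n c : G} (hn : n ∈ 𝐍(A)) (h : c ∈ Z2 A) : n * c * n⁻¹ ∈ Z2 A := ⟨nA hn h.1, nK hn h.2.1, h.2.2.conj n⟩
theorem In.of_A {y : G} (h : y ∈ A) : In A y := ⟨y, h, 1, one_mem _, (mul_one y).symm⟩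
theorem In.of_K {y : G} (h : y ∈ 𝐂(A)) : In A y := ⟨1, one_mem _, y, h, (one_mul y).symm⟩
theorem In.mul {y y' : G} (h : In A y) (h' : In A y') : In A (y * y') := by
  obtain ⟨l, hl, k, hk, rfl⟩ := h
  obtain ⟨l', hl', k', hk', rfl⟩ := h'
  refine ⟨_, mul_mem hl hl', _, mul_mem hk hk', ?_⟩
  rw [mul_assoc, ← mul_assoc k, ← hk l' hl']; simp only [mul_assoc]

theorem In.inv {y : G} (h : In A y) : In A y⁻¹ := by
  obtain ⟨l, hl, k, hk, rfl⟩ := h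
  exact ⟨_, inv_mem hl, _, inv_mem hk, by rw [hk l hl, mul_inv_rev]⟩

theorem In.mem {y : G} (h : In A y) : y ∈ 𝐍(A) := by
  obtain ⟨l, hl, k, hk, rfl⟩ := h
  exact mul_mem (AN hl) (KN hk)

theorem In.conj {y g : G} (h : In A y) (hg : g ∈ 𝐍(A)) : In A (g * y * g⁻¹) := by
  obtain ⟨l, hl, k, hk, rfl⟩ := h
  exact ⟨_, nA hg hl, _, nK hg hk, (conj_mul ..).symm⟩

theorem In.cj {y : G} (h : In A y) (g : G) : In (A ^ᶜ g) (g * y * g⁻¹) := by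
  obtain ⟨l, hl, k, hk, rfl⟩ := h
  exact ⟨_, cj_mem g hl, _, cjK hk, (conj_mul ..).symm⟩

/-- inner elements centralise the centre -/
theorem In.comm {y c : G} (h : In A y) (h1 : c ∈ A) (h2 : c ∈ 𝐂(A)) : c * y = y * c := by
  obtain ⟨l, hl, k, hk, rfl⟩ := h
  rw [← mul_assoc, ← h2 l hl, mul_assoc, hk c h1, mul_assoc]

theorem Dk.conj {d : G} (h : Dk A B d) (g : G) : Dk (A ^ᶜ g) (B ^ᶜ g) (g * d * g⁻¹) :=
  ⟨((Cj.symm ⟨g, rfl⟩).trans h.cj).conj g, mt cj_inj.1 h.ne, cjK h.mem,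
    by rw [conj_mul, h.sq, mul_one, mul_inv_cancel], mt conj_eq_one_iff.1 h.ne1⟩

theorem Inn.of_cj (c : Cj A B) (h : Inn B) : Inn A := by
  obtain ⟨g, rfl⟩ := c.symm
  obtain ⟨B', d, h1, h2⟩ := h
  exact ⟨_, _, h1.conj g, h2.cj g⟩

theorem Out.of_cj (c : Cj A B) (h : Out B) : Out A := by
  obtain ⟨g, rfl⟩ := c.symm
  obtain ⟨B', d, h1, h2⟩ := h
  exact ⟨_, _, h1.conj g, cj_normalizer B g ▸ cj_mem g h2⟩


variable [Finite G]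

theorem ti (hA : IsStandardSubgroup A) {k g : G} (hk : k ∈ 𝐂(A)) (t : T2 k) (k1 : k ≠ 1)
    (h : g * k * g⁻¹ ∈ 𝐂(A)) : g ∈ 𝐍(A) := by
  by_contra c
  have o := hA.2.1.2 g fun hn => c (hA.2.2.2 ▸ hn)
  refine k1 (conj_eq_one_iff.1 ((t.conj g).eq_one (K := 𝐂(A) ⊓ 𝐂(A) ^ᶜ g) ⟨h, cj_mem g hk⟩
    fun u hu u2 => by_contra fun u1 => ?_))
  have := orderOf_dvd_natCard (⟨u, hu⟩ : ↥(𝐂(A) ⊓ 𝐂(A) ^ᶜ g))
  rw [← orderOf_coe, orderOf_eq_prime ((pow_two u).trans u2) u1] at this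
  exact (Nat.not_even_iff_odd.2 o) (even_iff_two_dvd.2 this)

theorem cN (hA : IsStandardSubgroup A) {k g : G} (hk : k ∈ 𝐂(A)) (t : T2 k) (k1 : k ≠ 1)
    (h : g * k = k * g) : g ∈ 𝐍(A) := ti hA hk t k1 (by rwa [h, mul_inv_cancel_right])
theorem Cj.one (c : Cj A B) (hA : IsStandardSubgroup A) (ne : B ≠ A) {k : G} (hk : k ∈ 𝐂(A))
    (hk' : k ∈ 𝐂(B)) (t : T2 k) : k = 1 := by
  obtain ⟨g, rfl⟩ := c
  by_contra k1
  rw [← cj_centralizer, mem_cj] at hk'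
  exact ne (cj_eq_self_iff.2 (by simpa using inv_mem (ti hA (g := g⁻¹) hk t k1 (by rwa [inv_inv]))))

theorem Dk.notK {d : G} (h : Dk A B d) (hA : IsStandardSubgroup A) : d ∉ 𝐂(A) := fun hk => h.ne1 (h.cj.one hA h.ne hk h.mem (T2.of_sq h.sq))
theorem Dk.cN {d g : G} (h : Dk A B d) (hA : IsStandardSubgroup A) (e : g * d = d * g) : g ∈ 𝐍(B) := H79.A4.cN (h.cj.std hA) h.mem (T2.of_sq h.sq) h.ne1 e
/-- the roles exchanged -/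
theorem Dk.swap {d k : G} (h : Dk A B d) (hk : k ∈ 𝐂(A)) (k2 : k * k = 1) (k1 : k ≠ 1) : Dk B A k := ⟨h.cj.symm, h.ne.symm, hk, k2, k1⟩
theorem inn_of (hA : IsStandardSubgroup A) {s y g : G} (h : Dk A B s) (h1 : In A y) (h2 : y ∉ 𝐂(A))
    (y2 : y * y = 1) (h3 : In B y) (e : g * s * g⁻¹ = s * y) : Inn A := by
  by_cases hy : y ∈ 𝐂(B)
  · exact ⟨B, y, ⟨h.cj, h.ne, hy, y2, fun e => h2 (e ▸ one_mem _)⟩, h1⟩
  have hm : s * y ∈ 𝐂(B ^ᶜ g) := e ▸ cjK h.mem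
  refine Inn.of_cj h.cj ⟨B ^ᶜ g, s * y, ⟨⟨g, rfl⟩, fun e' => hy ?_, hm, ?_, ?_⟩, (In.of_K h.mem).mul h3⟩
  · rw [e'] at hm
    exact (mul_mem_cancel_left h.mem).1 hm
  · rw [← e, conj_mul, h.sq, mul_one, mul_inv_cancel]
  · rw [← e]; exact mt conj_eq_one_iff.1 h.ne1

/-- a four-group `⟨u, b⟩` centralising `k` -/
theorem four_cent (h4 : Four 𝐂(A)) {k u : G} (hk : k ∈ 𝐂(A)) (k2 : k * k = 1) (hu : u ∈ Z2 A) :
    ∃ b ∈ 𝐂(A), b * b = 1 ∧ b ≠ 1 ∧ b ≠ u ∧ b * k = k * b := by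
  by_cases hc : k = 1 ∨ k = u
  · have c : ∀ b ∈ 𝐂(A), b * k = k * b := fun b hb => by
      rcases hc with rfl | rfl
      · rw [mul_one, one_mul]
      · exact (hb _ hu.1).symm
    obtain ⟨a, ha, b, hb, a2, b2, -, a1, b1, ab⟩ := h4
    by_cases au : a = u
    · exact ⟨b, hb, b2, b1, fun e => ab (au.trans e.symm), c b hb⟩
    · exact ⟨a, ha, a2, a1, au, c a ha⟩
  · exact ⟨k, hk, k2, fun e => hc (Or.inl e), fun e => hc (Or.inr e), rfl⟩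


namespace Qf

theorem one' (q : Qf A L π) : π 1 = 1 := q.one 1 (one_mem _)
theorem inv (q : Qf A L π) {a : G} (ha : a ∈ 𝐍(A)) : π a⁻¹ = (π a)⁻¹ :=
  eq_inv_of_mul_eq_one_right (by rw [← q.mul a ha _ (inv_mem ha), mul_inv_cancel, q.one'])

theorem pow (q : Qf A L π) {a : G} (ha : a ∈ 𝐍(A)) (n : ℕ) : π (a ^ n) = π a ^ n := by
  induction n with
  | zero => rw [pow_zero, pow_zero, q.one']
  | succ n ih => rw [pow_succ, pow_succ, q.mul _ (pow_mem ha n) _ ha, ih]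

theorem conj (q : Qf A L π) {a b : G} (ha : a ∈ 𝐍(A)) (hb : b ∈ 𝐍(A)) :
    π (a * b * a⁻¹) = π a * π b * (π a)⁻¹ := by
  rw [q.mul _ (mul_mem ha hb) _ (inv_mem ha), q.mul _ ha _ hb, q.inv ha]

theorem cm (q : Qf A L π) {a b : G} (ha : a ∈ 𝐍(A)) (hb : b ∈ 𝐍(A)) :
    π (a * b * a⁻¹ * b⁻¹) = π a * π b * (π a)⁻¹ * (π b)⁻¹ := by
  rw [q.mul _ (mul_mem (mul_mem ha hb) (inv_mem ha)) _ (inv_mem hb), q.conj ha hb, q.inv hb]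

theorem mulK (q : Qf A L π) {a k : G} (ha : a ∈ 𝐍(A)) (hk : k ∈ 𝐂(A)) : π (a * k) = π a := by
  rw [q.mul _ ha _ (KN hk), q.one k hk, mul_one]

theorem eq_one (q : Qf A L π) {a : G} (ha : a ∈ 𝐍(A)) : π a = 1 ↔ a ∈ 𝐂(A) :=
  ⟨fun e => q.cen a ha (e ▸ one_mem _), q.one a⟩

theorem memC (q : Qf A L π) {a : G} (ha : a ∈ 𝐍(A)) : π a ∈ 𝐂(L) ↔ a ∈ 𝐂(A) :=
  ⟨q.cen a ha, fun h => q.one a h ▸ one_mem _⟩

theorem eq (q : Qf A L π) {a b : G} (ha : a ∈ 𝐍(A)) (hb : b ∈ 𝐍(A)) (e : π a = π b) :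
    ∃ k ∈ 𝐂(A), b = a * k :=
  ⟨a⁻¹ * b, (q.eq_one (mul_mem (inv_mem ha) hb)).1 (by
    rw [q.mul _ (inv_mem ha) _ hb, q.inv ha, e, inv_mul_cancel]), (mul_inv_cancel_left a b).symm⟩

theorem eqA (q : Qf A L π) {a b : G} (ha : a ∈ A) (hb : b ∈ A) (e : π a = π b) :
    ∃ c ∈ A, c ∈ 𝐂(A) ∧ b = a * c := by
  obtain ⟨k, hk, rfl⟩ := q.eq (AN ha) (AN hb) e
  exact ⟨k, (mul_mem_cancel_left ha).1 hb, hk, rfl⟩

theorem dec (q : Qf A L π) {n : G} (hn : n ∈ 𝐍(A)) {l k : Γ} (hl : l ∈ L) (hk : k ∈ 𝐂(L))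
    (e : π n = l * k) : π n = l := by
  obtain ⟨a, ha, rfl⟩ := q.onto l hl
  have hm := mul_mem (inv_mem (AN ha)) hn
  have e1 : π (a⁻¹ * n) = k := by rw [q.mul _ (inv_mem (AN ha)) _ hn, q.inv (AN ha), e, inv_mul_cancel_left]
  rw [e, ← e1, q.one _ (q.cen _ hm (e1 ▸ hk)), mul_one]

theorem in_iff (q : Qf A L π) {n : G} (hn : n ∈ 𝐍(A)) : In A n ↔ π n ∈ L := by
  constructor
  · rintro ⟨l, hl, k, hk, rfl⟩
    rw [q.mulK (AN hl) hk]; exact q.mapA l hl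
  · intro h
    obtain ⟨a, ha, e⟩ := q.onto _ h
    exact ⟨a, ha, q.eq (AN ha) hn e⟩

theorem t2 (q : Qf A L π) {n : G} (hn : n ∈ 𝐍(A)) (t : T2 n) : T2 (π n) := by
  obtain ⟨k, hk⟩ := t
  exact ⟨k, by rw [← q.pow hn, hk, q.one']⟩

/-- commutators do not depend on the lifts -/
theorem cm_eq (q : Qf A L π) {a a' b b' : G} (ha : a ∈ A) (ha' : In A a') (hb : b ∈ A) (hb' : b' ∈ A)
    (e : π a = π a') (e' : π b = π b') : a' * b' * a'⁻¹ * b'⁻¹ = a * b * a⁻¹ * b⁻¹ := by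
  obtain ⟨k, hk, rfl⟩ := q.eq (AN ha) ha'.mem e
  obtain ⟨c, c1, c2, rfl⟩ := q.eqA hb hb' e'
  have e1 : k * (b * c) * k⁻¹ = b * c := conj_eq_of_mem_centralizer hk hb'
  have e2 : c * a⁻¹ * c⁻¹ = a⁻¹ := conj_eq_of_mem_centralizer c2 (inv_mem ha)
  calc a * k * (b * c) * (a * k)⁻¹ * (b * c)⁻¹ = a * (k * (b * c) * k⁻¹) * a⁻¹ * (b * c)⁻¹ := by group
    _ = a * b * (c * a⁻¹ * c⁻¹) * b⁻¹ := by rw [e1]; group
    _ = _ := by rw [e2]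

theorem cj (q : Qf A L π) (g : G) : Qf (A ^ᶜ g) L fun x => π (g⁻¹ * x * g) := by
  have hN : ∀ n ∈ 𝐍(A ^ᶜ g), g⁻¹ * n * g ∈ 𝐍(A) := fun n hn => mem_cj.1 (by rwa [cj_normalizer])
  refine ⟨H10.Sz.std_cj q.std g, fun a ha b hb => ?_, fun a ha => q.mapA _ (mem_cj.1 ha), fun l hl => ?_,
    fun n hn => q.mapN _ (hN n hn), fun k hk => q.one _ (mem_cj.1 (by rwa [cj_centralizer])),
    fun n hn h => ?_⟩
  · rw [← q.mul _ (hN a ha) _ (hN b hb)]; congr 1; group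
  · obtain ⟨a, ha, e⟩ := q.onto l hl
    exact ⟨_, cj_mem g ha, by rw [← e]; congr 1; group⟩
  · rw [← cj_centralizer]; exact mem_cj.2 (q.cen _ (hN n hn) h)

/-- the image of a subgroup of `N(A)` -/
theorem im (q : Qf A L π) {P : Subgroup G} (h : P ≤ 𝐍(A)) : ∃ P' : Subgroup Γ,
    (∀ y, y ∈ P' ↔ ∃ g ∈ P, π g = y) ∧ P' ≤ 𝐍(L) ∧ (IsPGroup 2 P → IsPGroup 2 P') ∧
      Nat.card P = Nat.card P' * Nat.card (P ⊓ 𝐂(A) : Subgroup G) := by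
  let f : P →* Γ := MonoidHom.mk' (fun x => π x) fun a b => q.mul _ (h a.2) _ (h b.2)
  refine ⟨f.range, fun y => ⟨?_, ?_⟩, ?_, fun hP => hP.of_surjective _ f.rangeRestrict_surjective, ?_⟩
  · rintro ⟨x, rfl⟩; exact ⟨x, x.2, rfl⟩
  · rintro ⟨x, hx, rfl⟩; exact ⟨⟨x, hx⟩, rfl⟩
  · rintro _ ⟨x, rfl⟩; exact q.mapN _ (h x.2)
  · have e : f.ker = (P ⊓ 𝐂(A)).subgroupOf P := Subgroup.ext fun x =>
      (q.eq_one (h x.2)).trans ⟨fun k => ⟨x.2, k⟩, fun k => k.2⟩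
    rw [card_eq_card_quotient_mul_card_subgroup f.ker,
      Nat.card_congr (QuotientGroup.quotientKerEquivRange f).toEquiv, e,
      Nat.card_congr (subgroupOfEquivOfLe inf_le_left).toEquiv]

/-- the preimage in `A` of a subgroup of `L` -/
theorem pre (q : Qf A L π) (P' : Subgroup Γ) : ∃ P : Subgroup G, ∀ g, g ∈ P ↔ g ∈ A ∧ π g ∈ P' :=
  ⟨{ carrier := {g | g ∈ A ∧ π g ∈ P'}
     mul_mem' := fun ⟨a1, a2⟩ ⟨b1, b2⟩ =>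
       ⟨mul_mem a1 b1, by rw [q.mul _ (AN a1) _ (AN b1)]; exact mul_mem a2 b2⟩
     one_mem' := ⟨one_mem _, by rw [q.one']; exact one_mem _⟩
     inv_mem' := fun ⟨a1, a2⟩ => ⟨inv_mem a1, by rw [q.inv (AN a1)]; exact inv_mem a2⟩ },
    fun _ => Iff.rfl⟩


end Qf

end H79.A4
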