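import Cfsg.Agent.Lib.A41.Bas

/-! Covering groups of `L₃(4)`: the basic calculus. -/

set_option autoImplicit false
set_option linter.unusedSectionVars false

namespace H79.A4

open H69 Subgroup Cfsg
open H30 (F4)
open H10.HeS (T2)
open scoped H10.Sz

variable {G Γ : Type*} [Group G] [Group Γ] [Finite G] [Finite Γ]

theorem bl_zc {A : Subgroup G} {c g : G} (hc : c ∈ Z2 A) (hg : g ∈ A) : Commute c g :=
  (hc.2.1 g hg).symm

theorem bl_one {f : F4 → G} (h : ∀ x y, f (x + y) = f x * f y) : f 0 = 1 := by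
  have := h 0 0
  rw [add_zero] at this
  exact left_eq_mul.1 this

theorem bl_sq {f : F4 → G} (h : ∀ x y, f (x + y) = f x * f y) (x : F4) : f x * f x = 1 := by
  rw [← h, H10.Sz.aa, bl_one h]

theorem bl_comm {f : F4 → G} (h : ∀ x y, f (x + y) = f x * f y) (x y : F4) : Commute (f x) (f y) := by
  show _ = _
  rw [← h, ← h, add_comm]

theorem bl_cm {a b c : G} (h : a * b = b * a * c) (h1 : Commute c a) (h2 : Commute c b) :
    a * b * a⁻¹ * b⁻¹ = c := by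
  rw [h, mul_assoc (b * a), h1.inv_right.eq, ← mul_assoc, mul_inv_cancel_right, ← h2.eq,
    mul_inv_cancel_right]

namespace Cv

variable (X : Cv G Γ)

theorem std : IsStandardSubgroup X.A := X.q.std
theorem v0 : X.v 0 = 1 := bl_one X.v_add
theorem w0 : X.w 0 = 1 := bl_one X.w_add
theorem z0 : X.z 0 = 1 := bl_one X.z_add
theorem φ0 : X.φ 0 = 1 := bl_one X.φ_add
theorem v2 (x : F4) : X.v x * X.v x = 1 := bl_sq X.v_add x
theorem w2 (x : F4) : X.w x * X.w x = 1 := bl_sq X.w_add x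
theorem z2 (x : F4) : X.z x * X.z x = 1 := bl_sq X.z_add x
theorem φ2 (x : F4) : X.φ x * X.φ x = 1 := bl_sq X.φ_add x
theorem bl_zi (x : F4) : (X.z x)⁻¹ = X.z x := inv_eq_of_mul_eq_one_right (X.z2 x)
theorem bl_φi (x : F4) : (X.φ x)⁻¹ = X.φ x := inv_eq_of_mul_eq_one_right (X.φ2 x)
theorem bl_A (x a e : F4) : X.v x * X.w a * X.z e ∈ X.A :=
  mul_mem (mul_mem (X.v_A x) (X.w_A a)) (X.z_A e)
theorem π_p (x a e : F4) : X.π (X.v x * X.w a * X.z e) = X.Y.p x a e := by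
  rw [X.q.mul _ (AN (mul_mem (X.v_A x) (X.w_A a))) _ (AN (X.z_A e)),
    X.q.mul _ (AN (X.v_A x)) _ (AN (X.w_A a)), X.π_v, X.π_w, X.π_z, ← X.Y.dec]
theorem T_A : X.T ≤ X.A := fun g hg => by
  obtain ⟨x, a, e, c, hc, rfl⟩ := (X.mem_T g).1 hg
  exact mul_mem (X.bl_A x a e) hc.1
theorem Z_T : Z2 X.A ≤ X.T := fun c hc =>
  (X.mem_T c).2 ⟨0, 0, 0, c, hc, by simp [X.v0, X.w0, X.z0]⟩
theorem v_T (x : F4) : X.v x ∈ X.T := (X.mem_T _).2 ⟨x, 0, 0, 1, one_mem _, by simp [X.w0, X.z0]⟩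
theorem w_T (x : F4) : X.w x ∈ X.T := (X.mem_T _).2 ⟨0, x, 0, 1, one_mem _, by simp [X.v0, X.z0]⟩
theorem z_T (x : F4) : X.z x ∈ X.T := (X.mem_T _).2 ⟨0, 0, x, 1, one_mem _, by simp [X.v0, X.w0]⟩
theorem bl_T (x a e : F4) : X.v x * X.w a * X.z e ∈ X.T :=
  mul_mem (mul_mem (X.v_T x) (X.w_T a)) (X.z_T e)
theorem bl_vw (a x : F4) : X.v x * X.w a = X.w a * X.v x * (X.z (a * x) * (X.ψ a x)⁻¹) := by
  rw [X.wv]
  simp only [mul_assoc]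
  rw [(bl_zc (X.ψ_Z a x) (X.z_A _)).left_comm, mul_inv_cancel, mul_one, X.z2, mul_one]

theorem swap : ∃ X' : Cv G Γ, X'.A = X.A ∧ X'.π = X.π ∧ X'.Y = X.Y.swap ∧ X'.T = X.T ∧ X'.v = X.w ∧
    X'.w = X.v ∧ X'.z = X.z ∧ ∀ y, X'.φ y = X.φ (y * y) := by
  refine ⟨{
    A := X.A, Y := X.Y.swap, π := X.π, q := X.q, v := X.w, w := X.v, z := X.z, H := X.H
    φ := fun y => X.φ (y * y), ψ := fun a x => (X.ψ x a)⁻¹, T := X.T
    v_A := X.w_A, w_A := X.v_A, z_A := X.z_A, H_A := X.H_A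
    π_v := fun x => ?_, π_w := fun x => ?_, π_z := fun x => ?_, π_H := X.π_H
    v_add := X.w_add, w_add := X.v_add, z_add := X.z_add
    φ_add := fun y y' => ?_, φ_Z := fun y => X.φ_Z _, ψ_Z := fun a x => inv_mem (X.ψ_Z _ _)
    vz := fun x e => ?_, wz := fun x e => ?_, wv := fun a x => ?_, ψ_sq := fun a x => ?_
    H_z := X.H_z, H_ψ := fun a x => ?_, gen := ?_, isP := X.isP, mem_T := fun g => ?_ },
    rfl, rfl, rfl, rfl, rfl, rfl, rfl, fun _ => rfl⟩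
  · rw [X.π_w]; show _ = X.Y.p _ _ _; simp
  · rw [X.π_v]; show _ = X.Y.p _ _ _; simp
  · rw [X.π_z]; show _ = X.Y.p _ _ _; simp
  · rw [← X.φ_add]; congr 1; revert y y'; decide
  · rw [X.wz]; congr 2; revert x e; decide
  · rw [X.vz]; congr 2; revert x e; decide
  · rw [X.bl_vw, mul_comm x a]
  · rw [← mul_inv_rev, X.ψ_sq, X.bl_φi]; congr 1; revert a x; decide
  · rw [X.H_ψ]
  · refine X.gen.trans ((closure_le _).2 ?_)
    rintro _ ⟨a, x, rfl⟩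
    exact inv_mem_iff.1 (Subgroup.subset_closure ⟨x, a, rfl⟩)
  · constructor
    · intro hg
      obtain ⟨x, a, e, c, hc, rfl⟩ := (X.mem_T g).1 hg
      refine ⟨a, x, a * x + e, (X.ψ a x)⁻¹ * c, mul_mem (inv_mem (X.ψ_Z a x)) hc, ?_⟩
      rw [X.bl_vw, X.z_add]
      simp only [mul_assoc]
      rw [← mul_assoc (X.ψ a x)⁻¹, (bl_zc (inv_mem (X.ψ_Z a x)) (X.z_A e)).eq, mul_assoc]
    · rintro ⟨x, a, e, c, hc, rfl⟩
      exact mul_mem (mul_mem (mul_mem (X.w_T x) (X.v_T a)) (X.z_T e)) (X.Z_T hc)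

theorem cj (g : G) : ∃ X' : Cv G Γ, X'.A = X.A ^ᶜ g ∧ X'.Y = X.Y ∧ ∀ x, X'.π x = X.π (g⁻¹ * x * g) := by
  have k : ∀ u : G, g⁻¹ * (g * u * g⁻¹) * g = u := fun u => by group
  have kZ : ∀ c, c ∈ Z2 (X.A ^ᶜ g) → g⁻¹ * c * g ∈ Z2 X.A := fun c hc => by
    have := cjZ (g := g⁻¹) hc
    rwa [cj_cj_inv, inv_inv] at this
  refine ⟨{
    A := X.A ^ᶜ g, Y := X.Y, π := fun x => X.π (g⁻¹ * x * g), q := X.q.cj g
    v := fun x => g * X.v x * g⁻¹, w := fun x => g * X.w x * g⁻¹, z := fun x => g * X.z x * g⁻¹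
    H := g * X.H * g⁻¹, φ := fun y => g * X.φ y * g⁻¹, ψ := fun a x => g * X.ψ a x * g⁻¹
    T := X.T ^ᶜ g
    v_A := fun _ => cj_mem g (X.v_A _), w_A := fun _ => cj_mem g (X.w_A _)
    z_A := fun _ => cj_mem g (X.z_A _), H_A := cj_mem g X.H_A
    π_v := fun x => by rw [k, X.π_v], π_w := fun x => by rw [k, X.π_w]
    π_z := fun x => by rw [k, X.π_z], π_H := by rw [k, X.π_H]
    v_add := fun _ _ => by rw [X.v_add, conj_mul], w_add := fun _ _ => by rw [X.w_add, conj_mul]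
    z_add := fun _ _ => by rw [X.z_add, conj_mul], φ_add := fun _ _ => by rw [X.φ_add, conj_mul]
    φ_Z := fun y => cjZ (X.φ_Z _), ψ_Z := fun a x => cjZ (X.ψ_Z _ _)
    vz := fun x e => by simp only [conj_mul]; rw [X.vz]
    wz := fun x e => by simp only [conj_mul]; rw [X.wz]
    wv := fun a x => by simp only [conj_mul]; rw [X.wv]
    ψ_sq := fun a x => by simp only [conj_mul]; rw [X.ψ_sq]
    H_z := fun e => by rw [← X.H_z]; group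
    H_ψ := fun a x => by rw [X.H_ψ]
    gen := fun c hc => ?_, isP := isPGroup_cj X.isP g, mem_T := fun y => ?_ }, rfl, rfl, fun _ => rfl⟩
  · have h1 : closure {c | ∃ a x, c = X.ψ a x} ≤
        (closure {c | ∃ a x, c = g * X.ψ a x * g⁻¹}) ^ᶜ g⁻¹ := (closure_le _).2 (by
      rintro _ ⟨a, x, rfl⟩
      exact mem_cj.2 (subset_closure ⟨a, x, by rw [inv_inv]⟩))
    have := mem_cj.1 (h1 (X.gen (kZ c hc)))
    simpa [mul_assoc] using this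
  · rw [mem_cj, X.mem_T]
    constructor
    · rintro ⟨x, a, e, c, hc, q⟩
      refine ⟨x, a, e, _, cjZ hc, ?_⟩
      simp only [conj_mul]
      rw [← q]; group
    · rintro ⟨x, a, e, c, hc, rfl⟩
      exact ⟨x, a, e, _, kZ c hc, by group⟩

theorem of_cj {B : Subgroup G} (c : Cj X.A B) : ∃ X' : Cv G Γ, X'.A = B := by
  obtain ⟨g, rfl⟩ := c
  obtain ⟨X', h, -⟩ := X.cj g
  exact ⟨X', h⟩

theorem norm2 {Q : Subgroup G} (hQ : IsPGroup 2 Q) (h : Q ≤ 𝐍(X.A)) :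
    ∃ X' : Cv G Γ, X'.A = X.A ∧ ∀ y ∈ Q, X'.π y ∈ 𝐍(X'.Y.T) := by
  obtain ⟨Q', h1, h2, h3, -⟩ := X.q.im h
  obtain ⟨l, hl, k⟩ := H10.Sz.St.norm2 (Y := X.Y) (h3 hQ) h2
  obtain ⟨a, ha, rfl⟩ := X.q.onto l hl
  obtain ⟨X', e1, e2, e3⟩ := X.cj a⁻¹
  refine ⟨X', e1.trans (cj_eq_of_mem (inv_mem ha)), fun y hy => ?_⟩
  rw [e2, e3, inv_inv, X.q.conj (AN ha) (h hy)]
  exact k (cj_mem _ ((h1 _).2 ⟨y, hy, rfl⟩))

theorem to_z {d : G} (h : In X.A d) (h1 : d ∉ 𝐂(X.A)) (h2 : d * d ∈ 𝐂(X.A)) :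
    ∃ X' : Cv G Γ, X'.A = X.A ∧ X'.π d = X'.Y.p 0 0 1 := by
  obtain ⟨l, hl, k⟩ := X.Y.cls (X.π d) ((X.q.in_iff h.mem).1 h)
    (by rw [← X.q.mul _ h.mem _ h.mem, X.q.one _ h2]) (fun e => h1 ((X.q.eq_one h.mem).1 e))
  obtain ⟨a, ha, rfl⟩ := X.q.onto l hl
  obtain ⟨X', e1, e2, e3⟩ := X.cj a
  refine ⟨X', e1.trans (cj_eq_of_mem ha), ?_⟩
  have := X.q.conj (inv_mem (AN ha)) h.mem
  rw [inv_inv] at this
  rw [e2, e3, this, X.q.inv (AN ha), ← k]; group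

theorem π_T {g : G} (h : g ∈ X.T) : X.π g ∈ X.Y.T := by
  obtain ⟨x, a, e, c, hc, rfl⟩ := (X.mem_T g).1 h
  rw [X.q.mulK (AN (X.bl_A x a e)) hc.2.1, X.π_p]
  exact X.Y.p_T ..
theorem TK {g : G} (h : g ∈ X.T) (k : g ∈ 𝐂(X.A)) : g ∈ Z2 X.A := ⟨X.T_A h, k, .of_mem X.isP h⟩
theorem lift2 {g : G} (h : g ∈ X.A) (t : T2 g) (k : X.π g ∈ X.Y.T) : g ∈ X.T := by
  obtain ⟨x, a, e, k⟩ := k
  obtain ⟨c, hc, hc', q⟩ := X.q.eqA (X.bl_A x a e) h ((X.π_p x a e).trans k.symm)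
  refine (X.mem_T g).2 ⟨x, a, e, c, ⟨hc, hc', ?_⟩, q⟩
  have := (T2.of_mem X.isP (inv_mem (X.bl_T x a e))).mul t (by
    rw [q, inv_mul_cancel_left, hc' _ (X.bl_A x a e), mul_inv_cancel_right])
  rwa [q, inv_mul_cancel_left] at this
theorem nT {n : G} (h : n ∈ 𝐍(X.A)) (k : X.π n ∈ 𝐍(X.Y.T)) : n ∈ 𝐍(X.T) :=
  mem_normalizer_of_cj_le fun _ hg => by
    obtain ⟨t, ht, rfl⟩ := mem_cj'.1 hg
    refine X.lift2 (nA h (X.T_A ht)) ((T2.of_mem X.isP ht).conj n) ?_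
    rw [X.q.conj h (AN (X.T_A ht))]
    exact conj_mem_of_mem_normalizer k (X.π_T ht)
theorem eq_p {g : G} (h : g ∈ X.T) {x a e : F4} (k : X.π g = X.Y.p x a e) :
    ∃ c ∈ Z2 X.A, g = X.v x * X.w a * X.z e * c := by
  obtain ⟨x', a', e', c, hc, rfl⟩ := (X.mem_T g).1 h
  rw [X.q.mulK (AN (X.bl_A _ _ _)) hc.2.1, X.π_p] at k
  obtain ⟨rfl, rfl, rfl⟩ := X.Y.p_inj k
  exact ⟨c, hc, rfl⟩
theorem eq_z {g : G} (h : g ∈ X.T) {e : F4} (k : X.π g = X.Y.p 0 0 e) : ∃ c ∈ Z2 X.A, g = X.z e * c := by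
  simpa [X.v0, X.w0] using X.eq_p h k
theorem dec_z {d : G} (h : d ∈ 𝐍(X.A)) (d2 : d * d = 1) {e : F4} (k : X.π d = X.Y.p 0 0 e) :
    ∃ k ∈ 𝐂(X.A), k * k = 1 ∧ d = X.z e * k := by
  obtain ⟨c, hc, rfl⟩ := X.q.eq (AN (X.z_A e)) h ((X.π_z e).trans k.symm)
  refine ⟨c, hc, ?_, rfl⟩
  rwa [mul_assoc, ← mul_assoc c, ← hc _ (X.z_A e), ← mul_assoc, ← mul_assoc, X.z2, one_mul] at d2

theorem bl_cm2 {a b g g' : G} (ha : a ∈ X.A) (hb : b ∈ X.A) (h : g ∈ X.A) (h' : In X.A g')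
    (e : X.π a = X.π g) (e' : X.π b = X.π g') : g * g' * g⁻¹ * g'⁻¹ = a * b * a⁻¹ * b⁻¹ := by
  have := X.q.cm_eq hb h' ha h e' e
  rw [← inv_inj]
  simpa [mul_assoc] using this

theorem cm_z {g g' : G} (h : g ∈ X.A) (h' : In X.A g') {x a e e' : F4} (k : X.π g = X.Y.p x a e)
    (k' : X.π g' = X.Y.p 0 0 e') : g * g' * g⁻¹ * g'⁻¹ = X.φ (x * e' + a * a * (e' * e')) := by
  rw [X.bl_cm2 (X.bl_A x a e) (X.z_A e') h h' ((X.π_p ..).trans k.symm) ((X.π_z _).trans k'.symm)]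
  refine bl_cm ?_ (bl_zc (X.φ_Z _) (X.bl_A ..)) (bl_zc (X.φ_Z _) (X.z_A _))
  have c1 := bl_zc (X.φ_Z (x * e')) (X.w_A a)
  have c2 := bl_zc (X.φ_Z (x * e')) (X.z_A e)
  have c3 := bl_zc (X.φ_Z (a * a * (e' * e'))) (X.z_A e)
  calc X.v x * X.w a * X.z e * X.z e' = X.v x * (X.w a * X.z e') * X.z e := by
        rw [mul_assoc _ (X.z e), (bl_comm X.z_add e e').eq]; simp only [mul_assoc]
    _ = (X.v x * X.z e') * X.w a * X.φ (a * a * (e' * e')) * X.z e := by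
        rw [X.wz]; simp only [mul_assoc]
    _ = _ := by
        rw [X.vz, X.φ_add]
        simp only [mul_assoc] at c3 ⊢
        rw [c3.eq, c1.left_comm, c2.left_comm]

theorem cm_v {g g' : G} (h : g ∈ X.A) (h' : In X.A g') {x e x' e' : F4} (k : X.π g = X.Y.p x 0 e)
    (k' : X.π g' = X.Y.p x' 0 e') : g * g' * g⁻¹ * g'⁻¹ = X.φ (x * e' + x' * e) := by
  rw [X.bl_cm2 (X.bl_A x 0 e) (X.bl_A x' 0 e') h h' ((X.π_p ..).trans k.symm) ((X.π_p ..).trans k'.symm)]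
  refine bl_cm ?_ (bl_zc (X.φ_Z _) (X.bl_A ..)) (bl_zc (X.φ_Z _) (X.bl_A ..))
  have zv : ∀ x e, X.z e * X.v x = X.v x * X.z e * X.φ (x * e) := fun x e => by
    rw [X.vz, mul_assoc, X.φ2, mul_one]
  have c1 := bl_zc (X.φ_Z (x * e')) (X.z_A e)
  have c2 := bl_zc (X.φ_Z (x' * e)) (X.z_A e')
  simp only [X.w0, mul_one]
  calc X.v x * X.z e * (X.v x' * X.z e') = X.v x * (X.z e * X.v x') * X.z e' := by simp only [mul_assoc]
    _ = X.v x' * X.v x * (X.z e' * X.z e) * X.φ (x' * e) := by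
        rw [zv, ← (bl_comm X.v_add x x').eq, ← (bl_comm X.z_add e e').eq]
        simp only [mul_assoc]
        rw [c2.eq]
    _ = X.v x' * (X.z e' * X.v x) * X.z e * X.φ (x * e' + x' * e) := by
        rw [zv, X.φ_add]
        simp only [mul_assoc]
        rw [c1.left_comm, ← mul_assoc (X.φ _), X.φ2, one_mul]
    _ = _ := by simp only [mul_assoc]

theorem T_z (hφ : ∀ y, X.φ y = 1) {g : G} (h : g ∈ X.T) (e : F4) : g * X.z e = X.z e * g := by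
  obtain ⟨x, a, e', c, hc, rfl⟩ := (X.mem_T g).1 h
  have c1 : Commute (X.v x) (X.z e) := by show _ = _; rw [X.vz, hφ, mul_one]
  have c2 : Commute (X.w a) (X.z e) := by show _ = _; rw [X.wz, hφ, mul_one]
  exact ((c1.mul_left c2).mul_left (bl_comm X.z_add e' e)).mul_left (bl_zc hc (X.z_A e))

theorem bl_wv (hφ : ∀ y, X.φ y = 1) (a e x e' : F4) :
    X.w a * X.z e * (X.v x * X.z e') * (X.w a * X.z e)⁻¹ * (X.v x * X.z e')⁻¹ = X.z (a * x) * X.ψ a x := by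
  have c : ∀ {g}, g ∈ X.T → ∀ e, Commute (X.z e) g := fun hg e => (X.T_z hφ hg e).symm
  rw [H10.Sz.cm_cen (c (X.w_T a) e) (c (X.v_T x) e) (c (X.w_T a) e') (c (X.z_T e') e)]
  exact bl_cm (X.wv a x) ((c (X.w_T a) _).mul_left (bl_zc (X.ψ_Z ..) (X.w_A a)))
    ((c (X.v_T x) _).mul_left (bl_zc (X.ψ_Z ..) (X.v_A x)))

theorem cm_wv (hφ : ∀ y, X.φ y = 1) {g g' : G} (h : In X.A g) (h' : g' ∈ X.A) {a e x e' : F4}
    (k : X.π g = X.Y.p 0 a e) (k' : X.π g' = X.Y.p x 0 e') :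
    g * g' * g⁻¹ * g'⁻¹ = X.z (a * x) * X.ψ a x := by
  rw [X.q.cm_eq (X.bl_A 0 a e) h (X.bl_A x 0 e') h' ((X.π_p ..).trans k.symm) ((X.π_p ..).trans k'.symm)]
  simp only [X.v0, X.w0, mul_one, one_mul]
  exact X.bl_wv hφ a e x e'

theorem cm_vw (hφ : ∀ y, X.φ y = 1) {g g' : G} (h : In X.A g) (h' : g' ∈ X.A) {a e x e' : F4}
    (k : X.π g = X.Y.p x 0 e) (k' : X.π g' = X.Y.p 0 a e') :
    g * g' * g⁻¹ * g'⁻¹ = X.z (a * x) * (X.ψ a x)⁻¹ := by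
  rw [X.q.cm_eq (X.bl_A x 0 e) h (X.bl_A 0 a e') h' ((X.π_p ..).trans k.symm) ((X.π_p ..).trans k'.symm)]
  simp only [X.v0, X.w0, mul_one, one_mul]
  have := congrArg (·⁻¹) (X.bl_wv hφ a e' x e)
  simp only [mul_inv_rev (X.z (a * x)), X.bl_zi] at this
  rw [← (bl_zc (inv_mem (X.ψ_Z a x)) (X.z_A _)).eq, ← this]
  group

theorem bl_pow {n : ℕ} (hn : ∀ a x, X.ψ a x ^ n = 1) {c : G} (h : c ∈ Z2 X.A) : c ^ n = 1 := by
  refine (closure_induction (p := fun c _ => c ∈ Z2 X.A ∧ c ^ n = 1) ?_ ⟨one_mem _, one_pow n⟩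
    (fun a b _ _ ha hb => ⟨mul_mem ha.1 hb.1, ?_⟩) (fun a _ ha => ⟨inv_mem ha.1, ?_⟩) (X.gen h)).2
  · rintro _ ⟨a, x, rfl⟩
    exact ⟨X.ψ_Z a x, hn a x⟩
  · rw [(bl_zc ha.1 hb.1.1).mul_pow, ha.2, hb.2, one_mul]
  · rw [inv_pow, ha.2, inv_one]

theorem pow4 {c : G} (h : c ∈ Z2 X.A) : c * c * (c * c) = 1 := by
  have e : ∀ u : G, u ^ 4 = u * u * (u * u) := fun u => by
    rw [show 4 = 2 * 2 from rfl, pow_mul, sq, sq]
  rw [← e]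
  exact X.bl_pow (fun a x => by rw [e, X.ψ_sq, X.φ2]) h
theorem phi_ne {c : G} (h : c ∈ Z2 X.A) (k : c * c ≠ 1) : ∃ y, X.φ y ≠ 1 := by
  by_contra hn
  push Not at hn
  exact k ((sq c).symm.trans (X.bl_pow (fun a x => by rw [sq, X.ψ_sq, hn]) h))
theorem phi_sq (y : F4) : ∃ c ∈ Z2 X.A, c * c = X.φ y :=
  ⟨X.ψ y 1, X.ψ_Z .., by rw [X.ψ_sq, mul_one, mul_one]⟩
theorem phi_one (h : ∀ c ∈ Z2 X.A, c * c = 1) (y : F4) : X.φ y = 1 := by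
  obtain ⟨c, hc, e⟩ := X.phi_sq y
  rw [← e, h c hc]

theorem psi (h : ∀ c ∈ Z2 X.A, c * c = 1) : ∃ χ : F4 → G, (∀ y y', χ (y + y') = χ y * χ y') ∧
    (∀ a x, X.ψ a x = χ (a * x * x)) ∧ ∀ c, c ∈ Z2 X.A ↔ ∃ y, c = χ y := by
  have hφ := X.phi_one h
  have add : ∀ a a' x, X.ψ (a + a') x = X.ψ a x * X.ψ a' x := fun a a' x => by
    have h1 := X.wv (a + a') x
    have c1 : Commute (X.z (a * x)) (X.w a') := (X.T_z hφ (X.w_T a') _).symm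
    have c2 := bl_zc (X.ψ_Z a x) (X.w_A a')
    have c3 := bl_zc (X.ψ_Z a x) (X.z_A (a' * x))
    rw [X.w_add, mul_assoc (X.w a), X.wv a', ← mul_assoc (X.w a), ← mul_assoc (X.w a), X.wv a, add_mul, X.z_add] at h1
    simp only [mul_assoc] at h1
    rw [c2.left_comm, c1.left_comm, c3.left_comm] at h1
    simpa using h1.symm
  have ad1 : ∀ y y', X.ψ (y + y') 1 = X.ψ y 1 * X.ψ y' 1 := fun y y' => add y y' 1
  have hψ : ∀ a x, X.ψ a x = X.ψ (a * x * x) 1 := fun a x => by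
    rcases H10.Sz.cas x with rfl | rfl | rfl | rfl
    · have := X.wv a 0
      rw [mul_zero, X.v0, X.z0] at this
      rw [mul_zero, bl_one (f := fun y => X.ψ y 1) ad1]
      simpa using this
    · rw [mul_one, mul_one]
    · rw [← X.H_ψ]; congr 1; revert a; decide
    · rw [← X.H_ψ (a * ϖ * ϖ)]; congr 1; revert a; decide
  refine ⟨fun y => X.ψ y 1, ad1, hψ, fun c => ⟨fun hc => ?_, ?_⟩⟩
  · refine closure_induction (p := fun c _ => ∃ y, c = X.ψ y 1) ?_ ⟨0, (bl_one (f := fun y => X.ψ y 1) ad1).symm⟩ ?_ ?_ (X.gen hc)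
    · rintro _ ⟨a, x, rfl⟩
      exact ⟨_, hψ a x⟩
    · rintro _ _ - - ⟨y, rfl⟩ ⟨y', rfl⟩
      exact ⟨_, (ad1 y y').symm⟩
    · rintro _ - ⟨y, rfl⟩
      exact ⟨y, inv_eq_of_mul_eq_one_right (bl_sq (f := fun y => X.ψ y 1) ad1 y)⟩
  · rintro ⟨y, rfl⟩
    exact X.ψ_Z ..

theorem bl_in {n : G} (h : n ∈ 𝐍(X.A)) (k : X.Y.In (X.π n)) : In X.A n := by
  obtain ⟨l, hl, c, hc, e⟩ := k
  exact (X.q.in_iff h).2 (X.q.dec h hl hc e ▸ hl)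

theorem in_sq {n : G} (h : n ∈ 𝐍(X.A)) (t : T2 n) : In X.A (n * n) :=
  X.bl_in (mul_mem h h) (X.q.mul _ h _ h ▸ H10.Sz.St.In.sq (X.q.mapN _ h) (X.q.t2 h t))
theorem in_cm {n n' : G} (h : n ∈ 𝐍(X.A)) (h' : n' ∈ 𝐍(X.A)) (t : T2 (n * n' * n⁻¹ * n'⁻¹)) :
    In X.A (n * n' * n⁻¹ * n'⁻¹) := by
  have m := mul_mem (mul_mem (mul_mem h h') (inv_mem h)) (inv_mem h')
  have t' := X.q.t2 m t
  refine X.bl_in m ?_
  rw [X.q.cm h h'] at t' ⊢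
  exact H10.Sz.St.In.cm (X.q.mapN _ h) (X.q.mapN _ h') t'
theorem in_act {n : G} (h : n ∈ 𝐍(X.A)) (t : T2 n) {l m : F4} (k : X.Y.Act (X.π n) false false l m) :
    In X.A n :=
  X.bl_in h ((H10.Sz.St.Ty.of_act (X.q.mapN _ h) k).two (X.q.t2 h t))

end Cv

end H79.A4
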