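import Cfsg.Agent.Lib.A41.Defs
import Cfsg.Agent.Lib.ASG.Bas

/-! The double cover of `G₂(4)`: the frames. -/

set_option autoImplicit false

namespace H79.A4

open H69 Subgroup Cfsg H30 H30.F4

variable {G Γ : Type*} [Group G] [Group Γ]

/-- `A` is a double cover of `G₂(4)` with centre `⟨u⟩`. -/
structure G2 (A : Subgroup G) (Y : AS.St Γ) (π : G → Γ) (u : G) : Prop where
  q : Qf A Y.A π
  cen : ∀ c, c ∈ A ∧ c ∈ 𝐂(A) ↔ c = 1 ∨ c = u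
  ne : u ≠ 1

/-- The lifts of the long root group and the commutators of long root elements. -/
structure Cg (A : Subgroup G) (Y : AS.St Γ) (π : G → Γ) (u : G) (z : F4 → G) (θ : G) (χ : F4 → G) :
    Prop where
  z_A : ∀ e, z e ∈ A
  π_z : ∀ e, π (z e) = Y.vv e
  z_add : ∀ e e', z (e + e') = z e * z e'
  θ_A : θ ∈ A
  π_θ : π θ = Y.th
  θ_z : ∀ e, θ * z e * θ⁻¹ = z (v * e)
  χ_add : ∀ y y', χ (y + y') = χ y * χ y'
  χ_u : ∀ y, χ y = 1 ∨ χ y = u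
  cen : ∀ b ∈ A, π b ∈ Y.B → ∀ e, b * z e = z e * b
  cm : ∀ g ∈ A, ∀ g' ∈ A, ∀ a t s, π g = Y.x 10 a → π g' = Y.qa t * Y.vv s →
    g * g' * g⁻¹ * g'⁻¹ = z (a * t 2) * χ (a * t 2 * t 2)

end H79.A4
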