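import Cfsg.Agent.Lib.Std.Sz3

/-! Standard subgroups over `L₃(4)` or `G₂(4)` with a four-group in the centraliser: the frames. -/

set_option autoImplicit false

namespace H79.A4

open H69 Subgroup Cfsg
open H30 (F4)
open H10.HeS (T2)
open scoped H10.Sz

variable {G Γ : Type*} [Group G] [Group Γ]

/-- `K` contains a four-group -/
def Four (K : Subgroup G) : Prop :=
  ∃ a ∈ K, ∃ b ∈ K, a * a = 1 ∧ b * b = 1 ∧ a * b = b * a ∧ a ≠ 1 ∧ b ≠ 1 ∧ a ≠ b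

/-- conjugate subgroups -/
def Cj (A B : Subgroup G) : Prop := ∃ g, B = A ^ᶜ g

/-- elements inducing inner automorphisms on `A` -/
def In (A : Subgroup G) (y : G) : Prop := ∃ l ∈ A, ∃ k ∈ 𝐂(A), y = l * k

/-- `d` is an involution centralising a conjugate `B ≠ A` of `A` -/
structure Dk (A B : Subgroup G) (d : G) : Prop where
  cj : Cj A B
  ne : B ≠ A
  mem : d ∈ 𝐂(B)
  sq : d * d = 1
  ne1 : d ≠ 1

/-- such an involution normalises `A` -/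
def Out (A : Subgroup G) : Prop := ∃ B d, Dk A B d ∧ d ∈ 𝐍(A)

/-- such an involution is inner on `A` -/
def Inn (A : Subgroup G) : Prop := ∃ B d, Dk A B d ∧ In A d

/-- the Sylow 2-subgroup of the centre -/
def Z2 (A : Subgroup G) : Subgroup G where
  carrier := {c | c ∈ A ∧ c ∈ 𝐂(A) ∧ T2 c}
  mul_mem' := fun ⟨a1, a2, a3⟩ ⟨b1, b2, b3⟩ => ⟨mul_mem a1 b1, mul_mem a2 b2, a3.mul b3 (b2 _ a1)⟩
  one_mem' := ⟨one_mem _, one_mem _, 0, pow_one 1⟩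
  inv_mem' := fun ⟨a1, a2, n, a3⟩ => ⟨inv_mem a1, inv_mem a2, n, by rw [inv_pow, a3, inv_one]⟩

/-- `π` maps `N(A)` to `Γ` with kernel `C(A)`, and `A` onto `L`. -/
structure Qf (A : Subgroup G) (L : Subgroup Γ) (π : G → Γ) : Prop where
  std : IsStandardSubgroup A
  mul : ∀ a ∈ 𝐍(A), ∀ b ∈ 𝐍(A), π (a * b) = π a * π b
  mapA : ∀ a ∈ A, π a ∈ L
  onto : ∀ l ∈ L, ∃ a ∈ A, π a = l
  mapN : ∀ n ∈ 𝐍(A), π n ∈ 𝐍(L)
  one : ∀ k ∈ 𝐂(A), π k = 1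
  cen : ∀ n ∈ 𝐍(A), π n ∈ 𝐂(L) → n ∈ 𝐂(A)

/-- A covering group `A` of `L₃(4)` in coordinates. -/
structure Cv (G Γ : Type*) [Group G] [Group Γ] where
  A : Subgroup G
  Y : H10.Sz.St Γ
  π : G → Γ
  q : Qf A Y.L π
  v : F4 → G
  w : F4 → G
  z : F4 → G
  H : G
  φ : F4 → G
  ψ : F4 → F4 → G
  T : Subgroup G
  v_A : ∀ x, v x ∈ A
  w_A : ∀ a, w a ∈ A
  z_A : ∀ e, z e ∈ A
  H_A : H ∈ A
  π_v : ∀ x, π (v x) = Y.p x 0 0
  π_w : ∀ a, π (w a) = Y.p 0 a 0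
  π_z : ∀ e, π (z e) = Y.p 0 0 e
  π_H : π H = Y.h
  v_add : ∀ x x', v (x + x') = v x * v x'
  w_add : ∀ a a', w (a + a') = w a * w a'
  z_add : ∀ e e', z (e + e') = z e * z e'
  φ_add : ∀ y y', φ (y + y') = φ y * φ y'
  φ_Z : ∀ y, φ y ∈ Z2 A
  ψ_Z : ∀ a x, ψ a x ∈ Z2 A
  vz : ∀ x e, v x * z e = z e * v x * φ (x * e)
  wz : ∀ a e, w a * z e = z e * w a * φ (a * a * (e * e))
  wv : ∀ a x, w a * v x = v x * w a * (z (a * x) * ψ a x)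
  ψ_sq : ∀ a x, ψ a x * ψ a x = φ (a * x * x)
  H_z : ∀ e, H * z e * H⁻¹ = z (ω * e)
  H_ψ : ∀ a x, ψ (ϖ * a) (ϖ * x) = ψ a x
  gen : Z2 A ≤ closure {c | ∃ a x, c = ψ a x}
  isP : IsPGroup 2 T
  mem_T : ∀ g, g ∈ T ↔ ∃ x a e, ∃ c ∈ Z2 A, g = v x * w a * z e * c

end H79.A4
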