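import Cfsg.Agent.Lib.A41.DefG
import Cfsg.Agent.Lib.A41.Bas

/-! The double cover of `G₂(4)`: long root elements. -/

set_option autoImplicit false

namespace H79.A4

open H69 Subgroup Cfsg H30 H30.F4
open H10.HeS (T2)

variable {G Γ : Type*} [Group G] [Group Γ] [Finite G] [Finite Γ] {A : Subgroup G} {Y : AS.St Γ} {π : G → Γ}
  {u : G}

theorem G2.cj (F : G2 A Y π u) (g : G) : G2 (A ^ᶜ g) Y (fun x => π (g⁻¹ * x * g)) (g * u * g⁻¹) where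
  q := F.q.cj g
  cen c := by
    rw [← cj_centralizer, mem_cj, mem_cj, F.cen]
    refine or_congr ⟨fun h => ?_, fun h => by simp [h]⟩ ⟨fun h => by rw [← h]; group, fun h => by rw [h]; group⟩
    calc c = g * (g⁻¹ * c * g) * g⁻¹ := by group
      _ = 1 := by rw [h]; group
  ne h := F.ne (by simpa using h)

theorem G2.ga_u (F : G2 A Y π u) : u ∈ A ∧ u ∈ 𝐂(A) := (F.cen u).2 (Or.inr rfl)

/-- a new frame for the same subgroup -/
theorem G2.inner (F : G2 A Y π u) {l : Γ} (hl : l ∈ Y.A) :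
    ∃ π' : G → Γ, G2 A Y π' u ∧ ∀ n ∈ 𝐍(A), π' n = l * π n * l⁻¹ := by
  obtain ⟨a, ha, rfl⟩ := F.q.onto l hl
  have := F.cj a⁻¹
  rw [cj_eq_of_mem (inv_mem ha), F.ga_u.2 _ (inv_mem ha), mul_inv_cancel_right, inv_inv] at this
  exact ⟨_, this, fun n hn => F.q.conj (AN ha) hn⟩

theorem G2.of_cj (F : G2 A Y π u) {M : Subgroup G} (c : Cj A M) : ∃ π' u', G2 M Y π' u' := by
  obtain ⟨g, rfl⟩ := c
  exact ⟨_, _, F.cj g⟩

theorem G2.sq (F : G2 A Y π u) : u * u = 1 :=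
  ((F.cen _).1 ⟨mul_mem F.ga_u.1 F.ga_u.1, mul_mem F.ga_u.2 F.ga_u.2⟩).resolve_right
    fun e => F.ne (mul_left_cancel (a := u) (by simpa using e))

theorem G2.mem (F : G2 A Y π u) : u ∈ Z2 A := ⟨F.ga_u.1, F.ga_u.2, T2.of_sq F.sq⟩

theorem G2.lift (F : G2 A Y π u) {a b : G} (ha : a ∈ A) (hb : b ∈ A) (e : π a = π b) :
    b = a ∨ b = a * u := by
  obtain ⟨c, h1, h2, rfl⟩ := F.q.eqA ha hb e
  rcases (F.cen c).1 ⟨h1, h2⟩ with k | k <;> simp [k]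

theorem G2.five (F : G2 A Y π u) {l : Γ} (hl : l ∈ Y.A) (h : l ^ 5 = 1) :
    ∃ a ∈ A, a ^ 5 = 1 ∧ π a = l := by
  obtain ⟨a, ha, rfl⟩ := F.q.onto l hl
  rw [← F.q.pow (AN ha), F.q.eq_one (AN (pow_mem ha 5))] at h
  rcases (F.cen _).1 ⟨pow_mem ha 5, h⟩ with k | k
  · exact ⟨a, ha, k, rfl⟩
  · refine ⟨a * u, mul_mem ha F.ga_u.1, ?_, F.q.mulK (AN ha) F.ga_u.2⟩
    rw [Commute.mul_pow (F.ga_u.2 a ha), k]
    calc u * u ^ 5 = (u * u) ^ 3 := by rw [← _root_.sq, ← pow_mul, ← pow_succ']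
      _ = 1 := by rw [F.sq, one_pow]

theorem G2.ga_in (F : G2 A Y π u) {n : G} (hn : n ∈ 𝐍(A)) (h : π n ∈ 𝐂(Y.A) ⊔ Y.A) : π n ∈ Y.A := by
  obtain ⟨k, hk, a, ha, e⟩ := Y.mem_KA.1 h
  rw [F.q.dec hn ha hk (e.trans (hk a ha).symm)]; exact ha

theorem G2.five_in (F : G2 A Y π u) {n : G} (hn : n ∈ 𝐍(A)) (h : n ^ 5 = 1) : π n ∈ Y.A :=
  F.ga_in hn (Y.five_KA (F.q.mapN n hn) (by rw [← F.q.pow hn, h, F.q.one']))

theorem G2.mul_in (F : G2 A Y π u) {n m : G} (hn : n ∈ 𝐍(A)) (hm : m ∈ 𝐍(A)) :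
    In A n ∨ In A m ∨ In A (n * m) := by
  rw [F.q.in_iff hn, F.q.in_iff hm, F.q.in_iff (mul_mem hn hm)]
  by_cases h1 : π n ∈ 𝐂(Y.A) ⊔ Y.A
  · exact Or.inl (F.ga_in hn h1)
  by_cases h2 : π m ∈ 𝐂(Y.A) ⊔ Y.A
  · exact Or.inr (Or.inl (F.ga_in hm h2))
  exact Or.inr (Or.inr (F.ga_in (mul_mem hn hm)
    (by rw [F.q.mul n hn m hm]; exact Y.mul_KA (F.q.mapN n hn) (F.q.mapN m hm) h1 h2)))

/-- commutators of lifts of commuting elements -/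
theorem G2.ga_cm (F : G2 A Y π u) {a b : G} (ha : a ∈ A) (hb : b ∈ A) (e : π a * π b = π b * π a) :
    ∃ c ∈ 𝐂(A), c * c = 1 ∧ a * b * a⁻¹ * b⁻¹ = c := by
  have m : a * b * a⁻¹ * b⁻¹ ∈ A := mul_mem (mul_mem (mul_mem ha hb) (inv_mem ha)) (inv_mem hb)
  have k : a * b * a⁻¹ * b⁻¹ ∈ 𝐂(A) := (F.q.eq_one (AN m)).1 (by rw [F.q.cm (AN ha) (AN hb), e]; group)
  refine ⟨_, k, ?_, rfl⟩
  rcases (F.cen _).1 ⟨m, k⟩ with h | h <;> rw [h]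
  exacts [one_mul _, F.sq]

theorem G2.ga_cen (F : G2 A Y π u) {g b : G} (hg : g ∈ A) {s : F4} (e : π g = Y.vv s) (hb : b ∈ A)
    (k : π b ∈ Y.B) : b * g = g * b := by
  obtain ⟨P, mP, -⟩ := F.q.im (P := A ⊓ centralizer {g}) fun x hx => AN hx.1
  have : Y.B ≤ P := Y.p1.B_five.le.trans (AS.F5_le fun l hl l5 => by
    obtain ⟨a, ha, a5, rfl⟩ := F.five (Y.B_le_A hl) l5
    refine (mP _).2 ⟨a, ⟨ha, ?_⟩, rfl⟩
    obtain ⟨c, hc, c2, e1⟩ := F.ga_cm ha hg (by rw [e]; exact Y.mem_CV.1 (Y.B_le_CV hl) s)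
    have e2 : a * g * a⁻¹ = c * g := by rw [← e1]; group
    have e3 : a * a ∈ centralizer {g} := mem_centralizer_singleton_iff.2 (by
      calc a * a * g = a * (a * g * a⁻¹) * a := by group
        _ = (a * c) * g * a := by rw [e2]; group
        _ = c * (a * g * a⁻¹) * (a * a) := by rw [hc a ha]; group
        _ = g * (a * a) := by rw [e2, ← mul_assoc c, c2, one_mul])
    have e4 : a = (a * a) ^ 3 := by
      calc a = a * a ^ 5 := by rw [a5, mul_one]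
        _ = _ := by rw [← _root_.sq, ← pow_mul, ← pow_succ']
    rw [e4]; exact pow_mem e3 3)
  obtain ⟨a, ha, e1⟩ := (mP _).1 (this k)
  have e2 := mem_centralizer_singleton_iff.1 ha.2
  rcases F.lift ha.1 hb e1 with h | h <;> rw [h]
  · exact e2
  · rw [mul_assoc, ← F.ga_u.2 g hg, ← mul_assoc, e2, mul_assoc]

/-- the lifts of `x 10` commute with the lifts of `x 8`, `x 9` -/
theorem G2.ga_89 (F : G2 A Y π u) {g : G} (hg : g ∈ A) {a : F4} (e : π g = Y.x 10 a) {r : Fin 12} {c : F4}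
    (hc : c = v ∨ c = w) (h1 : ∀ t, Y.ha * Y.x r t * Y.ha⁻¹ = Y.x r (c * t))
    (h2 : ∀ t, Y.x 10 a * Y.x r t = Y.x r t * Y.x 10 a) {b : G} (hb : b ∈ A) {t : F4} (eb : π b = Y.x r t) :
    g * b = b * g := by
  obtain ⟨t', rfl⟩ : ∃ t', t = t' + c * t' := by
    rcases hc with rfl | rfl <;> clear * - <;> revert t <;> decide
  obtain ⟨h, hh, eh⟩ := F.q.onto _ (Y.L_le_A Y.ha_mem)
  obtain ⟨y, hy, ey⟩ := F.q.onto _ (Y.x_mem r t')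
  obtain ⟨k, hk, k2, e1⟩ := F.ga_cm hg hy (by rw [e, ey, h2])
  have hy' := nA (AN hh) hy
  have e2 : g * (h * y * h⁻¹) * g⁻¹ * (h * y * h⁻¹)⁻¹ = k := by
    rw [F.q.cm_eq (nA (AN hh) hg) (In.of_A hg) hy' hy' (by
      rw [F.q.conj (AN hh) (AN hg), eh, e, Y.ha_x]; simp) rfl]
    calc _ = h * (g * y * g⁻¹ * y⁻¹) * h⁻¹ := by group
      _ = k := by rw [e1, hk h hh, mul_inv_cancel_right]
  have e3 := F.q.cm_eq hg (In.of_A hg) (mul_mem hy hy') hb rfl (by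
    rw [F.q.mul _ (AN hy) _ (AN hy'), F.q.conj (AN hh) (AN hy), eh, ey, h1, eb, Y.x_add])
  have e4 : g * b * g⁻¹ * b⁻¹ = 1 := by
    rw [e3]
    calc _ = g * y * g⁻¹ * y⁻¹ * (y * (g * (h * y * h⁻¹) * g⁻¹ * (h * y * h⁻¹)⁻¹) * y⁻¹) := by group
      _ = 1 := by rw [e1, e2, hk y hy, mul_inv_cancel_right, k2]
  rw [← mul_inv_eq_one, ← e4]; group

theorem G2.ga_10 (F : G2 A Y π u) {g b : G} (hg : g ∈ A) {a t : F4} (e : π g = Y.x 10 a) (hb : b ∈ A)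
    (eb : π b = Y.x 10 t) : g * b = b * g := by
  obtain ⟨n, hn, en⟩ := F.q.onto _ Y.nb_mem
  have := F.ga_cen (nA (AN hn) hb) (s := t) (by rw [F.q.conj (AN hn) (AN hb), en, eb, Y.nb_x]; rfl)
    (nA (AN hn) hg) (by
      rw [F.q.conj (AN hn) (AN hg), en, e, Y.nb_x]; exact Y.V_le_B (Y.vv_mem a))
  rw [conj_mul, conj_mul] at this
  simpa using this

theorem G2.ga_z (F : G2 A Y π u) : ∃ (z : F4 → G) (θ : G), (∀ e, z e ∈ A) ∧ (∀ e, π (z e) = Y.vv e) ∧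
    (∀ e e', z (e + e') = z e * z e') ∧ θ ∈ A ∧ π θ = Y.th ∧ ∀ e, θ * z e * θ⁻¹ = z (v * e) := by
  obtain ⟨θ, hθ, eθ⟩ := F.q.onto _ Y.th_mem
  choose l hl el using fun e => F.q.onto _ (Y.vv_A e)
  have tl : ∀ e, π (θ * l e * θ⁻¹) = Y.vv (v * e) := fun e => by
    rw [F.q.conj (AN hθ) (AN (hl e)), eθ, el, Y.th_vv]
  have sp : ∀ e, ∀ g ∈ A, π g = Y.vv e → θ * l e * θ⁻¹ * (l e)⁻¹ = θ * g * θ⁻¹ * g⁻¹ := fun e g hg k =>
    F.q.cm_eq hθ (In.of_A hθ) hg (hl e) rfl (by rw [k, el])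
  refine ⟨fun e => θ * l (v * e) * θ⁻¹ * (l (v * e))⁻¹, θ,
    fun e => mul_mem (nA (AN hθ) (hl _)) (inv_mem (hl _)), fun e => ?_, fun e e' => ?_, hθ, eθ, fun e => ?_⟩
  · rw [F.q.cm (AN hθ) (AN (hl _)), eθ, el, Y.th_vv, Y.vv_inv, Y.vv_add]
    congr 1; revert e; decide
  · have m := mul_mem (nA (AN hθ) (hl (v * e'))) (inv_mem (hl (v * e')))
    have c := F.ga_cen (hl (v * e)) (el _) m (by
      rw [F.q.mul _ (AN (nA (AN hθ) (hl _))) _ (AN (inv_mem (hl _))), tl, F.q.inv (AN (hl _)), el]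
      exact Y.V_le_B (mul_mem (Y.vv_mem _) (inv_mem (Y.vv_mem _))))
    simp only
    rw [sp _ _ (mul_mem (hl (v * e)) (hl (v * e'))) (by
      rw [F.q.mul _ (AN (hl _)) _ (AN (hl _)), el, el, Y.vv_add, mul_add])]
    calc _ = θ * l (v * e) * θ⁻¹ * (l (v * e))⁻¹ *
          (l (v * e) * (θ * l (v * e') * θ⁻¹ * (l (v * e'))⁻¹)) * (l (v * e))⁻¹ := by group
      _ = _ := by rw [← c]; group
  · simp only
    rw [sp _ _ (nA (AN hθ) (hl (v * e))) (tl _)]; group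

theorem G2.exists_cg (F : G2 A Y π u) : ∃ z θ χ, Cg A Y π u z θ χ := by
  obtain ⟨z, θ, zA, πz, zadd, θA, πθ, θz⟩ := F.ga_z
  choose l hl el using fun r t => F.q.onto _ (Y.x_mem r t)
  have pc : ∀ a x, π (l 10 a * l 6 x * (l 10 a)⁻¹ * (l 6 x)⁻¹) = Y.vv (a * x) := fun a x => by
    rw [F.q.cm (AN (hl ..)) (AN (hl ..)), el, el, ← Y.qa_10 0 0, ← Y.qa_6 0 0, Y.qa_conj, Y.qa_v,
      mul_inv_cancel_right]
    simp [AS.b4]
  have mc : ∀ a x, l 10 a * l 6 x * (l 10 a)⁻¹ * (l 6 x)⁻¹ ∈ A := fun a x =>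
    mul_mem (nA (AN (hl ..)) (hl ..)) (inv_mem (hl ..))
  have : ∀ a x, ∃ k, (k = 1 ∨ k = u) ∧ ∀ g ∈ A, ∀ h ∈ A, π g = Y.x 10 a → π h = Y.x 6 x →
      g * h * g⁻¹ * h⁻¹ = z (a * x) * k := fun a x => by
    have k : ∀ g ∈ A, ∀ h ∈ A, π g = Y.x 10 a → π h = Y.x 6 x →
        g * h * g⁻¹ * h⁻¹ = l 10 a * l 6 x * (l 10 a)⁻¹ * (l 6 x)⁻¹ := fun g hg h hh e1 e2 =>
      F.q.cm_eq (hl ..) (In.of_A hg) (hl ..) hh (by rw [el, e1]) (by rw [el, e2])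
    rcases F.lift (zA (a * x)) (mc a x) (by rw [pc, πz]) with h | h
    · exact ⟨1, Or.inl rfl, fun g hg h' hh e1 e2 => by rw [k g hg h' hh e1 e2, h, mul_one]⟩
    · exact ⟨u, Or.inr rfl, fun g hg h' hh e1 e2 => by rw [k g hg h' hh e1 e2, h]⟩
  choose κ κu hκ using this
  have κK : ∀ a x, κ a x ∈ 𝐂(A) := fun a x => by
    rcases κu a x with h | h <;> rw [h]
    exacts [one_mem _, F.ga_u.2]
  have z0 : z 0 = 1 := mul_left_cancel (a := z 0) (by rw [← zadd, add_zero, mul_one])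
  have κadd : ∀ a a' x, κ (a + a') x = κ a x * κ a' x := fun a a' x => by
    have e1 := hκ (a' + a) x _ (mul_mem (hl 10 a') (hl 10 a)) _ (hl 6 x)
      (by rw [F.q.mul _ (AN (hl ..)) _ (AN (hl ..)), el, el, Y.x_add]) (el ..)
    have c := F.ga_cen (mc a x) (pc a x) (hl 10 a') (by rw [el]; exact Y.x_B (by decide) _)
    have e2 : l 10 a' * l 10 a * l 6 x * (l 10 a' * l 10 a)⁻¹ * (l 6 x)⁻¹ =
        l 10 a * l 6 x * (l 10 a)⁻¹ * (l 6 x)⁻¹ * (l 10 a' * l 6 x * (l 10 a')⁻¹ * (l 6 x)⁻¹) := by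
      calc _ = l 10 a' * (l 10 a * l 6 x * (l 10 a)⁻¹ * (l 6 x)⁻¹) * l 6 x * (l 10 a')⁻¹ * (l 6 x)⁻¹ := by group
        _ = _ := by rw [c]; group
    rw [e2, hκ a x _ (hl ..) _ (hl ..) (el ..) (el ..), hκ a' x _ (hl ..) _ (hl ..) (el ..) (el ..),
      add_comm a' a, add_mul, zadd, mul_assoc, ← mul_assoc (κ a x), ← κK a x _ (zA _), mul_assoc,
      mul_assoc] at e1
    exact (mul_left_cancel (mul_left_cancel e1)).symm
  have κθ : ∀ a x, κ (w * a) (w * x) = κ a x := fun a x => by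
    have e1 := hκ (w * a) (w * x) _ (nA (AN θA) (hl 10 a)) _ (nA (AN θA) (hl 6 x))
      (by rw [F.q.conj (AN θA) (AN (hl ..)), πθ, el, Y.th_x]; rfl)
      (by rw [F.q.conj (AN θA) (AN (hl ..)), πθ, el, Y.th_x]; rfl)
    have e2 : θ * l 10 a * θ⁻¹ * (θ * l 6 x * θ⁻¹) * (θ * l 10 a * θ⁻¹)⁻¹ * (θ * l 6 x * θ⁻¹)⁻¹ =
        θ * (l 10 a * l 6 x * (l 10 a)⁻¹ * (l 6 x)⁻¹) * θ⁻¹ := by group
    rw [e2, hκ a x _ (hl ..) _ (hl ..) (el ..) (el ..), ← conj_mul, θz, κK a x θ θA, mul_inv_cancel_right,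
      show w * a * (w * x) = v * (a * x) by clear * -; revert a x; decide] at e1
    exact (mul_left_cancel e1).symm
  have κχ : ∀ a x, κ a x = κ (a * x * x) 1 := fun a x => by
    rcases H10.Sz.cas x with rfl | rfl | rfl | rfl
    · have e1 := hκ a 0 _ (hl 10 a) 1 (one_mem _) (el ..) (by rw [F.q.one', Y.x_zero])
      have e2 := hκ 0 1 1 (one_mem _) _ (hl 6 1) (by rw [F.q.one', Y.x_zero]) (el ..)
      simp only [mul_zero, zero_mul, z0, one_mul, mul_one, mul_inv_cancel, inv_one] at e1 e2 ⊢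
      rw [← e1, ← e2]
    · simp
    · rw [← κθ _ 1]; congr 1 <;> clear * - <;> revert a <;> decide
    · rw [← κθ a]; congr 1 <;> clear * - <;> revert a <;> decide
  refine ⟨z, θ, fun y => κ y 1, zA, πz, zadd, θA, πθ, θz, fun y y' => κadd y y' 1, fun y => κu y 1,
    fun b hb k e => F.ga_cen (zA e) (πz e) hb k, fun g hg g' hg' a t s e e' => ?_⟩
  have c8 : Commute g (l 8 (t 3)) := F.ga_89 hg e (Or.inl rfl) (Y.ha_x 8) (fun t => by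
    rw [← Y.qa_10 0 0, ← Y.qa_8 0 0, Y.qa_comm]; simp [AS.b4, Y.vv_zero]) (hl ..) (el ..)
  have c9 : Commute g (l 9 (t 4)) := F.ga_89 hg e (Or.inr rfl) (Y.ha_x 9) (fun t => by
    rw [← Y.qa_10 0 0, ← Y.qa_9 0 0, Y.qa_comm]; simp [AS.b4, Y.vv_zero]) (hl ..) (el ..)
  have c10 : Commute g (l 10 (t 5)) := F.ga_10 hg e (hl ..) (el ..)
  have c11 : Commute g (z s) := F.ga_cen (zA s) (πz s) hg (by rw [e]; exact Y.x_B (by decide) _)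
  have c := (((c8.mul_right c9).mul_right c10).mul_right c11).eq
  have m8 := hl 8 (t 3)
  have m9 := mul_mem m8 (hl 9 (t 4))
  have m10 := mul_mem m9 (hl 10 (t 5))
  have m11 := mul_mem m10 (zA s)
  rw [F.q.cm_eq hg (In.of_A hg) (mul_mem (hl 6 (t 2)) m11) hg' rfl (by
    rw [F.q.mul _ (AN (hl ..)) _ (AN m11), F.q.mul _ (AN m10) _ (AN (zA s)), F.q.mul _ (AN m9) _ (AN (hl ..)),
      F.q.mul _ (AN m8) _ (AN (hl ..)), el, el, el, el, πz, e', AS.Rt.qa]; group), ← κχ,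
    ← hκ a (t 2) g hg _ (hl ..) e (el ..)]
  generalize l 8 (t 3) * l 9 (t 4) * l 10 (t 5) * z s = r at c
  calc _ = g * l 6 (t 2) * g⁻¹ * (g * r) * g⁻¹ * r⁻¹ * (l 6 (t 2))⁻¹ := by group
    _ = _ := by rw [c]; group

end H79.A4
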