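import Cfsg.Agent.Lib.A41.GN

/-! The double cover of `G₂(4)`: the long case. -/

set_option autoImplicit false
set_option linter.unusedSectionVars false

namespace H79.A4

open H69 Subgroup Cfsg H30 H30.F4
open H10.HeS (T2)

variable {G Γ : Type*} [Group G] [Group Γ] [Finite G] [Finite Γ] {A : Subgroup G} {Y : AS.St Γ} {π : G → Γ}
  {u : G}

theorem gb_cm_in (F : G2 A Y π u) {a b : G} (ha : a ∈ 𝐍(A)) (hb : b ∈ 𝐍(A)) :
    In A (a * b * a⁻¹ * b⁻¹) := by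
  rcases F.mul_in ha hb with h | h | h
  · have := h.mul (h.inv.conj hb)
    rwa [show a * (b * a⁻¹ * b⁻¹) = a * b * a⁻¹ * b⁻¹ by group] at this
  · exact (h.conj ha).mul h.inv
  · have := h.mul (h.conj (inv_mem ha)).inv
    rwa [show a * b * (a⁻¹ * (a * b) * a⁻¹⁻¹)⁻¹ = a * b * a⁻¹ * b⁻¹ by group] at this

theorem gb_card_pre (F : G2 A Y π u) {P' : Subgroup Γ} (le : P' ≤ Y.A) {P : Subgroup G}
    (hP : ∀ g, g ∈ P ↔ g ∈ A ∧ π g ∈ P') : Nat.card P = Nat.card P' * 2 := by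
  obtain ⟨P'', h1, -, -, h2⟩ := F.q.im (P := P) fun g hg => AN ((hP g).1 hg).1
  have e1 : P'' = P' := by
    ext y
    rw [h1]
    constructor
    · rintro ⟨g, hg, rfl⟩; exact ((hP g).1 hg).2
    · intro hy
      obtain ⟨a, ha, rfl⟩ := F.q.onto y (le hy)
      exact ⟨a, (hP a).2 ⟨ha, hy⟩, rfl⟩
  have hu := (F.cen u).2 (Or.inr rfl)
  have e2 : P ⊓ 𝐂(A) = zpowers u := by
    apply le_antisymm
    · rintro c ⟨c1, c2⟩
      rcases (F.cen c).1 ⟨((hP c).1 c1).1, c2⟩ with rfl | rfl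
      · exact one_mem _
      · exact mem_zpowers _
    · rw [zpowers_le]
      exact ⟨(hP u).2 ⟨hu.1, by rw [F.q.one u hu.2]; exact one_mem _⟩, hu.2⟩
  have : Fact (Nat.Prime 2) := ⟨Nat.prime_two⟩
  rw [h2, e1, e2, Nat.card_zpowers, orderOf_eq_prime (p := 2) (by rw [sq, F.sq]) F.ne]

theorem gb_qcm (X : AS.Rt Γ) (t t' : AS.V6) (s s' : F4) :
    X.qa t * X.vv s * (X.qa t' * X.vv s') * (X.qa t * X.vv s)⁻¹ * (X.qa t' * X.vv s')⁻¹ =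
      X.vv (AS.b4 t t') := by
  have e : X.qa t * X.vv s * (X.qa t' * X.vv s') =
      X.qa t' * X.vv s' * (X.qa t * X.vv s) * X.vv (AS.b4 t t') := by
    rw [X.qv_mul, X.qv_mul, mul_assoc, X.vv_add, add_comm t' t, AS.b4]
    congr 2
    have h2 : (2 : F4) = 0 := two_eq_zero
    linear_combination (-(t 2 * t' 5) - t 3 * t' 4) * h2
  have c : ∀ g ∈ X.QA, ∀ r, g * X.vv r = X.vv r * g := fun g hg =>
    X.mem_CV.1 (X.B_le_CV (X.QA_le_B hg))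
  have hm : X.qa t' * X.vv s' * (X.qa t * X.vv s) ∈ X.QA :=
    mul_mem (X.mem_QA.2 ⟨_, _, rfl⟩) (X.mem_QA.2 ⟨_, _, rfl⟩)
  rw [e, c _ hm]; group

section
variable {z : F4 → G} {θ : G} {χ : F4 → G}

theorem gb_χK (C : Cg A Y π u z θ χ) (F : G2 A Y π u) (y : F4) : χ y ∈ A ∧ χ y ∈ 𝐂(A) :=
  (F.cen _).2 (C.χ_u y)

theorem gb_χsq (C : Cg A Y π u z θ χ) (F : G2 A Y π u) (y : F4) : χ y * χ y = 1 := by
  rcases C.χ_u y with h | h <;> rw [h]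
  · exact mul_one 1
  · exact F.sq

theorem gb_z0 (C : Cg A Y π u z θ χ) : z 0 = 1 := by
  have := C.z_add 0 0
  rw [add_zero] at this
  exact (mul_eq_left.1 this.symm)

theorem gb_χ0 (C : Cg A Y π u z θ χ) : χ 0 = 1 := by
  have := C.χ_add 0 0
  rw [add_zero] at this
  exact (mul_eq_left.1 this.symm)

theorem gb_zχ (C : Cg A Y π u z θ χ) (F : G2 A Y π u) (e e' y y' : F4) :
    z e * χ y * (z e' * χ y') = z (e + e') * χ (y + y') := by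
  have := (gb_χK C F y).2 _ (C.z_A e')
  rw [C.z_add, C.χ_add, mul_assoc, ← mul_assoc (χ y), ← this]; group

theorem gb_πzχ (C : Cg A Y π u z θ χ) (F : G2 A Y π u) (e y : F4) : π (z e * χ y) = Y.vv e := by
  rw [F.q.mulK (AN (C.z_A e)) (gb_χK C F y).2, C.π_z]

theorem gb_ker (C : Cg A Y π u z θ χ) (F : G2 A Y π u) :
    (∃ y ≠ 0, χ y = u) ∧ ∃ y ≠ 0, χ y = 1 := by
  obtain ⟨y, hy⟩ := C.ne F
  have y0 : y ≠ 0 := fun h => F.ne (by rw [← hy, h, gb_χ0 C])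
  refine ⟨⟨y, y0, hy⟩, ?_⟩
  have e : y = w * y + v * y := by clear * -; decide +revert
  rcases C.χ_u (w * y) with h | h
  · exact ⟨_, mul_ne_zero (by decide) y0, h⟩
  rcases C.χ_u (v * y) with h' | h'
  · exact ⟨_, mul_ne_zero (by decide) y0, h'⟩
  rw [e, C.χ_add, h, h', F.sq] at hy
  exact absurd hy.symm F.ne

/-- the four commutators with a long root element do not centralise another conjugate -/
theorem gb_no_all (C : Cg A Y π u z θ χ) (F : G2 A Y π u) {M : Subgroup G}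
    (hM : IsStandardSubgroup M) (hu : u ∉ 𝐂(M)) {t : F4} (ht : t ≠ 0)
    (h : ∀ x, z (t * x) * χ (t * x * x) ∈ 𝐂(M)) : False := by
  obtain ⟨⟨y0, n0, e0⟩, y1, n1, e1⟩ := gb_ker C F
  have m : ∀ x, θ * (z (t * x) * χ (t * x * x)) * θ⁻¹ =
      z (t * (v * x)) * χ (t * (v * x) * (v * x)) * χ (t * x * x * v) := fun x => by
    have c := (gb_χK C F (t * x * x)).2 _ C.θ_A
    have e : t * x * x = t * (v * x) * (v * x) + t * x * x * v := by clear * -; decide +revert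
    rw [mul_assoc (z _), ← C.χ_add, ← e, show t * (v * x) = v * (t * x) by ring, ← C.θ_z]
    calc θ * (z (t * x) * χ (t * x * x)) * θ⁻¹
        = θ * z (t * x) * θ⁻¹ * (θ * χ (t * x * x)) * θ⁻¹ := by group
      _ = _ := by rw [c]; group
  have ex : ∀ y : F4, y ≠ 0 → ∃ x, x ≠ 0 ∧ t * x * x * v = y := by
    revert ht; clear * -; decide +revert
  obtain ⟨x1, a1, b1⟩ := ex y1 n1
  obtain ⟨x0, -, b0⟩ := ex y0 n0
  have hθ : θ ∈ 𝐍(M) := by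
    refine ti hM (h x1) (T2.of_sq ?_) (fun e => ?_) ?_
    · rw [gb_zχ C F, AS.f4_self, AS.f4_self, gb_z0 C, gb_χ0 C, mul_one]
    · have := gb_πzχ C F (t * x1) (t * x1 * x1)
      rw [e, F.q.one', ← Y.vv_zero] at this
      exact mul_ne_zero ht a1 (Y.vv_inj this).symm
    · rw [m, b1, e1, mul_one]; exact h _
  have := nK hθ (h x0)
  rw [m, b0, e0] at this
  exact hu ((mul_mem_cancel_left (h _)).1 this)

end

theorem gb_core (F : G2 A Y π u) {M : Subgroup G} {d : G} (h : Dk A M d) (hd : d ∈ 𝐍(A))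
    (e : π d = Y.z) : False := by
  obtain ⟨z, θ, χ, C⟩ := F.exists_cg
  obtain ⟨⟨y0, n0, e0⟩, y1, n1, e1⟩ := gb_ker C F
  have hM : IsStandardSubgroup M := h.cj.std F.q.std
  have huA := (F.cen u).2 (Or.inr rfl)
  have hu : u ∉ 𝐂(M) := fun hu => F.ne (h.cj.one F.q.std h.ne huA.2 hu (T2.of_sq F.sq))
  obtain ⟨Bh, hB⟩ := F.q.pre Y.B
  obtain ⟨k, hk, ed⟩ := F.q.eq (AN (C.z_A 1)) hd (by rw [C.π_z, e, Y.z_eq])
  have hBA : ∀ b ∈ Bh, b ∈ A := fun b hb => ((hB b).1 hb).1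
  have hBM : ∀ b ∈ Bh, b ∈ 𝐍(M) := fun b hb => by
    refine h.cN F.q.std ?_
    rw [ed, ← mul_assoc, C.cen b (hBA b hb) ((hB b).1 hb).2, mul_assoc, hk b (hBA b hb), mul_assoc]
  have uB : u ∈ Bh := (hB u).2 ⟨huA.1, by rw [F.q.one u huA.2]; exact one_mem _⟩
  choose g10 a10 p10 using fun a => F.q.onto _ (Y.x_mem 10 a)
  choose g6 a6 p6 using fun a => F.q.onto _ (Y.x_mem 6 a)
  have q10 : ∀ a, π (g10 a) ∈ Y.QA := fun a => by rw [p10, ← Y.qa_10 0 0]; exact Y.qa_mem _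
  have q6 : ∀ a, π (g6 a) ∈ Y.QA := fun a => by rw [p6, ← Y.qa_6 0 0]; exact Y.qa_mem _
  have b10 : ∀ a, g10 a ∈ Bh := fun a => (hB _).2 ⟨a10 a, Y.QA_le_B (q10 a)⟩
  have b6 : ∀ a, g6 a ∈ Bh := fun a => (hB _).2 ⟨a6 a, Y.QA_le_B (q6 a)⟩
  have cm6 : ∀ g ∈ A, ∀ a, π g = Y.x 10 a → ∀ x,
      g * g6 x * g⁻¹ * (g6 x)⁻¹ = z (a * x) * χ (a * x * x) := fun g hg a ha x => by
    have := C.cm g hg (g6 x) (a6 x) a ![0, 0, x, 0, 0, 0] 0 ha (by rw [p6, Y.qa_6, Y.vv_zero, mul_one])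
    simpa using this
  obtain ⟨π0, u0, F0⟩ := F.of_cj h.cj
  have uin : In M u := by
    have k1 : ∀ x : F4, x ≠ 0 → In M (z 1 * χ x) := fun x hx => by
      have := gb_cm_in F0 (hBM _ (b10 x⁻¹)) (hBM _ (b6 x))
      rwa [cm6 _ (a10 _) _ (p10 _), inv_mul_cancel₀ hx, one_mul] at this
    have := (k1 (w * y0) (mul_ne_zero (by decide) n0)).mul (k1 (v * y0) (mul_ne_zero (by decide) n0))
    rwa [gb_zχ C F, AS.f4_self, gb_z0 C, one_mul,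
      show w * y0 + v * y0 = y0 by clear * -; decide +revert, e0] at this
  have Bin : ∀ b ∈ Bh, In M b := by
    have k1 : ∀ l ∈ AS.F5 (Y.B : Set Γ), ∃ b ∈ A, π b = l ∧ In M b := fun l hl => by
      induction hl using closure_induction with
      | mem l hl =>
        obtain ⟨a, ha, a5, rfl⟩ := F.five (Y.B_le_A hl.1) hl.2
        have := hBM a ((hB a).2 ⟨ha, hl.1⟩)
        exact ⟨a, ha, rfl, (F0.q.in_iff this).2 (F0.five_in this a5)⟩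
      | one => exact ⟨1, one_mem _, F.q.one', In.of_A (one_mem _)⟩
      | mul x y _ _ hx hy =>
        obtain ⟨a, ha, rfl, ia⟩ := hx
        obtain ⟨b, hb, rfl, ib⟩ := hy
        exact ⟨a * b, mul_mem ha hb, F.q.mul _ (AN ha) _ (AN hb), ia.mul ib⟩
      | inv x _ hx =>
        obtain ⟨a, ha, rfl, ia⟩ := hx
        exact ⟨a⁻¹, inv_mem ha, F.q.inv (AN ha), ia.inv⟩
    intro b hb
    obtain ⟨b', hb', e', ib⟩ := k1 (π b) (Y.p1.B_five ▸ ((hB b).1 hb).2)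
    rcases F.lift hb' (hBA b hb) e' with r | r <;> rw [r]
    · exact ib
    · exact ib.mul uin
  -- the kernel `J0`
  obtain ⟨J, hJ, -, -, cJ⟩ := F.q.im (P := Bh ⊓ 𝐂(M)) fun g hg => AN (hBA g hg.1)
  have J1 : (Bh ⊓ 𝐂(M)) ⊓ 𝐂(A) = ⊥ := by
    rw [eq_bot_iff]
    rintro c ⟨⟨c1, c2⟩, c3⟩
    rcases (F.cen c).1 ⟨hBA c c1, c3⟩ with r | r
    · exact r
    · exact absurd (r ▸ c2) hu
  rw [J1, card_bot, mul_one] at cJ
  have JV : J ≤ Y.V := by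
    refine (Y.p1.B_norm J (fun y hy => ?_) (le_normalizer_iff.2 fun l hl y hy => ?_)).resolve_right ?_
    · obtain ⟨g, hg, rfl⟩ := (hJ y).1 hy
      exact ((hB g).1 hg.1).2
    · obtain ⟨g, hg, rfl⟩ := (hJ y).1 hy
      obtain ⟨b, hb, rfl⟩ := F.q.onto l (Y.B_le_A hl)
      have bB := (hB b).2 ⟨hb, hl⟩
      exact (hJ _).2 ⟨b * g * b⁻¹, ⟨Bh.mul_mem (Bh.mul_mem bB hg.1) (Bh.inv_mem bB), nK (hBM b bB) hg.2⟩,
        F.q.conj (AN hb) (AN (hBA g hg.1))⟩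
    · rintro ⟨t, ht, h1, -⟩
      obtain ⟨j, hj, ej⟩ := (hJ _).1 h1
      refine gb_no_all C F hM hu ht fun x => ?_
      rw [← cm6 j (hBA j hj.1) t ej x, show j * g6 x * j⁻¹ * (g6 x)⁻¹ = j * (g6 x * j⁻¹ * (g6 x)⁻¹) by group]
      exact mul_mem hj.2 (nK (hBM _ (b6 x)) (inv_mem hj.2))
  have c4 : Nat.card (Bh ⊓ 𝐂(M) : Subgroup G) ≤ 4 := by
    rw [cJ, ← Y.card_V]; exact card_le_of_le JV
  have cB : Nat.card Bh = 122880 := by rw [gb_card_pre F Y.B_le_A hB, Y.p1.card_B]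
  -- the frame of `M`
  have uM : u ∈ 𝐍(M) := uin.mem
  obtain ⟨π1, F1, hl⟩ : ∃ π1, G2 M Y π1 u0 ∧ (π1 u = Y.z ∨ π1 u = Y.x 9 1) := by
    obtain ⟨g, hg, hc⟩ := Y.p2.cls (π0 u) ((F0.q.in_iff uM).1 uin)
      (by rw [← F0.q.mul _ uM _ uM, F.sq, F0.q.one']) (fun e => hu ((F0.q.eq_one uM).1 e))
    obtain ⟨π1, F1, h1⟩ := F0.inner hg
    exact ⟨π1, F1, by rw [h1 u uM]; exact hc⟩
  obtain ⟨B1, hB1, -, -, cB1⟩ := F1.q.im (P := Bh) hBM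
  have B1c : B1 ≤ Y.A ⊓ centralizer {π1 u} := fun y hy => by
    obtain ⟨b, hb, rfl⟩ := (hB1 y).1 hy
    refine ⟨(F1.q.in_iff (hBM b hb)).1 (Bin b hb), mem_centralizer_singleton_iff.2 ?_⟩
    rw [← F1.q.mul _ (hBM b hb) _ uM, ← F1.q.mul _ uM _ (hBM b hb), huA.2 b (hBA b hb)]
  rw [cB] at cB1
  have big : 30720 ≤ Nat.card B1 := by nlinarith
  rcases hl with hl | hl
  swap
  · have := card_le_of_le B1c
    rw [hl, Y.p2.card_cS] at this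
    omega
  rw [hl, Y.cent_z] at B1c
  have B1e : B1 = Y.B := by
    refine le_antisymm B1c ?_
    rw [Y.p1.B_five]
    exact AS.F5_le fun g hg g5 => AS.five_mem B1c (by rw [Y.p1.card_B]; omega) hg g5
  rw [B1e, Y.p1.card_B] at cB1
  have c2 : Nat.card (Bh ⊓ 𝐂(M) : Subgroup G) = 2 := by omega
  -- the preimage of `QA`
  obtain ⟨Qh, hQ⟩ := F.q.pre Y.QA
  have QB : Qh ≤ Bh := fun g hg => (hB g).2 ⟨((hQ g).1 hg).1, Y.QA_le_B ((hQ g).1 hg).2⟩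
  have cQ : Nat.card Qh = 2048 := by
    rw [gb_card_pre F (Y.QA_le_B.trans Y.B_le_A) hQ, Y.card_QA]
  obtain ⟨Q1, hQ1, -, pQ1, cQ1⟩ := F1.q.im (P := Qh) fun g hg => hBM g (QB hg)
  have Q1le : Q1 ≤ Y.QA := by
    refine Y.p1.B_core Q1 (fun y hy => ?_) (le_normalizer_iff.2 fun l hl y hy => ?_)
      (pQ1 (IsPGroup.of_card (n := 11) (by rw [cQ]; norm_num)))
    · obtain ⟨g, hg, rfl⟩ := (hQ1 y).1 hy
      exact B1e ▸ (hB1 _).2 ⟨g, QB hg, rfl⟩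
    · obtain ⟨g, hg, rfl⟩ := (hQ1 y).1 hy
      obtain ⟨b, hb, rfl⟩ := (hB1 l).1 (B1e ▸ hl)
      have gA := ((hQ g).1 hg).1
      refine (hQ1 _).2 ⟨b * g * b⁻¹, (hQ _).2 ⟨nA (AN (hBA b hb)) gA, ?_⟩,
        F1.q.conj (hBM b hb) (hBM g (QB hg))⟩
      rw [F.q.conj (AN (hBA b hb)) (AN gA)]
      exact le_normalizer_iff.1 Y.B_norm_QA _ ((hB b).1 hb).2 _ ((hQ g).1 hg).2
  have Q1e : Q1 = Y.QA := by
    refine eq_of_le_of_card_ge Q1le ?_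
    have : Nat.card (Qh ⊓ 𝐂(M) : Subgroup G) ≤ 2 := c2 ▸ card_le_of_le (inf_le_inf_right _ QB)
    rw [cQ] at cQ1
    rw [Y.card_QA]; nlinarith
  -- the involution of `J0`
  obtain ⟨⟨j, hj⟩, j1⟩ : ∃ j : (Bh ⊓ 𝐂(M) : Subgroup G), j ≠ 1 := by
    have := Finite.one_lt_card_iff_nontrivial.1 (show 1 < Nat.card (Bh ⊓ 𝐂(M) : Subgroup G) by omega)
    exact exists_ne 1
  obtain ⟨ε, hε⟩ := Y.mem_V.1 (JV ((hJ _).2 ⟨j, hj, rfl⟩))
  have ε0 : ε ≠ 0 := fun h0 => by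
    rw [h0, Y.vv_zero] at hε
    have : j ∈ (Bh ⊓ 𝐂(M)) ⊓ 𝐂(A) := ⟨hj, (F.q.eq_one (AN (hBA j hj.1))).1 hε⟩
    rw [J1] at this
    exact j1 (Subtype.ext this)
  obtain ⟨y, yn, ej⟩ : ∃ y ≠ 0, j = z ε * χ y := by
    rcases F.lift (C.z_A ε) (hBA j hj.1) (by rw [C.π_z, hε]) with r | r
    · exact ⟨y1, n1, by rw [r, e1, mul_one]⟩
    · exact ⟨y0, n0, by rw [r, e0]⟩
  obtain ⟨a, x, an, xn, ea, ey⟩ : ∃ a x : F4, a ≠ 0 ∧ x ≠ 0 ∧ a * x = ε ∧ a * x * x = y := by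
    revert ε0 yn; clear * -; decide +revert
  have gQ : g10 a ∈ Qh := (hQ _).2 ⟨a10 a, q10 a⟩
  obtain ⟨t, s, et⟩ := Y.mem_QA.1 (Q1le ((hQ1 _).2 ⟨_, gQ, rfl⟩))
  have key : ∀ g ∈ Qh, ∀ t' s', π1 g = Y.qa t' * Y.vv s' →
      π1 (g10 a * g * (g10 a)⁻¹ * g⁻¹) = Y.vv (AS.b4 t t') := fun g hg t' s' e' => by
    rw [F1.q.cm (hBM _ (b10 a)) (hBM g (QB hg)), et, e', gb_qcm]
  by_cases hb : ∀ t', AS.b4 t t' = 0
  · refine gb_no_all C F hM hu an fun x' => ?_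
    have gx : g6 x' ∈ Qh := (hQ _).2 ⟨a6 x', q6 x'⟩
    obtain ⟨t', s', e'⟩ := Y.mem_QA.1 (Q1le ((hQ1 _).2 ⟨_, gx, rfl⟩))
    have := key _ gx _ _ e'
    rw [hb, Y.vv_zero, F1.q.eq_one (gb_cm_in F1 (hBM _ (b10 a)) (hBM _ (b6 x'))).mem,
      cm6 _ (a10 a) a (p10 a)] at this
    exact this
  push Not at hb
  obtain ⟨t0, ht0⟩ := hb
  have all : ∀ s' : F4, ∃ r, π1 (z (a * r) * χ (a * r * r)) = Y.vv s' := fun s' => by
    obtain ⟨g, hg, eg⟩ := (hQ1 _).1 (Q1e ▸ Y.qa_mem ((s' / AS.b4 t t0) • t0))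
    obtain ⟨t', s'', e'⟩ := Y.mem_QA.1 ((hQ g).1 hg).2
    refine ⟨t' 2, ?_⟩
    rw [← C.cm _ (a10 a) g ((hQ g).1 hg).1 a t' s'' (p10 a) e',
      key g hg _ 0 (by rw [eg, Y.vv_zero, mul_one])]
    congr 1
    have : AS.b4 t ((s' / AS.b4 t t0) • t0) = s' / AS.b4 t t0 * AS.b4 t t0 := by
      generalize s' / AS.b4 t t0 = c
      simp only [AS.b4, Pi.smul_apply, smul_eq_mul]; ring
    rw [this, div_mul_cancel₀ _ ht0]
  choose r hr using all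
  have inj : Function.Injective r := fun p q e' => Y.vv_inj (by rw [← hr p, ← hr q, e'])
  obtain ⟨p, hp⟩ := Finite.surjective_of_injective inj x
  obtain ⟨q, hq⟩ := Finite.surjective_of_injective inj 0
  have p0 : p = 0 := Y.vv_inj (by rw [← hr p, hp, ey, ea, ← ej, F1.q.one j hj.2, Y.vv_zero])
  have q0 : q = 0 := Y.vv_inj (by
    rw [← hr q, hq, mul_zero, mul_zero, gb_z0 C, gb_χ0 C, mul_one, F1.q.one', Y.vv_zero])
  exact xn (by rw [← hp, ← hq, p0, q0])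

theorem G2.long (F : G2 A Y π u) {M : Subgroup G} {d : G} (h : Dk A M d) (hd : d ∈ 𝐍(A)) {l : Γ}
    (hl : l ∈ Y.A) (e : l * π d * l⁻¹ = Y.z) : False := by
  obtain ⟨π', F', h'⟩ := F.inner hl
  exact gb_core F' h hd (by rw [h' d hd, e])

end H79.A4
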