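import Cfsg.Agent.Lib.A41.GB

/-! The double cover of `G₂(4)`: the short case and the outer case. -/

set_option autoImplicit false
set_option linter.unusedSectionVars false

namespace H79.A4

open H69 Subgroup Cfsg H30 H30.F4
open H10.HeS (T2)

variable {G Γ : Type*} [Group G] [Group Γ] [Finite G] [Finite Γ] {A : Subgroup G} {Y : AS.St Γ} {π : G → Γ}
  {u : G}

/-- the group generated by the elements of order five over the centraliser of a short root element -/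
def gcF (A : Subgroup G) (Y : AS.St Γ) (π : G → Γ) : Subgroup G :=
  AS.F5 {g | g ∈ A ∧ π g * Y.x 9 1 = Y.x 9 1 * π g}

omit [Finite G] [Finite Γ] in
theorem gc_le : gcF A Y π ≤ A := AS.F5_le fun _ h _ => h.1

theorem gc_uA (F : G2 A Y π u) : u ∈ A := ((F.cen u).2 (Or.inr rfl)).1

theorem gc_uK (F : G2 A Y π u) : u ∈ 𝐂(A) := ((F.cen u).2 (Or.inr rfl)).2

theorem gc_cj (F : G2 A Y π u) {g a : G} (hg : g ∈ A) (e : π g * Y.x 9 1 = Y.x 9 1 * π g)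
    (ha : a ∈ gcF A Y π) : g * a * g⁻¹ ∈ gcF A Y π := by
  refine AS.cj_closure (fun s hs => AS.mem_F5 ⟨mul_mem (mul_mem hg hs.1.1) (inv_mem hg), ?_⟩ ?_) ha
  · rw [F.q.conj (AN hg) (AN hs.1.1)]
    exact ((Commute.mul_left e hs.1.2).mul_left (Commute.inv_left e)).eq
  · rw [conj_pow, hs.2]; group

theorem gc_lift (F : G2 A Y π u) {l : Γ}
    (hl : l ∈ AS.F5 ((Y.A ⊓ centralizer {Y.x 9 1} : Subgroup Γ) : Set Γ)) :
    ∃ a ∈ gcF A Y π, π a = l := by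
  induction hl using closure_induction with
  | mem x hx =>
    obtain ⟨a, ha, h5, rfl⟩ := F.five hx.1.1 hx.2
    exact ⟨a, AS.mem_F5 ⟨ha, mem_centralizer_singleton_iff.1 hx.1.2⟩ h5, rfl⟩
  | one => exact ⟨1, one_mem _, F.q.one'⟩
  | mul x y _ _ hx hy =>
    obtain ⟨a, ha, rfl⟩ := hx
    obtain ⟨b, hb, rfl⟩ := hy
    exact ⟨a * b, mul_mem ha hb, F.q.mul _ (AN (gc_le ha)) _ (AN (gc_le hb))⟩
  | inv x _ hx =>
    obtain ⟨a, ha, rfl⟩ := hx
    exact ⟨a⁻¹, inv_mem ha, F.q.inv (AN (gc_le ha))⟩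

theorem gc_mem (F : G2 A Y π u) :
    u ∈ gcF A Y π ∧ ∀ g ∈ A, π g = Y.vv 1 → g ∈ gcF A Y π := by
  obtain ⟨z, θ, χ, C⟩ := F.exists_cg
  obtain ⟨y0, h0⟩ := C.ne F
  obtain ⟨n, hn, en⟩ := F.q.onto _ Y.nb_mem
  have e9 : π n * Y.x 9 1 = Y.x 9 1 * π n := by
    rw [en, ← mul_inv_eq_iff_eq_mul]
    exact Y.nb_x 9 1
  have s1 : ∀ a, (∃ g ∈ gcF A Y π, π g = Y.vv a) → ∀ x, z (a * x) * χ (a * x * x) ∈ gcF A Y π := by
    rintro a ⟨g, hg, eg⟩ x
    obtain ⟨k, hk, ek⟩ := F.q.onto _ (Y.x_mem 6 x)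
    have h1 := gc_cj F hn e9 hg
    have e1 : π (n * g * n⁻¹) = Y.x 10 a := by
      rw [F.q.conj (AN hn) (AN (gc_le hg)), en, eg]
      exact Y.nb_x 11 a
    have e2 := C.cm _ (gc_le h1) k hk a ![0, 0, x, 0, 0, 0] 0 e1
      (by rw [ek, Y.qa_6, Y.vv_zero, mul_one])
    have e3 : π k * Y.x 9 1 = Y.x 9 1 * π k := by
      have := Y.qa_comm ![0, 0, x, 0, 0, 0] ![0, 0, 0, 0, 1, 0]
      rw [Y.qa_6, Y.qa_9, show AS.b4 ![0, 0, x, 0, 0, 0] ![0, 0, 0, 0, 1, 0] = 0 by simp [AS.b4],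
        Y.vv_zero, mul_one] at this
      rwa [ek]
    have h2 := mul_mem h1 (gc_cj F hk e3 (inv_mem h1))
    rw [← mul_assoc, ← mul_assoc, e2] at h2
    exact h2
  have χK : ∀ y, χ y ∈ 𝐂(A) := fun y => ((F.cen _).2 (C.χ_u y)).2
  have s2 : ∀ a x, z (a * x) * χ (a * x * x) ∈ gcF A Y π := fun a =>
    s1 a ⟨_, s1 1 (gc_lift F Y.p2.cS_z) a, by rw [F.q.mulK (AN (C.z_A _)) (χK _), C.π_z, one_mul]⟩
  have s3 : ∀ x ≠ 0, z 1 * χ x ∈ gcF A Y π := fun x hx => by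
    have := s2 x⁻¹ x
    rwa [inv_mul_cancel₀ hx, one_mul] at this
  have c0 : χ 0 = 1 := by
    have := C.χ_add 0 0
    rwa [add_zero, left_eq_mul] at this
  have y1 : y0 ≠ 0 := by
    rintro rfl
    exact F.ne (h0.symm.trans c0)
  obtain ⟨y, hy, hy'⟩ : ∃ y : F4, y ≠ 0 ∧ y0 + y ≠ 0 := by
    clear * -
    decide +revert
  have s4 : z 1 ∈ gcF A Y π := by
    rcases C.χ_u y with h | h
    · simpa [h] using s3 y hy
    · have := s3 _ hy'
      rwa [C.χ_add, h0, h, F.sq, mul_one] at this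
  have s5 : u ∈ gcF A Y π := by
    have := mul_mem (inv_mem s4) (s3 y0 y1)
    rwa [inv_mul_cancel_left, h0] at this
  refine ⟨s5, fun g hg e => ?_⟩
  rcases F.lift (C.z_A 1) hg ((C.π_z 1).trans e.symm) with rfl | rfl
  · exact s4
  · exact mul_mem s4 s5

theorem gc_sq (F : G2 A Y π u) {g : G} (hg : g ∈ A) (e : π g = Y.vv 1) : g * g = 1 := by
  obtain ⟨z, θ, χ, C⟩ := F.exists_cg
  have h0 : z 0 = 1 := by
    have := C.z_add 0 0
    rwa [add_zero, left_eq_mul] at this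
  have h1 : z 1 * z 1 = 1 := by rw [← C.z_add, AS.f4_self, h0]
  rcases F.lift (C.z_A 1) hg ((C.π_z 1).trans e.symm) with rfl | rfl
  · exact h1
  · rw [mul_assoc, ← mul_assoc u, ← gc_uK F _ (C.z_A 1), mul_assoc, F.sq, mul_one, h1]

theorem gc_cls (F : G2 A Y π u) {M : Subgroup G} {d : G} (h : Dk A M d) (hd : In A d) :
    ∃ π' : G → Γ, G2 A Y π' u ∧ π' d = Y.x 9 1 := by
  obtain ⟨l, hl, e | e⟩ := Y.p2.cls (π d) ((F.q.in_iff hd.mem).1 hd)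
    (by rw [← F.q.mul _ hd.mem _ hd.mem, h.sq, F.q.one'])
    fun e => h.notK F.q.std ((F.q.eq_one hd.mem).1 e)
  · exact (F.long h hd.mem hl e).elim
  · obtain ⟨π', F', e'⟩ := F.inner hl
    exact ⟨π', F', by rw [e' d hd.mem, e]⟩

theorem gc_cent (F : G2 A Y π u) {d : G} (hd : In A d) (e : π d = Y.x 9 1) {g : G}
    (hg : g ∈ gcF A Y π) : g * d = d * g := by
  obtain ⟨s, hs, k, hk, rfl⟩ := hd
  rw [F.q.mulK (AN hs) hk] at e
  refine mem_centralizer_singleton_iff.1 (AS.F5_le (H := centralizer {s * k}) (fun g hg h5 => ?_) hg)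
  have h1 : g * s = s * g := by
    rcases F.lift hs (mul_mem (mul_mem hg.1 hs) (inv_mem hg.1))
      (by rw [F.q.conj (AN hg.1) (AN hs), e, hg.2, mul_inv_cancel_right]) with h | h
    · exact mul_inv_eq_iff_eq_mul.1 h
    · have h2 : Commute (g ^ 2) s := by
        change g ^ 2 * s = s * g ^ 2
        calc g ^ 2 * s = g * (g * s * g⁻¹) * g := by rw [pow_two]; group
          _ = g * (s * u) * g := by rw [h]
          _ = g * s * g⁻¹ * (g * u) * g := by group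
          _ = s * (u * u) * g ^ 2 := by rw [h, gc_uK F g hg.1, pow_two]; group
          _ = _ := by rw [F.sq, mul_one]
      have h3 := h2.pow_left 3
      rw [← pow_mul, show 2 * 3 = 5 + 1 from rfl, pow_succ, h5, one_mul] at h3
      exact h3
  rw [mem_centralizer_singleton_iff, ← mul_assoc, h1, mul_assoc, hk g hg.1, mul_assoc]

theorem gc_im {M : Subgroup G} {π' : G → Γ} {u' : G} (F' : G2 M Y π' u')
    (hN : gcF A Y π ≤ 𝐍(M)) {g : G} (hg : g ∈ gcF A Y π) : In M g ∧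
      ∀ c ∈ 𝐂(A), c ∈ 𝐍(M) → π' c = Y.x 9 1 →
        π' g ∈ AS.F5 ((Y.A ⊓ centralizer {Y.x 9 1} : Subgroup Γ) : Set Γ) := by
  induction hg using closure_induction with
  | mem x hx =>
    have h1 := hN (AS.mem_F5 hx.1 hx.2)
    have h2 := F'.five_in h1 hx.2
    refine ⟨(F'.q.in_iff h1).2 h2, fun c hc hc' e => AS.mem_F5 ⟨h2, ?_⟩ ?_⟩
    · refine mem_centralizer_singleton_iff.2 ?_
      rw [← e, ← F'.q.mul _ h1 _ hc', hc x hx.1.1, F'.q.mul _ hc' _ h1]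
    · rw [← F'.q.pow h1, hx.2, F'.q.one']
  | one => exact ⟨In.of_A (one_mem _), fun _ _ _ _ => by rw [F'.q.one']; exact one_mem _⟩
  | mul x y _ _ hx hy =>
    exact ⟨hx.1.mul hy.1, fun c hc hc' e => by
      rw [F'.q.mul _ hx.1.mem _ hy.1.mem]; exact mul_mem (hx.2 c hc hc' e) (hy.2 c hc hc' e)⟩
  | inv x _ hx =>
    exact ⟨hx.1.inv, fun c hc hc' e => by rw [F'.q.inv hx.1.mem]; exact inv_mem (hx.2 c hc hc' e)⟩

theorem G2.not_inn (F : G2 A Y π u) : ¬ Inn A := by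
  rintro ⟨M, d, h, hd⟩
  obtain ⟨π0, F0, e0⟩ := gc_cls F h hd
  obtain ⟨π', u1, F'⟩ := F.of_cj h.cj
  have iu : In M u := (gc_im F' (fun g hg => h.cN F.q.std (gc_cent F0 hd e0 hg)) (gc_mem F0).1).1
  have hu : Dk M A u := h.swap (gc_uK F) F.sq F.ne
  obtain ⟨π1, F1, e1⟩ := gc_cls F' hu iu
  have hN : gcF M Y π1 ≤ 𝐍(A) := fun g hg => hu.cN F1.q.std (gc_cent F1 iu e1 hg)
  have iu1 : In A u1 := (gc_im F hN (gc_mem F1).1).1
  have hu1 : Dk A M u1 := hu.swap (gc_uK F1) F1.sq F1.ne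
  obtain ⟨π2, F2, e2⟩ := gc_cls F hu1 iu1
  obtain ⟨k, hk, ek⟩ := F1.q.onto _ (Y.x_mem 8 1)
  have uN : u ∈ 𝐍(M) := iu.mem
  have yM : u⁻¹ * k * u⁻¹⁻¹ * k⁻¹ ∈ M := mul_mem (nA (inv_mem uN) hk) (inv_mem hk)
  have ey : π1 (u⁻¹ * k * u⁻¹⁻¹ * k⁻¹) = Y.vv 1 := by
    rw [F1.q.cm (inv_mem uN) (AN hk), F1.q.inv uN, e1, ek, Y.x_inv]
    have := Y.qa_conj ![0, 0, 0, 0, 1, 0] ![0, 0, 0, 1, 0, 0]
    rw [Y.qa_9, Y.qa_8, show AS.b4 ![0, 0, 0, 0, 1, 0] ![0, 0, 0, 1, 0, 0] = 1 by simp [AS.b4]]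
      at this
    rw [this, (Y.x_v (r := 8) (by decide) 1 1).eq, mul_inv_cancel_right]
  have ek' : k * u * k⁻¹ = u * (u⁻¹ * k * u⁻¹⁻¹ * k⁻¹) := by group
  generalize u⁻¹ * k * u⁻¹⁻¹ * k⁻¹ = y at yM ey ek'
  have yF := (gc_mem F1).2 y yM ey
  have y2 := gc_sq F1 yM ey
  have yN := hN yF
  by_cases h1 : y ∈ 𝐂(A)
  · refine F1.long (hu1.swap h1 y2 ?_) (AN yM) (one_mem _)
      (by rw [ey, one_mul, inv_one, mul_one]; rfl)
    rintro rfl
    exact Y.z_ne (ey.symm.trans F1.q.one')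
  · obtain ⟨l, hl, el⟩ := Y.p2.cS_long _ ((gc_im F2 hN yF).2 u1 (gc_uK F1) iu1.mem e2)
      (by rw [← F2.q.mul _ yN _ yN, y2, F2.q.one']) fun e => h1 ((F2.q.eq_one yN).1 e)
    have hm : u * y ∈ 𝐂(A ^ᶜ k) := ek' ▸ cjK (gc_uK F)
    refine F2.long (M := A ^ᶜ k) (d := u * y) ⟨⟨k, rfl⟩, fun e => h1 ?_, hm, ?_, ?_⟩
      (mul_mem (KN (gc_uK F)) yN) hl ?_
    · rw [e] at hm
      simpa using mul_mem (inv_mem (gc_uK F)) hm
    · rw [← ek', conj_mul, F.sq]; group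
    · rw [← ek']
      simpa using F.ne
    · rw [F2.q.mul _ (KN (gc_uK F)) _ yN, F2.q.one _ (gc_uK F), one_mul, el]

omit [Finite G] in
theorem gc_invol {y : G} (t : T2 y) (h : y ≠ 1) : ∃ n : ℕ, y ^ n ≠ 1 ∧ y ^ n * y ^ n = 1 := by
  obtain ⟨n, hn⟩ := t
  induction n with
  | zero => exact absurd (by simpa using hn) h
  | succ n ih =>
    by_cases h1 : y ^ 2 ^ n = 1
    · exact ih h1
    · exact ⟨2 ^ n, h1, by rw [← pow_add, ← two_mul, ← pow_succ', hn]⟩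

omit [Finite G] in
theorem gc_in_pow {y : G} (h : In A y) (n : ℕ) : In A (y ^ n) := by
  induction n with
  | zero => exact In.of_A (by simp)
  | succ n ih => rw [pow_succ]; exact ih.mul h

theorem G2.elim (F : G2 A Y π u) (h4 : Four 𝐂(A)) (h : Out A) : False := by
  obtain ⟨M, s, h, hs⟩ := h
  have hA := F.q.std
  obtain ⟨π0, F0, ph⟩ : ∃ π0 : G → Γ, G2 A Y π0 u ∧ Y.Phi (π0 s) := by
    rcases Y.p3.aut2 (π s) (F.q.mapN s hs)
      (by rw [← F.q.mul _ hs _ hs, h.sq, F.q.one']; exact one_mem _) with ⟨a, ha, e⟩ | ⟨a, ha, e⟩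
    · refine (F.not_inn ⟨M, s, h, (F.q.in_iff hs).2 ?_⟩).elim
      rw [F.q.dec hs (inv_mem ha) e (inv_mul_cancel_left _ _).symm]
      exact inv_mem ha
    · obtain ⟨π', F', e'⟩ := F.inner ha
      exact ⟨π', F', by rwa [e' s hs]⟩
  obtain ⟨π', u1, F'⟩ := F.of_cj h.cj
  have si : s⁻¹ = s := inv_eq_of_mul_eq_one_right h.sq
  rcases dich h4 hs h.sq with ⟨R, hR, pR, cR, a, ha, b, hb, a1, b1, ab1⟩ |
    ⟨u', -, r, hr, -, -, ur, rs, rr, -, hz⟩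
  · have key : ∀ y ∈ R, y ≠ 1 → In M y → False := fun y hy y1 iy => by
      obtain ⟨n, h1, h2⟩ := gc_invol (H10.HeS.T2.of_mem pR hy) y1
      exact F'.not_inn ⟨A, y ^ n, h.swap (hR (pow_mem hy n)) h2 h1, gc_in_pow iy n⟩
    rcases F'.mul_in (h.cN hA (cR a ha)) (h.cN hA (cR b hb)) with h1 | h1 | h1
    exacts [key a ha a1 h1, key b hb b1 h1, key _ (mul_mem ha hb) ab1 h1]
  have us : u * s = s * u := by
    rcases (F.cen _).1 ⟨nA hs (gc_uA F), nK hs (gc_uK F)⟩ with h1 | h1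
    · exact absurd (by simpa using h1) F.ne
    · exact (mul_inv_eq_iff_eq_mul.1 h1).symm
  obtain rfl : u = u' := (hz u F.mem us).resolve_left F.ne
  obtain ⟨g0, g0A, e0⟩ := F0.q.onto _ (mul_mem (Y.x_mem 6 1) (Y.x_mem 10 1))
  have e1 : π0 (g0 * g0) = Y.vv 1 := by
    have := Y.qa_sq ![0, 0, 1, 0, 0, 1]
    rw [F0.q.mul _ (AN g0A) _ (AN g0A), e0]
    simpa [AS.Rt.qa, Y.x_zero] using this
  obtain ⟨y, yA, ey, yM⟩ : ∃ y ∈ A, π0 y = Y.vv 1 ∧ In M y := by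
    have sq : ∀ g, g * s = s * g → In M (g * g) := fun g hg => by
      rcases F'.mul_in (h.cN hA hg) (h.cN hA hg) with h1 | h1 | h1
      exacts [h1.mul h1, h1.mul h1, h1]
    rcases F0.lift g0A (nA hs g0A) (by
      rw [F0.q.conj hs (AN g0A), e0, AS.cj_mul, ph, ph, mul_one]) with h1 | h1
    · exact ⟨_, mul_mem g0A g0A, e1, sq _ (mul_inv_eq_iff_eq_mul.1 h1).symm⟩
    · have h2 := sq (g0 * r) (by
        calc g0 * r * s = g0 * (r * s * r⁻¹) * r := by group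
          _ = g0 * u * s * r := by rw [rs, ← us, ← mul_assoc]
          _ = _ := by rw [← h1]; group)
      rw [mul_assoc, ← mul_assoc r, ← hr g0 g0A, mul_assoc, ← mul_assoc] at h2
      rcases rr with h3 | h3 <;> rw [h3] at h2
      · exact ⟨_, mul_mem g0A g0A, e1, by simpa using h2⟩
      · exact ⟨_, mul_mem (mul_mem g0A g0A) (gc_uA F),
          by rw [F0.q.mulK (AN (mul_mem g0A g0A)) (gc_uK F), e1], h2⟩
  have yK : y ∉ 𝐂(A) := fun e => Y.z_ne (ey.symm.trans (F0.q.one y e))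
  have fin : ∀ g, g * s * g⁻¹ = s * y → False := fun g e =>
    F.not_inn (inn_of hA h (In.of_A yA) yK (gc_sq F0 yA ey) yM e)
  obtain ⟨c, cA, ec⟩ := F0.q.onto _ (Y.vv_A w)
  have e2 : π0 (s * c * s⁻¹ * c⁻¹) = Y.vv 1 := by
    rw [F0.q.cm hs (AN cA), ec, Y.vv_inv]
    exact (congrArg (· * Y.vv w) (ph 11 w)).trans (Y.vv_add _ _)
  have e3 : c * s * c⁻¹ = s * (s * c * s⁻¹ * c⁻¹) := by
    rw [← mul_assoc, ← mul_assoc, ← mul_assoc, h.sq, one_mul, si]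
  rcases F0.lift yA (mul_mem (nA hs cA) (inv_mem cA)) (ey.trans e2.symm) with h1 | h1
  · exact fin c (by rw [e3, h1])
  · refine fin (r * c) ?_
    calc r * c * s * (r * c)⁻¹ = r * (c * s * c⁻¹) * r⁻¹ := by group
      _ = r * s * r⁻¹ * (r * (y * u) * r⁻¹) := by rw [e3, h1]; group
      _ = s * (u * y * u) := by
          rw [rs, ← hr _ (mul_mem yA (gc_uA F)), mul_inv_cancel_right]; group
      _ = s * y := by rw [← gc_uK F y yA, mul_assoc y, F.sq, mul_one]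

end H79.A4
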