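import Cfsg.Agent.Lib.A41.Bas
import Cfsg.Agent.Lib.Comp.Quasisimple

/-! The quotient frame exists; Sylow 2-subgroups of the centraliser under an involution. -/

set_option autoImplicit false

namespace H79.A4

open H69 Subgroup Cfsg
open H30 (F4)
open H10.HeS (T2)
open scoped H10.Sz

universe u

/-- an element acting trivially on a perfect group modulo its centraliser centralises it -/
theorem ta_cen {G : Type*} [Group G] {A : Subgroup G} (hp : ⁅A, A⁆ = A) {n : G} (hn : n ∈ 𝐍(A))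
    (h : ∀ a ∈ A, n * a * n⁻¹ * a⁻¹ ∈ 𝐂(A)) : n ∈ 𝐂(A) := by
  have key : ⁅A, A⁆ ≤ centralizer {n} := commutator_le.2 fun a ha b hb => by
    rw [mem_centralizer_singleton_iff, eq_comm, ← mul_inv_eq_iff_eq_mul]
    have hd : n * b * n⁻¹ * b⁻¹ ∈ A := mul_mem (nA hn hb) (inv_mem hb)
    have e1 := h a ha _ (mul_mem (mul_mem (mul_mem ha hd) hb) (inv_mem ha))
    have e2 := h b hb _ (mul_mem (mul_mem hb (inv_mem ha)) (inv_mem hb))
    show n * (a * b * a⁻¹ * b⁻¹) * n⁻¹ = a * b * a⁻¹ * b⁻¹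
    generalize hc : n * a * n⁻¹ * a⁻¹ = c at e1
    generalize hd' : n * b * n⁻¹ * b⁻¹ = d at e1 e2
    have e3 : n * a * n⁻¹ = c * a := by rw [← hc]; group
    have e4 : n * b * n⁻¹ = d * b := by rw [← hd']; group
    calc n * (a * b * a⁻¹ * b⁻¹) * n⁻¹
        = n * a * n⁻¹ * (n * b * n⁻¹) * (n * a * n⁻¹)⁻¹ * (n * b * n⁻¹)⁻¹ := by group
      _ = c * (a * d * b * a⁻¹) * c⁻¹ * b⁻¹ * d⁻¹ := by rw [e3, e4]; group
      _ = a * (d * (b * a⁻¹ * b⁻¹)) * d⁻¹ := by rw [← e1]; group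
      _ = _ := by rw [← e2]; group
  rw [hp] at key
  exact fun a ha => mem_centralizer_singleton_iff.1 (key ha)

theorem ta_std {Γ : Type*} [Group Γ] [Finite Γ] {L : Subgroup Γ} [L.Normal] (hq : IsQuasisimple L)
    (h4 : Four 𝐂(L)) : IsStandardSubgroup L := by
  refine ⟨hq, ⟨?_, fun g hg => ?_⟩, fun g hg => ?_, ?_⟩
  · obtain ⟨a, ha, -, -, a2, -, -, a1, -⟩ := h4
    haveI : Fact (Nat.Prime 2) := ⟨Nat.prime_two⟩
    rw [even_iff_two_dvd, ← orderOf_eq_prime (p := 2) (by rw [pow_two, a2]) a1]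
    exact Subgroup.orderOf_dvd_natCard _ ha
  · rw [normalizer_eq_top] at hg
    exact absurd (mem_top g) hg
  · exact absurd (cj_eq_of_normal _ g) hg
  · rw [normalizer_eq_top, normalizer_eq_top]

theorem exists_qf {G : Type u} [Group G] [Finite G] {A : Subgroup G} (hA : IsStandardSubgroup A) :
    ∃ (Γ : Type u) (_ : Group Γ) (_ : Finite Γ) (L : Subgroup Γ) (π : G → Γ), Qf A L π ∧
      IsStandardSubgroup L ∧ Four 𝐂(L) ∧ Nonempty (L ≃* A ⧸ center A) := by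
  classical
  haveI hK : (𝐂(A).subgroupOf 𝐍(A)).Normal :=
    ⟨fun k hk n => mem_subgroupOf.2 (nK n.2 (mem_subgroupOf.1 hk))⟩
  let f : 𝐍(A) →* (𝐍(A) ⧸ 𝐂(A).subgroupOf 𝐍(A)) × Multiplicative (ZMod 2 × ZMod 2) :=
    (MonoidHom.inl _ _).comp (QuotientGroup.mk' _)
  have f1 : ∀ n : 𝐍(A), f n = 1 ↔ (n : G) ∈ 𝐂(A) := fun n => by
    simp only [f, MonoidHom.comp_apply, MonoidHom.inl_apply, Prod.mk_eq_one, and_true,
      QuotientGroup.mk'_apply, QuotientGroup.eq_one_iff, mem_subgroupOf]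
  let φ : A →* _ := f.comp (inclusion le_normalizer)
  have hN : φ.range.Normal := ⟨by
    rintro _ ⟨a, rfl⟩ ⟨x, y⟩
    obtain ⟨n, rfl⟩ := QuotientGroup.mk_surjective x
    refine ⟨⟨n * a * (n : G)⁻¹, nA n.2 a.2⟩, Prod.ext rfl ?_⟩
    simp [φ, f]⟩
  have hker : φ.ker = center A := by
    ext a
    rw [MonoidHom.mem_ker, mem_center_iff]
    refine (f1 _).trans ⟨fun h b => Subtype.ext (h b b.2), fun h b hb => ?_⟩
    exact congrArg Subtype.val (h ⟨b, hb⟩)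
  have e : φ.range ≃* A ⧸ center A :=
    (QuotientGroup.quotientKerEquivRange φ).symm.trans (QuotientGroup.quotientMulEquivOfEq hker)
  have c2 : ∀ y : Multiplicative (ZMod 2 × ZMod 2), (1, y) ∈ 𝐂(φ.range) := by
    rintro y _ ⟨a, rfl⟩
    exact Prod.ext (by simp) (mul_comm _ _)
  obtain ⟨p, q, p2, q2, p1, q1, pq⟩ : ∃ p q : Multiplicative (ZMod 2 × ZMod 2),
      p * p = 1 ∧ q * q = 1 ∧ p ≠ 1 ∧ q ≠ 1 ∧ p ≠ q := by decide
  have h4 : Four 𝐂(φ.range) := ⟨_, c2 p, _, c2 q, Prod.ext (one_mul 1) p2, Prod.ext (one_mul 1) q2,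
    Prod.ext rfl (mul_comm _ _), fun h => p1 (congrArg Prod.snd h), fun h => q1 (congrArg Prod.snd h),
    fun h => pq (congrArg Prod.snd h)⟩
  refine ⟨_, inferInstance, inferInstance, φ.range, fun g => if h : g ∈ 𝐍(A) then f ⟨g, h⟩ else 1,
    ⟨hA, fun a ha b hb => ?_, fun a ha => ?_, ?_, fun n _ => ?_, fun k hk => ?_, fun n hn h => ?_⟩,
    ta_std ?_ h4, h4, ⟨e⟩⟩
  · rw [dif_pos ha, dif_pos hb, dif_pos (mul_mem ha hb), ← map_mul]
    rfl
  · rw [dif_pos (le_normalizer ha)]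
    exact ⟨⟨a, ha⟩, rfl⟩
  · rintro _ ⟨a, rfl⟩
    exact ⟨a, a.2, dif_pos (le_normalizer a.2)⟩
  · exact normal_iff_top_le_normalizer.1 hN (mem_top _)
  · rw [dif_pos (KN hk)]
    exact (f1 _).2 hk
  · rw [dif_pos hn] at h
    refine ta_cen (H23.IsQuasisimple.commutator_self hA.1) hn fun a ha => ?_
    have k : f ⟨a, AN ha⟩ * f ⟨n, hn⟩ = f ⟨n, hn⟩ * f ⟨a, AN ha⟩ := h _ ⟨⟨a, ha⟩, rfl⟩
    refine (f1 (⟨n, hn⟩ * ⟨a, AN ha⟩ * ⟨n, hn⟩⁻¹ * ⟨a, AN ha⟩⁻¹)).1 ?_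
    rw [map_mul, map_mul, map_mul, map_inv, map_inv, ← k]
    group
  · haveI := hA.1.2
    exact H23.IsQuasisimple.of_mulEquiv e.symm (H23.isQuasisimple_of_isSimpleGroup
      (H23.IsQuasisimple.quotient_not_isMulCommutative hA.1))

variable {G : Type*} [Group G] [Finite G] {A : Subgroup G}

/-- a power of order four -/
theorem ta_four {x : G} (h : T2 x) (h2 : x * x ≠ 1) :
    ∃ y ∈ zpowers x, y * y ≠ 1 ∧ y * y * (y * y) = 1 := by
  obtain ⟨j, hj⟩ := h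
  induction j generalizing x with
  | zero => exact absurd (by rw [pow_zero, pow_one] at hj; rw [hj, one_mul]) h2
  | succ j ih =>
    by_cases h4 : x * x * (x * x) = 1
    · exact ⟨x, mem_zpowers x, h2, h4⟩
    · obtain ⟨y, hy, k⟩ := ih h4 (by rw [← pow_two, ← pow_mul, ← pow_succ', hj])
      exact ⟨y, zpowers_le.2 (mul_mem (mem_zpowers x) (mem_zpowers x)) hy, k⟩

theorem ta_inv {g x y : G} (h : g * x * g⁻¹ = x⁻¹) (hy : y ∈ zpowers x) : g * y * g⁻¹ = y⁻¹ := by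
  obtain ⟨n, rfl⟩ := hy
  show g * x ^ n * g⁻¹ = (x ^ n)⁻¹
  rw [← conj_zpow, h, inv_zpow]

theorem ta_isP {x : G} (h : T2 x) : IsPGroup 2 (zpowers x) := isPGroup_iff_mem.2 (by
  obtain ⟨j, hj⟩ := h
  rintro _ ⟨i, rfl⟩
  exact ⟨j, by rw [← zpow_natCast, ← zpow_mul, mul_comm, zpow_mul, zpow_natCast, hj, one_zpow]⟩)

/-- the centre is elementary in the maximal class case -/
theorem ta_elem {R : Subgroup G} (hR : IsPGroup 2 R) (RK : R ≤ 𝐂(A)) (ZR : Z2 A ≤ R) {s u k : G}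
    (hs : s ∈ 𝐍(A)) (sR : s ∈ 𝐍(R)) (s2 : s * s = 1) (u2 : u * u = 1) (uR : ∀ r ∈ R, u * r = r * u)
    (hC : ∀ x ∈ R, s * x * s⁻¹ = x → x = 1 ∨ x = u) (hk : k ∈ R) (k2 : k * k = 1) (k1 : k ≠ 1)
    (ku : k ≠ u) : ∀ c ∈ Z2 A, c * c = 1 := by
  intro c0 hc0
  by_contra h0
  obtain ⟨c, hc, c2, c4⟩ := ta_four hc0.2.2 h0
  replace hc : c ∈ Z2 A := zpowers_le.2 hc0 hc
  have si : s⁻¹ = s := inv_eq_of_mul_eq_one_right s2
  have ki : k⁻¹ = k := inv_eq_of_mul_eq_one_right k2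
  have sq : ∀ x ∈ R, s * x * s⁻¹ = x → x * x = 1 := fun x hx e => by
    rcases hC x hx e with rfl | rfl
    · exact one_mul 1
    · exact u2
  have ss : ∀ x, s * (s * x * s⁻¹) * s⁻¹ = x := fun x => by
    calc _ = s * s * x * (s * s)⁻¹ := by group
      _ = x := by rw [s2]; group
  have four : ∀ x ∈ R, s * x * s⁻¹ = x⁻¹ → x * x ≠ 1 → x * x * (x * x) = 1 → x * x = u := by
    intro x hx e x2 x4
    refine (hC _ (mul_mem hx hx) ?_).resolve_left x2
    calc s * (x * x) * s⁻¹ = s * x * s⁻¹ * (s * x * s⁻¹) := by group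
      _ = (x * x)⁻¹ := by rw [e]; group
      _ = x * x := inv_eq_of_mul_eq_one_right x4
  have hd : s * c * s⁻¹ ∈ Z2 A := nZ hs hc
  have cd : c * (s * c * s⁻¹) = s * c * s⁻¹ * c := hd.2.1 c hc.1
  have e1 : s * (c * (s * c * s⁻¹)) * s⁻¹ = c * (s * c * s⁻¹) := by
    calc _ = s * c * s⁻¹ * (s * (s * c * s⁻¹) * s⁻¹) := by group
      _ = _ := by rw [ss, cd]
  have m1 : c * (s * c * s⁻¹) ∈ R := ZR (mul_mem hc hd)
  have cu : c * c = u := by
    refine (hC _ (ZR (mul_mem hc hc)) ?_).resolve_left c2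
    have e2 := sq _ m1 e1
    have e3 : c * c * (s * (c * c) * s⁻¹) = 1 := by
      calc _ = c * (c * (s * c * s⁻¹)) * (s * c * s⁻¹) := by group
        _ = c * (s * c * s⁻¹ * c) * (s * c * s⁻¹) := by rw [cd]
        _ = _ := by rw [← e2]; group
    exact mul_left_cancel (e3.trans c4.symm)
  have sc : s * c * s⁻¹ = c⁻¹ := by
    rcases hC _ m1 e1 with e | e
    · exact eq_inv_of_mul_eq_one_right e
    · exact absurd (sq c (ZR hc) (mul_left_cancel (e.trans cu.symm))) c2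
  have cR : ∀ r ∈ R, c * r = r * c := fun r hr => RK hr c hc.1
  have m2 : k * (s * k * s⁻¹) ∈ R := mul_mem hk ((mem_normalizer_iff.1 sR k).1 hk)
  have i1 : s * (k * (s * k * s⁻¹)) * s⁻¹ = (k * (s * k * s⁻¹))⁻¹ := by
    calc _ = s * k * s⁻¹ * (s * (s * k * s⁻¹) * s⁻¹) := by group
      _ = s * k⁻¹ * s⁻¹ * k⁻¹ := by rw [ss, ki]
      _ = _ := by group
  have i2 : k * (k * (s * k * s⁻¹)) * k⁻¹ = (k * (s * k * s⁻¹))⁻¹ := by
    calc _ = k * k * (s * k * s⁻¹ * k⁻¹) := by group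
      _ = s * k⁻¹ * s⁻¹ * k⁻¹ := by rw [k2, one_mul, ki]
      _ = _ := by group
  by_cases h2 : k * (s * k * s⁻¹) * (k * (s * k * s⁻¹)) = 1
  · rcases hC _ m2 (i1.trans (inv_eq_of_mul_eq_one_right h2)) with e | e
    · exact (hC k hk ((eq_inv_of_mul_eq_one_right e).trans ki)).elim k1 ku
    · have e2 : s * k * s⁻¹ = k * (c * c) := by
        rw [cu, ← e, ← mul_assoc k k, k2, one_mul]
      have e3 := sq _ (mul_mem hk (ZR hc)) (by
        calc s * (k * c) * s⁻¹ = s * k * s⁻¹ * (s * c * s⁻¹) := by group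
          _ = k * c := by rw [e2, sc]; group)
      apply c2
      calc c * c = k * k * c * c := by rw [k2, one_mul]
        _ = k * (k * c) * c := by group
        _ = k * (c * k) * c := by rw [cR k hk]
        _ = _ := by rw [← e3]; group
  · obtain ⟨ι, hι, ι2, ι4⟩ := ta_four (H10.HeS.T2.of_mem hR m2) h2
    have mι : ι ∈ R := zpowers_le.2 m2 hι
    have sι := ta_inv i1 hι
    have kι := ta_inv i2 hι
    have ιu := four ι mι sι ι2 ι4
    have e1 : ι * c * (ι * c) = 1 := by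
      calc _ = ι * (c * ι) * c := by group
        _ = ι * ι * (c * c) := by rw [cR ι mι]; group
        _ = 1 := by rw [ιu, cu, u2]
    have e2 : s * (ι * c) * s⁻¹ = ι * c := by
      calc _ = s * ι * s⁻¹ * (s * c * s⁻¹) := by group
        _ = (c * ι)⁻¹ := by rw [sι, sc]; group
        _ = _ := by rw [cR ι mι]; exact inv_eq_of_mul_eq_one_right e1
    have e3 : ι * c * k = k * (ι * c) := by
      rcases hC _ (mul_mem mι (ZR hc)) e2 with e | e <;> rw [e]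
      · rw [one_mul, mul_one]
      · exact uR k hk
    have e4 : k * ι * k⁻¹ = ι := by
      calc _ = k * (ι * c) * (k * c)⁻¹ := by group
        _ = ι * c * k * (c * k)⁻¹ := by rw [← e3, cR k hk]
        _ = ι := by group
    exact ι2 (mul_eq_one_iff_eq_inv.2 (e4.symm.trans kι))

theorem dich (h4 : Four 𝐂(A)) {s : G} (hs : s ∈ 𝐍(A)) (s2 : s * s = 1) :
    (∃ R ≤ 𝐂(A), IsPGroup 2 R ∧ (∀ y ∈ R, y * s = s * y) ∧ ∃ a ∈ R, ∃ b ∈ R, a ≠ 1 ∧ b ≠ 1 ∧ a * b ≠ 1) ∨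
    ∃ u ∈ 𝐂(A), ∃ r ∈ 𝐂(A), u * u = 1 ∧ u * s = s * u ∧ u * r = r * u ∧ r * s * r⁻¹ = s * u ∧
      (r * r = 1 ∨ r * r = u) ∧ (∀ c ∈ Z2 A, c * c = 1) ∧ ∀ c ∈ Z2 A, c * s = s * c → c = 1 ∨ c = u := by
  haveI : Fact (Nat.Prime 2) := ⟨Nat.prime_two⟩
  have t2 : ∀ {x : G}, x * x = 1 → T2 x := fun h => ⟨1, by rw [pow_one, pow_two, h]⟩
  have sK : s ∈ 𝐍(𝐂(A)) := mem_normalizer_of_cj_le (by
    rintro _ ⟨k, hk, rfl⟩
    exact nK hs hk)
  obtain ⟨T, hT, sT⟩ := exists_isSylowIn_le (L := 𝐂(A) ⊔ zpowers s) (ta_isP (t2 s2)) le_sup_right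
  replace sT : s ∈ T := sT (mem_zpowers s)
  have LN : 𝐂(A) ⊔ zpowers s ≤ 𝐍(𝐂(A)) := sup_le le_normalizer (zpowers_le.2 sK)
  have hR : IsSylowIn 2 (T ⊓ 𝐂(A)) 𝐂(A) := hT.inf_normal le_sup_left LN
  have TR : T ≤ 𝐍(T ⊓ 𝐂(A)) := le_normalizer_inf le_normalizer (hT.le.trans LN)
  have ZR : Z2 A ≤ T ⊓ 𝐂(A) := hR.le_of_le_normalizer (isPGroup_iff_mem.2 fun c hc => hc.2.2)
    (fun c hc => hc.2.1) (le_normalizer_of_le_centralizer fun r hr c hc => hr.2 c hc.1)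
  have dec : ∀ t ∈ T, ∃ r ∈ T ⊓ 𝐂(A), ∃ y ∈ zpowers s, t = r * y := fun t ht => by
    obtain ⟨k, hk, y, hy, rfl⟩ := (mem_sup_of_le_normalizer_left (zpowers_le.2 sK)).1 (hT.le ht)
    exact ⟨k, ⟨(mul_mem_cancel_right (zpowers_le.2 sT hy)).1 ht, hk⟩, y, hy, rfl⟩
  have RT : T ⊓ 𝐂(A) ≤ T := inf_le_left
  generalize T ⊓ 𝐂(A) = R at hR TR ZR dec RT
  obtain ⟨a, ha, b, hb, a1, b1, ab, a2, b2⟩ : ∃ a ∈ R, ∃ b ∈ R, a ≠ 1 ∧ b ≠ 1 ∧ a ≠ b ∧ a * a = 1 ∧
      b * b = 1 := by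
    obtain ⟨a, ha, b, hb, a2, b2, c, a1, b1, ab⟩ := h4
    obtain ⟨g, -, le⟩ := hR.exists_cj_le (R := zpowers a ⊔ zpowers b)
      ((ta_isP (t2 a2)).to_sup_of_normal_right' (ta_isP (t2 b2)) (le_normalizer_of_le_centralizer
        (zpowers_le.2 (by
          rintro _ ⟨i, rfl⟩
          exact ((show Commute a b from c).zpow_right i).symm.eq))))
      (sup_le (zpowers_le.2 ha) (zpowers_le.2 hb))
    refine ⟨_, le (cj_mem g (mem_sup_left (mem_zpowers a))), _,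
      le (cj_mem g (mem_sup_right (mem_zpowers b))), by simpa using a1, by simpa using b1,
      by simpa using ab, ?_, ?_⟩
    · rw [conj_mul, a2]; group
    · rw [conj_mul, b2]; group
  by_cases hl : ∃ x ∈ R ⊓ centralizer {s}, ∃ y ∈ R ⊓ centralizer {s}, x ≠ 1 ∧ y ≠ 1 ∧ x * y ≠ 1
  · exact Or.inl ⟨R ⊓ centralizer {s}, inf_le_left.trans hR.le, hR.isP.to_le inf_le_left,
      fun y hy => mem_centralizer_singleton_iff.1 hy.2, hl⟩
  push Not at hl
  right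
  obtain ⟨⟨u, uR, uT⟩, u1⟩ := ne_bot_iff_exists_ne_one.1 (inf_centralizer_ne_bot hR.isP hT.isP TR
    fun e => a1 (mem_bot.1 (e ▸ ha)))
  replace u1 : u ≠ 1 := fun e => u1 (Subtype.ext e)
  have us : u * s = s * u := (uT s sT).symm
  have uC : u ∈ R ⊓ centralizer {s} := ⟨uR, mem_centralizer_singleton_iff.2 us⟩
  have u2 : u * u = 1 := hl u uC u uC u1 u1
  have hC : ∀ x ∈ R, x * s = s * x → x = 1 ∨ x = u := fun x hx e => by
    by_cases x1 : x = 1
    · exact Or.inl x1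
    · exact Or.inr (mul_right_cancel
        ((hl x ⟨hx, mem_centralizer_singleton_iff.2 e⟩ u uC x1 u1).trans u2.symm))
  obtain ⟨k, hk, k2, k1, ku⟩ : ∃ k ∈ R, k * k = 1 ∧ k ≠ 1 ∧ k ≠ u := by
    by_cases e : a = u
    · exact ⟨b, hb, b2, b1, fun e' => ab (e.trans e'.symm)⟩
    · exact ⟨a, ha, a2, a1, e⟩
  have DC : zpowers s ⊔ zpowers u ≤ centralizer {s} :=
    sup_le (zpowers_le.2 (mem_centralizer_singleton_iff.2 rfl)) (zpowers_le.2 uC.2)
  obtain ⟨t, ⟨ht, tN⟩, tD⟩ := SetLike.exists_of_lt (lt_inf_normalizer_of_lt hT.isP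
    (R := zpowers s ⊔ zpowers u) (lt_of_le_of_ne (sup_le (zpowers_le.2 sT) (zpowers_le.2 (RT uR)))
      fun e => (hC k hk (mem_centralizer_singleton_iff.1 (DC (e ▸ RT hk)))).elim k1 ku))
  obtain ⟨r, hr, y, hy, rfl⟩ := dec t ht
  have rN : r ∈ 𝐍(zpowers s ⊔ zpowers u) :=
    (mul_mem_cancel_right (le_normalizer (mem_sup_left hy))).1 tN
  have rD : r ∉ zpowers s ⊔ zpowers u := fun h => tD (mul_mem h (mem_sup_left hy))
  have sD : s ∈ zpowers s ⊔ zpowers u := mem_sup_left (mem_zpowers s)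
  have m1 : r * s * r⁻¹ * s⁻¹ ∈ R := by
    have := mul_mem hr ((mem_normalizer_iff.1 (TR sT) _).1 (inv_mem hr))
    simpa only [mul_assoc] using this
  have ru : u * r = r * u := (uT r (RT hr)).symm
  have e1 : r * s * r⁻¹ = s * u := by
    rcases hC _ m1 (mem_centralizer_singleton_iff.1 (DC (mul_mem
      ((mem_normalizer_iff.1 rN s).1 sD) (inv_mem sD)))) with e | e
    · rw [mul_inv_eq_one, mul_inv_eq_iff_eq_mul] at e
      rcases hC r hr e with rfl | rfl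
      · exact absurd (one_mem _) rD
      · exact absurd (mem_sup_right (mem_zpowers _)) rD
    · rw [← us, ← e, inv_mul_cancel_right]
  refine ⟨u, hR.le uR, r, hR.le hr, u2, us, ru, e1, hC _ (mul_mem hr hr) ?_,
    ta_elem hR.isP hR.le ZR hs (TR sT) s2 u2 (fun x hx => (uT x (RT hx)).symm)
      (fun x hx e => hC x hx (mul_inv_eq_iff_eq_mul.1 e).symm) hk k2 k1 ku,
    fun c hc => hC c (ZR hc)⟩
  calc r * r * s = r * (r * s * r⁻¹) * r := by group
    _ = r * s * (u * r) := by rw [e1]; group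
    _ = r * s * r⁻¹ * (r * (u * r)) := by group
    _ = s * (u * u) * (r * r) := by rw [e1, ← mul_assoc r, ← ru]; group
    _ = _ := by rw [u2, mul_one]

/-- transfer: a central 2-element of a perfect group lies in every subgroup containing the commutators of a
Sylow 2-subgroup -/
theorem cent_mem (hp : ⁅A, A⁆ = A) {T D : Subgroup G} (hT : IsSylowIn 2 T A)
    (hD : ∀ a ∈ T, ∀ b ∈ T, a * b * a⁻¹ * b⁻¹ ∈ D) {c : G} (hc : c ∈ Z2 A) : c ∈ D := by
  haveI : Fact (Nat.Prime 2) := ⟨Nat.prime_two⟩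
  haveI : Group.IsPerfect A := isPerfect_iff.2 hp
  have e := MonoidHom.transfer_eq_pow (Abelianization.of (G := T.subgroupOf A)) ⟨c, hc.1⟩
    fun k g _ => by
      have : Commute (⟨c, hc.1⟩ : A) g := Subtype.ext (hc.2.1 g g.2).symm
      rw [mul_assoc, (this.pow_left k).eq, inv_mul_cancel_left]
  rw [show MonoidHom.transfer (Abelianization.of (G := T.subgroupOf A)) ⟨c, hc.1⟩ = 1 from
    Abelianization.commutator_subset_ker _ Group.IsPerfect.mem_commutator, eq_comm,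
    ← MonoidHom.mem_ker, Abelianization.ker_of] at e
  have le : commutator (T.subgroupOf A) ≤ D.comap (A.subtype.comp (T.subgroupOf A).subtype) :=
    commutator_le.2 fun a _ b _ => hD _ a.2 _ b.2
  have e' : c ^ T.relIndex A ∈ D := le e
  obtain ⟨j, hj⟩ := hc.2.2
  have co : (T.relIndex A).Coprime (orderOf c) :=
    Nat.Coprime.coprime_dvd_right (orderOf_dvd_of_pow_eq_one hj)
      (Nat.Coprime.pow_right j ((Nat.Prime.coprime_iff_not_dvd Nat.prime_two).2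
        hT.not_dvd_relIndex).symm)
  obtain ⟨m, hm⟩ := exists_pow_eq_self_of_coprime co
  exact hm ▸ pow_mem e' m

set_option linter.unusedSectionVars false in
theorem std_perf (hA : IsStandardSubgroup A) : ⁅A, A⁆ = A := H23.IsQuasisimple.commutator_self hA.1

end H79.A4
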