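import Cfsg.Agent.Lib.A41.GA
import Cfsg.Agent.Lib.A41.TA

/-! The double cover of `G₂(4)` does not split over the long root elements. -/

set_option autoImplicit false

namespace H79.A4

open H69 Subgroup Cfsg H30 H30.F4
open H10.HeS (T2)

theorem gn_S {Γ : Type*} [Group Γ] (X : AS.Rt Γ) :
    ∃ S : Subgroup Γ, ∀ g, g ∈ S ↔ ∃ q ∈ X.QA, ∃ c, g = q * X.x 7 c :=
  ⟨{ carrier := {g | ∃ q ∈ X.QA, ∃ c, g = q * X.x 7 c}
     one_mem' := ⟨1, one_mem _, 0, by rw [X.x_zero, mul_one]⟩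
     mul_mem' := by
       rintro _ _ ⟨q, hq, c, rfl⟩ ⟨q', hq', c', rfl⟩
       exact ⟨q * (X.x 7 c * q' * (X.x 7 c)⁻¹),
         mul_mem hq (conj_mem_of_mem_normalizer (X.L_norm (X.x7_mem c)) hq'), c + c',
         by rw [X.x_add]; group⟩
     inv_mem' := by
       rintro _ ⟨q, hq, c, rfl⟩
       refine ⟨(X.x 7 c)⁻¹ * q⁻¹ * X.x 7 c,
         conj_mem_of_mem_normalizer' (X.L_norm (X.x7_mem c)) (inv_mem hq), c, ?_⟩
       rw [mul_assoc, X.x_sq, mul_one, mul_inv_rev] }, fun _ => Iff.rfl⟩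

theorem gn_R {Γ : Type*} [Group Γ] (X : AS.Rt Γ) {J : Subgroup Γ}
    (hn : ∀ b ∈ X.L, ∀ g ∈ J, b * g * b⁻¹ ∈ J) (h10 : ∀ a, X.x 10 a ∈ J) (h11 : ∀ s, X.vv s ∈ J) :
    X.QA ≤ J := by
  have add : ∀ s t, X.qa s ∈ J → X.qa t ∈ J → X.qa (s + t) ∈ J := fun s t a b => by
    have := mul_mem a b
    rwa [X.qa_mul, J.mul_mem_cancel_right (h11 _)] at this
  have xa : ∀ c t, X.qa t ∈ J → X.qa (AS.xav c t) ∈ J := fun c t a => by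
    obtain ⟨s, e⟩ := X.xa_qa c t
    have := hn _ (X.x7_mem c) _ a
    rwa [e, J.mul_mem_cancel_right (h11 _)] at this
  have na : ∀ t, X.qa t ∈ J → X.qa (AS.nav t) ∈ J := fun t a => by
    obtain ⟨s, e⟩ := X.na_qa t
    have := hn _ X.na_mem _ a
    rwa [e, J.mul_mem_cancel_right (h11 _)] at this
  have p5 : ∀ a, X.qa ![0, 0, 0, 0, 0, a] ∈ J := fun a => by rw [X.qa_10]; exact h10 a
  have h9 : ∀ t, X.x 9 t ∈ J := fun t => by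
    have e := add _ _ (add _ _ (add _ _ (xa 1 _ (na _ (p5 (w * t)))) (xa w _ (na _ (p5 t))))
      (na _ (p5 (v * t)))) (p5 (v * t))
    rwa [X.qa_congr (t := ![0, 0, 0, 0, t, 0]) (by clear * -; decide +revert)
      (by clear * -; decide +revert) (by clear * -; decide +revert) (by clear * -; decide +revert),
      X.qa_9] at e
  have h6 : ∀ t, X.x 6 t ∈ J := fun t => by
    have := hn _ X.na_mem _ (h10 t)
    rwa [X.na_x] at this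
  have h8 : ∀ t, X.x 8 t ∈ J := fun t => by
    have := hn _ X.na_mem _ (h9 t)
    rwa [X.na_x] at this
  intro g hg
  obtain ⟨t, s, rfl⟩ := X.mem_QA.1 hg
  exact mul_mem (mul_mem (mul_mem (mul_mem (h6 _) (h8 _)) (h9 _)) (h10 _)) (h11 s)

theorem gn_syl {Γ : Type*} [Group Γ] [Finite Γ] (Y : AS.St Γ) {S P : Subgroup Γ}
    (hS : ∀ g, g ∈ S ↔ ∃ q ∈ Y.QA, ∃ c, g = q * Y.x 7 c) (hP : IsPGroup 2 P) (PA : P ≤ Y.A)
    (SP : S ≤ P) (hn : ∀ g ∈ P, ∀ s ∈ S, g * s * g⁻¹ ∈ S) : P ≤ S := by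
  have QS : Y.QA ≤ S := fun q hq => (hS q).2 ⟨q, hq, 0, by rw [Y.x_zero, mul_one]⟩
  have SB : S ≤ Y.B := fun g hg => by
    obtain ⟨q, hq, c, rfl⟩ := (hS g).1 hg
    exact mul_mem (Y.QA_le_B hq) (Y.L_le_B (Y.x7_mem c))
  have nV : P ≤ 𝐍(Y.V) := fun g hg => mem_normalizer_fintype fun x hx =>
    Y.p1.B_cent _ (SB (hn g hg x (QS (Y.V_le_QA hx)))) fun q hq => by
      have := Y.B_le_CV (SB (hn _ (inv_mem hg) q (QS hq))) x hx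
      calc q * (g * x * g⁻¹) = g * (g⁻¹ * q * g⁻¹⁻¹ * x) * g⁻¹ := by group
        _ = _ := by rw [← this]; group
  obtain ⟨x, hx⟩ := ne_bot_iff_exists_ne_one.1 (inf_centralizer_ne_bot (Y.isP_QA.to_le Y.V_le_QA) hP nV
    fun h => Y.z_ne (mem_bot.1 (h ▸ Y.vv_mem 1)))
  obtain ⟨s, hs⟩ := Y.mem_V.1 x.2.1
  have PB : P ≤ Y.B := fun g hg => Y.p2.cV g (PA hg) s
    (fun h => hx (Subtype.ext (by rw [hs, h, Y.vv_zero]; rfl))) (hs ▸ x.2.2 g hg)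
  obtain ⟨l, hl, e⟩ := Y.p1.L_two (P ⊓ Y.L) inf_le_right hP.to_inf_left
  choose f hf using fun c =>
    e (Y.x 7 c) ⟨SP ((hS _).2 ⟨1, one_mem _, c, (one_mul _).symm⟩), Y.x7_mem c⟩
  have fi : Function.Injective f := fun c c' h => by
    have k := hf c
    rw [h, ← hf c', mul_left_inj, mul_right_inj] at k
    have := Y.x_inj 7 (t := c + c') (by rw [Y.x_add, k, Y.x_sq])
    clear * - this
    decide +revert
  intro g hg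
  obtain ⟨t, s', m, hm, rfl⟩ := (Y.p1.mem_B g).1 (PB hg)
  have q : Y.qa t * Y.vv s' ∈ Y.QA := Y.mem_QA.2 ⟨t, s', rfl⟩
  obtain ⟨c, hc⟩ := e m ⟨(P.mul_mem_cancel_left (SP (QS q))).1 hg, hm⟩
  obtain ⟨c, rfl⟩ := Finite.surjective_of_injective fi c
  rw [← hf, mul_left_inj, mul_right_inj] at hc
  exact (hS _).2 ⟨_, q, c, by rw [hc]⟩

theorem gn_D {G : Type*} [Group G] {Q Z : Subgroup G} {θ : G} (h1 : ∀ g ∈ Q, θ * g * θ⁻¹ ∈ Q)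
    (h2 : ∀ g ∈ Q, ∀ g' ∈ Q, g * g' * g⁻¹ * g'⁻¹ ∈ Z) (h3 : ∀ g ∈ Q, ∀ c ∈ Z, g * c * g⁻¹ ∈ Z) :
    ∃ D : Subgroup G, ∀ g, g ∈ D ↔ g ∈ Q ∧ g * (θ * g * θ⁻¹) * (θ * (θ * g * θ⁻¹) * θ⁻¹) ∈ Z :=
  ⟨{ carrier := {g | g ∈ Q ∧ g * (θ * g * θ⁻¹) * (θ * (θ * g * θ⁻¹) * θ⁻¹) ∈ Z}
     one_mem' := ⟨one_mem _, by simp⟩
     mul_mem' := by
       rintro g h ⟨a, a'⟩ ⟨b, b'⟩
       refine ⟨mul_mem a b, ?_⟩
       have := mul_mem (mul_mem (mul_mem (h3 g a _ (h2 h b _ (h1 g a)))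
         (h3 _ (mul_mem a (h1 g a)) _ (h2 _ (mul_mem b (h1 h b)) _ (h1 _ (h1 g a))))) a') b'
       convert this using 1
       group
     inv_mem' := by
       rintro g ⟨a, a'⟩
       refine ⟨inv_mem a, ?_⟩
       have b := inv_mem (h1 g a)
       have c := inv_mem (h1 _ (h1 g a))
       have := mul_mem (mul_mem (h2 _ (inv_mem a) _ (mul_mem b c)) (h2 _ b _ c)) (inv_mem a')
       convert this using 1
       group }, fun _ => Iff.rfl⟩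

variable {G Γ : Type*} [Group G] [Group Γ] [Finite G] [Finite Γ] {A : Subgroup G} {Y : AS.St Γ} {π : G → Γ}
  {u : G}

section
variable {z : F4 → G} {θ : G} {χ : F4 → G} {Z Q : Subgroup G}

omit [Finite G] [Finite Γ] in
theorem gn_z0 (C : Cg A Y π u z θ χ) : z 0 = 1 := by
  have := C.z_add 0 0
  rwa [add_zero, left_eq_mul] at this

omit [Finite G] [Finite Γ] in
theorem gn_Z (C : Cg A Y π u z θ χ) : ∃ Z : Subgroup G, ∀ c, c ∈ Z ↔ ∃ e, c = z e :=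
  ⟨{ carrier := {c | ∃ e, c = z e}
     one_mem' := ⟨0, (gn_z0 C).symm⟩
     mul_mem' := by
       rintro _ _ ⟨e, rfl⟩ ⟨e', rfl⟩
       exact ⟨_, (C.z_add e e').symm⟩
     inv_mem' := by
       rintro _ ⟨e, rfl⟩
       exact ⟨e, inv_eq_of_mul_eq_one_right (by rw [← C.z_add, AS.f4_self, gn_z0 C])⟩ },
    fun _ => Iff.rfl⟩

omit [Finite G] [Finite Γ] in
theorem gn_zc (C : Cg A Y π u z θ χ) (hZ : ∀ c, c ∈ Z ↔ ∃ e, c = z e) {b c : G} (hb : b ∈ A)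
    (hB : π b ∈ Y.B) (hc : c ∈ Z) : b * c * b⁻¹ ∈ Z := by
  obtain ⟨e, rfl⟩ := (hZ c).1 hc
  rwa [C.cen b hb hB e, mul_inv_cancel_right]

omit [Finite G] [Finite Γ] in
theorem gn_one (C : Cg A Y π u z θ χ) (hZ : ∀ c, c ∈ Z ↔ ∃ e, c = z e) {c : G} (hc : c ∈ Z)
    (h : π c = 1) : c = 1 := by
  obtain ⟨e, rfl⟩ := (hZ c).1 hc
  rw [C.π_z, ← Y.vv_zero] at h
  rw [Y.vv_inj h, gn_z0 C]

omit [Finite Γ] in
theorem gn_nQ (F : G2 A Y π u) (hQ : ∀ g, g ∈ Q ↔ g ∈ A ∧ π g ∈ Y.QA) {b g : G} (hb : b ∈ A)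
    (hB : π b ∈ Y.B) (hg : g ∈ Q) : b * g * b⁻¹ ∈ Q := by
  obtain ⟨g1, g2⟩ := (hQ g).1 hg
  refine (hQ _).2 ⟨nA (AN hb) g1, ?_⟩
  rw [F.q.conj (AN hb) (AN g1)]
  exact conj_mem_of_mem_normalizer (Y.B_norm_QA hB) g2

theorem gn_ab (C : Cg A Y π u z θ χ) (F : G2 A Y π u) (h1 : ∀ y, χ y = 1)
    (hZ : ∀ c, c ∈ Z ↔ ∃ e, c = z e) (hQ : ∀ g, g ∈ Q ↔ g ∈ A ∧ π g ∈ Y.QA) :
    ∀ g ∈ Q, ∀ g' ∈ Q, g * g' * g⁻¹ * g'⁻¹ ∈ Z := by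
  have q := F.q
  have zc : ∀ g ∈ Q, ∀ c ∈ Z, g * c * g⁻¹ ∈ Z := fun g hg c hc =>
    gn_zc C hZ ((hQ g).1 hg).1 (Y.QA_le_B ((hQ g).1 hg).2) hc
  let R : Subgroup G :=
    { carrier := {g | g ∈ Q ∧ ∀ g' ∈ Q, g * g' * g⁻¹ * g'⁻¹ ∈ Z}
      one_mem' := ⟨one_mem _, fun g' _ => by simp⟩
      mul_mem' := by
        rintro g h ⟨a, a'⟩ ⟨b, b'⟩
        refine ⟨mul_mem a b, fun g' hg' => ?_⟩
        convert mul_mem (zc g a _ (b' g' hg')) (a' g' hg') using 1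
        group
      inv_mem' := by
        rintro g ⟨a, a'⟩
        refine ⟨inv_mem a, fun g' hg' => ?_⟩
        convert zc _ (inv_mem a) _ (inv_mem (a' g' hg')) using 1
        group }
  have RA : ∀ g ∈ R, g ∈ A := fun g hg => ((hQ g).1 hg.1).1
  obtain ⟨J, hJ, -⟩ := q.im (P := R) fun g hg => AN (RA g hg)
  have le : Y.QA ≤ J := by
    refine gn_R Y.toRt (fun b hb y hy => ?_) (fun a => ?_) fun s => ?_
    · obtain ⟨g, hg, rfl⟩ := (hJ y).1 hy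
      obtain ⟨b, bA, rfl⟩ := q.onto b (Y.L_le_A hb)
      have bB := Y.L_le_B hb
      refine (hJ _).2 ⟨b * g * b⁻¹, ⟨gn_nQ F hQ bA bB hg.1, fun g' hg' => ?_⟩,
        q.conj (AN bA) (AN (RA g hg))⟩
      convert gn_zc C hZ bA bB (hg.2 _ (gn_nQ F hQ (inv_mem bA)
        (by rw [q.inv (AN bA)]; exact inv_mem bB) hg')) using 1
      group
    · obtain ⟨g, gA, e⟩ := q.onto _ (Y.x_mem 10 a)
      refine (hJ _).2 ⟨g, ⟨(hQ g).2 ⟨gA, ?_⟩, fun g' hg' => ?_⟩, e⟩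
      · rw [e, ← Y.qa_10 0 0]; exact Y.qa_mem _
      · obtain ⟨g1, g2⟩ := (hQ g').1 hg'
        obtain ⟨t, s, f⟩ := Y.mem_QA.1 g2
        rw [C.cm g gA g' g1 a t s e f, h1, mul_one]
        exact (hZ _).2 ⟨_, rfl⟩
    · refine (hJ _).2 ⟨z s, ⟨(hQ _).2 ⟨C.z_A s, ?_⟩, fun g' hg' => ?_⟩, C.π_z s⟩
      · rw [C.π_z]; exact Y.V_le_QA (Y.vv_mem s)
      · rw [← C.cen g' ((hQ g').1 hg').1 (Y.QA_le_B ((hQ g').1 hg').2)]
        simp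
  have uR : u ∈ R := ⟨(hQ u).2 ⟨F.mem.1, by rw [q.one u F.mem.2.1]; exact one_mem _⟩,
    fun g' hg' => by rw [← F.mem.2.1 g' ((hQ g').1 hg').1]; simp⟩
  intro g hg
  obtain ⟨g0, h0, e⟩ := (hJ _).1 (le ((hQ g).1 hg).2)
  rcases F.lift (RA g0 h0) ((hQ g).1 hg).1 e with rfl | rfl
  exacts [h0.2, (mul_mem h0 uR).2]

theorem gn_split (C : Cg A Y π u z θ χ) (F : G2 A Y π u) (hZ : ∀ c, c ∈ Z ↔ ∃ e, c = z e) {g : G}
    (hg : g ∈ A) (h : π g ∈ Y.QA) : g * (θ * g * θ⁻¹) * (θ * (θ * g * θ⁻¹) * θ⁻¹) ∈ Z ∨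
      g * u * (θ * (g * u) * θ⁻¹) * (θ * (θ * (g * u) * θ⁻¹) * θ⁻¹) ∈ Z := by
  have q := F.q
  have tN := AN C.θ_A
  have g1 := nA tN hg
  have g2 := nA tN g1
  obtain ⟨t, s, e⟩ := Y.mem_QA.1 h
  have k : ∃ e, π (z e) = π (g * (θ * g * θ⁻¹) * (θ * (θ * g * θ⁻¹) * θ⁻¹)) := by
    rw [q.mul _ (AN (mul_mem hg g1)) _ (AN g2), q.mul _ (AN hg) _ (AN g1), q.conj tN (AN g1),
      q.conj tN (AN hg), C.π_θ, e, AS.cj_mul, Y.th_qa, Y.th_vv, AS.cj_mul, Y.th_qa, Y.th_vv, Y.qv_mul,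
      Y.qv_mul, show t + w • t + w • w • t = 0 from funext fun i => by
        simp only [Pi.add_apply, Pi.smul_apply, smul_eq_mul, Pi.zero_apply]
        generalize t i = a
        clear * -
        decide +revert, Y.qa_zero, one_mul]
    exact ⟨_, C.π_z _⟩
  obtain ⟨e, k⟩ := k
  refine (F.lift (C.z_A e) (mul_mem (mul_mem hg g1) g2) k).imp (fun f => (hZ _).2 ⟨e, f⟩)
    fun f => (hZ _).2 ⟨e, ?_⟩
  have c := F.mem.2.1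
  have a : ∀ x, θ * (x * u) * θ⁻¹ = θ * x * θ⁻¹ * u := fun x => by
    rw [AS.cj_mul, c θ C.θ_A, mul_inv_cancel_right]
  rw [a, a]
  generalize θ * (θ * g * θ⁻¹) * θ⁻¹ = g₂ at *
  generalize θ * g * θ⁻¹ = g₁ at *
  calc _ = g * (u * g₁) * (u * g₂) * u := by group
    _ = g * g₁ * (u * u) * g₂ * u := by rw [← c g₁ g1]; group
    _ = z e := by rw [F.sq, mul_one, f, mul_assoc, F.sq, mul_one]

end

theorem Cg.ne {z : F4 → G} {θ : G} {χ : F4 → G} (C : Cg A Y π u z θ χ) (F : G2 A Y π u) :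
    ∃ y, χ y = u := by
  by_contra! hχ
  have q := F.q
  have uA := F.mem.1
  have uC := F.mem.2.1
  have tN := AN C.θ_A
  obtain ⟨Z, hZ⟩ := gn_Z C
  obtain ⟨Q, hQ⟩ := q.pre Y.QA
  have ab := gn_ab C F (fun y => (C.χ_u y).resolve_right (hχ y)) hZ hQ
  obtain ⟨D, hD⟩ := gn_D (θ := θ) (fun g hg => by
      obtain ⟨g1, g2⟩ := (hQ g).1 hg
      obtain ⟨t, s, e⟩ := Y.mem_QA.1 g2
      refine (hQ _).2 ⟨nA tN g1, Y.mem_QA.2 ⟨w • t, v * s, ?_⟩⟩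
      rw [q.conj tN (AN g1), C.π_θ, e, AS.cj_mul, Y.th_qa, Y.th_vv]) ab
    fun g hg c hc => gn_zc C hZ ((hQ g).1 hg).1 (Y.QA_le_B ((hQ g).1 hg).2) hc
  obtain ⟨S, hS⟩ := gn_S Y.toRt
  obtain ⟨T, hT⟩ := q.pre S
  have TA : T ≤ A := fun g hg => ((hT g).1 hg).1
  have syl : IsSylowIn 2 T A := by
    refine isSylowIn_of_normalizer TA ⟨le_inf TA le_normalizer, isPGroup_iff_mem.2 fun g hg => ?_,
      fun P h1 h2 h3 => le_antisymm (fun g hg => ?_) h1⟩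
    · obtain ⟨g1, g2⟩ := (hT g).1 hg
      obtain ⟨r, hr, c, e⟩ := (hS _).1 g2
      obtain ⟨n, hn⟩ := T2.of_mem Y.isP_QA
        (mul_mem hr (conj_mem_of_mem_normalizer (Y.L_norm (Y.x7_mem c)) hr))
      have k : π (g ^ 2 ^ (n + 1)) = 1 := by
        rw [q.pow (AN g1), pow_succ', pow_mul, ← hn, e, Y.x_inv, pow_two]
        simp only [mul_assoc]
      refine ⟨n + 2, ?_⟩
      rw [pow_succ, pow_mul, pow_two]
      rcases (F.cen _).1 ⟨pow_mem g1 _, (q.eq_one (AN (pow_mem g1 _))).1 k⟩ with f | f <;> rw [f]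
      exacts [mul_one _, F.sq]
    · obtain ⟨P', hP, -, p2, -⟩ := q.im (P := P) fun g hg => AN (h2 hg).1
      refine (hT g).2 ⟨(h2 hg).1, gn_syl Y hS (p2 h3) (fun y hy => ?_) (fun y hy => ?_)
        (fun y hy s hs => ?_) ((hP _).2 ⟨g, hg, rfl⟩)⟩
      · obtain ⟨x, hx, rfl⟩ := (hP y).1 hy
        exact q.mapA x (h2 hx).1
      · obtain ⟨r, hr, c, e⟩ := (hS _).1 hy
        obtain ⟨x, hx, rfl⟩ := q.onto y (e ▸ mul_mem (Y.B_le_A (Y.QA_le_B hr)) (Y.x_mem 7 c))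
        exact (hP _).2 ⟨x, h1 ((hT x).2 ⟨hx, hy⟩), rfl⟩
      · obtain ⟨x, hx, rfl⟩ := (hP y).1 hy
        obtain ⟨r, hr, c, e⟩ := (hS _).1 hs
        obtain ⟨a, ha, rfl⟩ := q.onto s (e ▸ mul_mem (Y.B_le_A (Y.QA_le_B hr)) (Y.x_mem 7 c))
        rw [← q.conj (AN (h2 hx).1) (AN ha)]
        exact ((hT _).1 (conj_mem_of_mem_normalizer (h2 hx).2 ((hT a).2 ⟨ha, hs⟩))).2
  have dec : ∀ a ∈ T, ∃ d ∈ D, ∃ x ∈ A, ∃ c, π x = Y.x 7 c ∧ a = d * x := fun a ha => by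
    obtain ⟨a1, a2⟩ := (hT a).1 ha
    obtain ⟨r, hr, c, e⟩ := (hS _).1 a2
    obtain ⟨x, hx, f⟩ := q.onto _ (Y.x_mem 7 c)
    have g1 := mul_mem a1 (inv_mem hx)
    have g2 : π (a * x⁻¹) ∈ Y.QA := by
      rwa [q.mul _ (AN a1) _ (AN (inv_mem hx)), q.inv (AN hx), e, f, mul_inv_cancel_right]
    rcases gn_split C F hZ g1 g2 with k | k
    · exact ⟨_, (hD _).2 ⟨(hQ _).2 ⟨g1, g2⟩, k⟩, x, hx, c, f, (inv_mul_cancel_right a x).symm⟩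
    · refine ⟨_, (hD _).2 ⟨(hQ _).2 ⟨mul_mem g1 uA, by rwa [q.mulK (AN g1) uC]⟩, k⟩, u * x,
        mul_mem uA hx, c, by rw [← uC x hx, q.mulK (AN hx) uC, f], ?_⟩
      rw [mul_assoc, ← mul_assoc u, F.sq, one_mul, inv_mul_cancel_right]
  have nD : ∀ x ∈ A, ∀ c, π x = Y.x 7 c → ∀ d ∈ D, x * d * x⁻¹ ∈ D := fun x hx c e d hd => by
    have xB : π x ∈ Y.B := e ▸ Y.L_le_B (Y.x7_mem c)
    obtain ⟨d1, d2⟩ := (hD d).1 hd
    have dA := ((hQ d).1 d1).1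
    have k : ∀ g ∈ A, θ * (x * g * x⁻¹) * θ⁻¹ = x * (θ * g * θ⁻¹) * x⁻¹ := fun g hg => by
      rw [show θ * (x * g * x⁻¹) * θ⁻¹ = θ * x * θ⁻¹ * (θ * g * θ⁻¹) * (θ * x * θ⁻¹)⁻¹ by group]
      rcases F.lift hx (nA tN hx) (by
        rw [q.conj tN (AN hx), C.π_θ, e, Y.th_L (Y.x7_mem c), mul_inv_cancel_right]) with f | f <;> rw [f]
      rw [mul_assoc x u, ← uC _ (nA tN hg)]
      group
    refine (hD _).2 ⟨gn_nQ F hQ hx xB d1, ?_⟩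
    rw [k d dA, k _ (nA tN dA), ← AS.cj_mul, ← AS.cj_mul]
    exact gn_zc C hZ hx xB d2
  have cx : ∀ x ∈ A, ∀ c, π x = Y.x 7 c → ∀ x' ∈ A, ∀ c', π x' = Y.x 7 c' →
      x * x' * x⁻¹ * x'⁻¹ = 1 := fun x hx c e x' hx' c' e' => by
    obtain ⟨n, hn, f⟩ := q.onto _ Y.nb_mem
    have k : ∀ x ∈ A, ∀ c, π x = Y.x 7 c → π (n * x * n⁻¹) = Y.x 8 c := fun x hx c e => by
      rw [q.conj (AN hn) (AN hx), f, e, Y.nb_x]; rfl
    have m : ∀ x ∈ A, ∀ c, π x = Y.x 7 c → n * x * n⁻¹ ∈ Q := fun x hx c e =>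
      (hQ _).2 ⟨nA (AN hn) hx, by rw [k x hx c e, ← Y.qa_8 0 0]; exact Y.qa_mem _⟩
    have := gn_one C hZ (ab _ (m x hx c e) _ (m x' hx' c' e')) (by
      rw [q.cm (AN (nA (AN hn) hx)) (AN (nA (AN hn) hx')), k x hx c e, k x' hx' c' e', Y.x_comm]
      group)
    calc _ = n⁻¹ * (n * x * n⁻¹ * (n * x' * n⁻¹) * (n * x * n⁻¹)⁻¹ * (n * x' * n⁻¹)⁻¹) * n := by group
      _ = 1 := by rw [this]; group
  have uD : u ∈ D := cent_mem (std_perf q.std) syl (fun a ha b hb => by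
    obtain ⟨d, hd, x, hx, c, e, rfl⟩ := dec a ha
    obtain ⟨d', hd', x', hx', c', e', rfl⟩ := dec b hb
    rw [show d * x * (d' * x') * (d * x)⁻¹ * (d' * x')⁻¹ =
      d * (x * d' * x⁻¹) * (x * x' * x⁻¹ * x'⁻¹) * (x' * d⁻¹ * x'⁻¹) * d'⁻¹ by group,
      cx x hx c e x' hx' c' e', mul_one]
    exact mul_mem (mul_mem (mul_mem hd (nD x hx c e d' hd')) (nD x' hx' c' e' _ (inv_mem hd)))
      (inv_mem hd')) F.mem
  have k := ((hD u).1 uD).2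
  rw [uC θ C.θ_A, mul_inv_cancel_right, uC θ C.θ_A, mul_inv_cancel_right, F.sq, one_mul] at k
  exact F.ne (gn_one C hZ k (q.one u uC))

end H79.A4
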