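import Cfsg.Agent.Lib.A41.TA

/-! The coordinates of a covering group of `L₃(4)`. -/

set_option autoImplicit false

namespace H79.A4

open H69 Subgroup Cfsg
open H30 (F4)
open H10.HeS (T2)
open scoped H10.Sz

variable {G Γ : Type*} [Group G] [Group Γ] [Finite G] [Finite Γ]

section

variable {A : Subgroup G} {Y : H10.Sz.St Γ} {π : G → Γ}

theorem la_cmA {a b : G} (ha : a ∈ A) (hb : b ∈ A) : a * b * a⁻¹ * b⁻¹ ∈ A :=
  mul_mem (mul_mem (mul_mem ha hb) (inv_mem ha)) (inv_mem hb)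

theorem la_cmK {L : Subgroup Γ} (q : Qf A L π) {a b : G} (ha : a ∈ A) (hb : b ∈ A)
    (c : π a * π b = π b * π a) : a * b * a⁻¹ * b⁻¹ ∈ 𝐂(A) :=
  (q.eq_one (AN (la_cmA ha hb))).1 (by rw [q.cm (AN ha) (AN hb), c]; group)

theorem la_zc (q : Qf A Y.L π) {s s' : G} (hs : s ∈ A) (hs' : s' ∈ A) {e e' : F4}
    (k : π s = Y.p 0 0 e) (k' : π s' = Y.p 0 0 e') : s * s' = s' * s := by
  obtain ⟨u, hu, ku⟩ := q.onto _ (Y.p_L 1 0 0)
  obtain ⟨t, ht, kt⟩ := q.onto _ (Y.p_L 0 e 0)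
  have c := la_cmK q hu hs' (by rw [ku, k', Y.z_comm])
  have h1 := q.cm_eq (a := u * s) (a' := t * u * t⁻¹) (b := s') (b' := t * s' * t⁻¹) (mul_mem hu hs)
    (In.of_A (nA (AN ht) hu)) hs' (nA (AN ht) hs')
    (by rw [q.mul _ (AN hu) _ (AN hs), q.conj (AN ht) (AN hu), ku, k, kt, Y.p_conj, Y.mul]; simp)
    (by rw [q.conj (AN ht) (AN hs'), k', kt, Y.p_conj]; simp)
  have h2 : t * u * t⁻¹ * (t * s' * t⁻¹) * (t * u * t⁻¹)⁻¹ * (t * s' * t⁻¹)⁻¹ = u * s' * u⁻¹ * s'⁻¹ := by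
    rw [show t * u * t⁻¹ * (t * s' * t⁻¹) * (t * u * t⁻¹)⁻¹ * (t * s' * t⁻¹)⁻¹ =
      t * (u * s' * u⁻¹ * s'⁻¹) * t⁻¹ by group, c t ht]; group
  rw [h2] at h1
  calc s * s' = u⁻¹ * (u * s * s' * (u * s)⁻¹ * s'⁻¹) * s' * u * s := by group
    _ = s' * s := by rw [← h1]; group

theorem la_z (q : Qf A Y.L π) : ∃ H ∈ A, π H = Y.h ∧ ∃ z : F4 → G, (∀ e, z e ∈ A) ∧
    (∀ e, π (z e) = Y.p 0 0 e) ∧ (∀ e e', z (e + e') = z e * z e') ∧
    ∀ e, H * z e * H⁻¹ = z (ω * e) := by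
  obtain ⟨H, hH, kH⟩ := q.onto _ Y.h_L
  choose u hu ku using fun e => q.onto _ (Y.p_L 0 0 e)
  have pz : ∀ e, π (H * u (ω * e) * H⁻¹ * (u (ω * e))⁻¹) = Y.p 0 0 e := fun e => by
    rw [q.cm (AN hH) (AN (hu _)), kH, ku, Y.h_z, Y.z_inv, Y.z_mul]
    congr 1; clear * -; decide +revert
  refine ⟨H, hH, kH, fun e => H * u (ω * e) * H⁻¹ * (u (ω * e))⁻¹, fun e => la_cmA hH (hu _), pz,
    fun e e' => ?_, fun e => ?_⟩
  · have h1 := q.cm_eq (a := H) (a' := H) (b := u (ω * e) * u (ω * e')) (b' := u (ω * (e + e'))) hH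
      (In.of_A hH) (mul_mem (hu _) (hu _)) (hu _) rfl
      (by rw [q.mul _ (AN (hu _)) _ (AN (hu _)), ku, ku, ku, Y.z_mul, mul_add])
    have h2 := la_zc q (hu (ω * e)) (la_cmA hH (hu (ω * e'))) (ku _) (pz e')
    simp only
    rw [h1]
    calc _ = H * u (ω * e) * H⁻¹ * (u (ω * e))⁻¹ * (u (ω * e) * (H * u (ω * e') * H⁻¹ * (u (ω * e'))⁻¹) *
          (u (ω * e))⁻¹) := by group
      _ = _ := by rw [h2]; group
  · have h1 := q.cm_eq (a := H) (a' := H) (b := H * u (ω * e) * H⁻¹) (b' := u (ω * (ω * e))) hH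
      (In.of_A hH) (nA (AN hH) (hu _)) (hu _) rfl
      (by rw [q.conj (AN hH) (AN (hu _)), ku, ku, kH, Y.h_z])
    simp only
    rw [h1]; group

omit [Finite G] in
theorem la_zero {v : F4 → G} (h : ∀ x x', v (x + x') = v x * v x') : v 0 = 1 := by
  have := h 0 0
  rw [add_zero] at this
  exact left_eq_mul.1 this

omit [Finite G] in
theorem la_sq {v : F4 → G} (h : ∀ x x', v (x + x') = v x * v x') (x : F4) : v x * v x = 1 := by
  rw [← h, H10.Sz.aa, la_zero h]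

omit [Finite G] in
theorem la_comm {v : F4 → G} (h : ∀ x x', v (x + x') = v x * v x') (x y : F4) : v x * v y = v y * v x := by
  rw [← h, ← h, add_comm]

theorem la_sym {L : Subgroup Γ} (q : Qf A L π) {v z : F4 → G} (vA : ∀ x, v x ∈ A) (zA : ∀ x, z x ∈ A)
    (va : ∀ x x', v (x + x') = v x * v x') (za : ∀ x x', z (x + x') = z x * z x')
    (hc : ∀ x e, π (v x) * π (z e) = π (z e) * π (v x))
    (ht : ∀ a, ∃ t ∈ A, ∀ x, π (v x * z (a * x)) = π (t * v x * t⁻¹)) :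
    ∃ φ : F4 → G, (∀ y y', φ (y + y') = φ y * φ y') ∧ (∀ y, φ y ∈ Z2 A) ∧
      ∀ x e, v x * z e = z e * v x * φ (x * e) := by
  obtain ⟨c, hc'⟩ : ∃ c : F4 → F4 → G, ∀ x e, c x e = v x * z e * (v x)⁻¹ * (z e)⁻¹ := ⟨_, fun _ _ => rfl⟩
  have cK : ∀ x e, c x e ∈ 𝐂(A) := fun x e => hc' x e ▸ la_cmK q (vA x) (zA e) (hc x e)
  have cA : ∀ x e, c x e ∈ A := fun x e => hc' x e ▸ la_cmA (vA x) (zA e)
  have e1 : ∀ x e, v x * z e = z e * v x * c x e := fun x e => by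
    rw [cK x e _ (mul_mem (zA e) (vA x)), hc']; group
  have add : ∀ y y', c 1 (y + y') = c 1 y * c 1 y' := fun y y' => by
    have h1 := cK 1 y' _ (zA y)
    calc c 1 (y + y') = c 1 y * (z y * c 1 y' * (z y)⁻¹) := by rw [hc', hc', hc', za]; group
      _ = _ := by rw [h1]; group
  refine ⟨c 1, add, fun y => ⟨cA _ _, cK _ _, .of_sq (la_sq add y)⟩, fun x e => ?_⟩
  obtain ⟨t, tA, k⟩ := ht e
  have h1 := q.cm_eq (mul_mem (vA x) (zA (e * x))) (In.of_A (nA (AN tA) (vA x)))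
    (mul_mem (vA 1) (zA (e * 1))) (nA (AN tA) (vA 1)) (k x) (k 1)
  rw [show t * v x * t⁻¹ * (t * v 1 * t⁻¹) * (t * v x * t⁻¹)⁻¹ * (t * v 1 * t⁻¹)⁻¹ =
    t * (v x * v 1 * (v x)⁻¹ * (v 1)⁻¹) * t⁻¹ by group, la_comm va x 1, mul_one e] at h1
  have h2 : v x * z (e * x) * (v 1 * z e) = v 1 * z e * (v x * z (e * x)) := by
    rw [← mul_inv_eq_iff_eq_mul, ← mul_inv_eq_one, ← h1]; group
  have h3 : v x * z (e * x) * (v 1 * z e) * c 1 (e * x) = v x * v 1 * (z (e * x) * z e) := by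
    rw [mul_assoc (v x) (v 1), ← mul_assoc (v 1), e1 1 (e * x), mul_assoc _ (c _ _), ← cK _ _ _ (zA e)]
    group
  have h4 : v 1 * z e * (v x * z (e * x)) * c x e = v x * v 1 * (z (e * x) * z e) := by
    rw [la_comm va x 1, la_comm za (e * x) e, mul_assoc (v 1) (v x), ← mul_assoc (v x), e1 x e,
      mul_assoc _ (c _ _), ← cK _ _ _ (zA _)]
    group
  rw [h2] at h3
  have h5 : c 1 (e * x) = c x e := mul_left_cancel (h3.trans h4.symm)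
  rw [e1, mul_comm x e, h5]

/-- the frame without the Sylow subgroup -/
structure LaP (A : Subgroup G) (Y : H10.Sz.St Γ) (π : G → Γ) (v w z φ : F4 → G) (ψ : F4 → F4 → G) :
    Prop where
  q : Qf A Y.L π
  v_A : ∀ x, v x ∈ A
  w_A : ∀ a, w a ∈ A
  z_A : ∀ e, z e ∈ A
  π_v : ∀ x, π (v x) = Y.p x 0 0
  π_w : ∀ a, π (w a) = Y.p 0 a 0
  π_z : ∀ e, π (z e) = Y.p 0 0 e
  v_add : ∀ x x', v (x + x') = v x * v x'
  w_add : ∀ a a', w (a + a') = w a * w a'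
  z_add : ∀ e e', z (e + e') = z e * z e'
  φ_Z : ∀ y, φ y ∈ Z2 A
  ψ_Z : ∀ a x, ψ a x ∈ Z2 A
  vz : ∀ x e, v x * z e = z e * v x * φ (x * e)
  wz : ∀ a e, w a * z e = z e * w a * φ (a * a * (e * e))
  wv : ∀ a x, w a * v x = v x * w a * (z (a * x) * ψ a x)
  ψ_sq : ∀ a x, ψ a x * ψ a x = φ (a * x * x)

namespace LaP

variable {v w z φ : F4 → G} {ψ : F4 → F4 → G} (h : LaP A Y π v w z φ ψ)
include h

theorem π_p (x a e : F4) : π (v x * w a * z e) = Y.p x a e := by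
  rw [h.q.mul _ (AN (mul_mem (h.v_A x) (h.w_A a))) _ (AN (h.z_A e)), h.q.mul _ (AN (h.v_A x)) _ (AN (h.w_A a)),
    h.π_v, h.π_w, h.π_z, ← Y.dec]

theorem exists_T : ∃ T : Subgroup G, ∀ g, g ∈ T ↔ ∃ x a e, ∃ c ∈ Z2 A, g = v x * w a * z e * c := by
  let S : G → Prop := fun g => ∃ x a e, ∃ c ∈ Z2 A, g = v x * w a * z e * c
  have sc : ∀ g, S g → ∀ c ∈ Z2 A, S (g * c) := by
    rintro _ ⟨x, a, e, c, hc, rfl⟩ c' hc'
    exact ⟨x, a, e, _, mul_mem hc hc', mul_assoc ..⟩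
  have sz : ∀ g, S g → ∀ e, S (g * z e) := by
    rintro _ ⟨x, a, e, c, hc, rfl⟩ e'
    exact ⟨x, a, e + e', c, hc, by rw [h.z_add, mul_assoc _ c, ← hc.2.1 _ (h.z_A e')]; group⟩
  have sw : ∀ g, S g → ∀ e, S (g * w e) := by
    rintro _ ⟨x, a, e, c, hc, rfl⟩ a'
    refine ⟨x, a + a', e, _, mul_mem (inv_mem (h.φ_Z (a' * a' * (e * e)))) hc, ?_⟩
    calc v x * w a * z e * c * w a' =
          v x * w a * (z e * w a' * φ (a' * a' * (e * e))) * (φ (a' * a' * (e * e)))⁻¹ * c := by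
          rw [mul_assoc _ c, ← hc.2.1 _ (h.w_A a')]; group
      _ = _ := by rw [← h.wz, h.w_add]; group
  have sv : ∀ g, S g → ∀ e, S (g * v e) := by
    rintro _ ⟨x, a, e, c, hc, rfl⟩ x'
    refine ⟨x + x', a, a * x' + e, _, mul_mem (mul_mem (h.ψ_Z a x') (inv_mem (h.φ_Z (x' * e)))) hc, ?_⟩
    calc v x * w a * z e * c * v x' = v x * w a * (z e * v x' * φ (x' * e)) * (φ (x' * e))⁻¹ * c := by
          rw [mul_assoc _ c, ← hc.2.1 _ (h.v_A x')]; group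
      _ = v x * (w a * v x') * z e * (φ (x' * e))⁻¹ * c := by rw [← h.vz]; group
      _ = v x * v x' * w a * z (a * x') * (ψ a x' * z e) * (φ (x' * e))⁻¹ * c := by rw [h.wv]; group
      _ = _ := by rw [← (h.ψ_Z a x').2.1 _ (h.z_A e), h.v_add, h.z_add]; group
  let M : Submonoid G :=
    { carrier := {g | S g}
      mul_mem' := by
        rintro g _ hg ⟨x, a, e, c, hc, rfl⟩
        have := sc _ (sz _ (sw _ (sv _ hg x) a) e) c hc
        show S _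
        simpa only [mul_assoc] using this
      one_mem' := ⟨0, 0, 0, 1, one_mem _, by
        rw [la_zero h.v_add, la_zero h.w_add, la_zero h.z_add]; group⟩ }
  refine ⟨⟨M, fun {g} hg => ?_⟩, fun g => Iff.rfl⟩
  have e : g⁻¹ = g ^ (orderOf g - 1) := inv_eq_of_mul_eq_one_right (by
    rw [← pow_succ', Nat.sub_add_cancel (orderOf_pos g), pow_orderOf_eq_one])
  exact e ▸ M.pow_mem hg _

variable {T : Subgroup G} (hT : ∀ g, g ∈ T ↔ ∃ x a e, ∃ c ∈ Z2 A, g = v x * w a * z e * c)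
include hT

theorem T_A : T ≤ A := fun g hg => by
  obtain ⟨x, a, e, c, hc, rfl⟩ := (hT g).1 hg
  exact mul_mem (mul_mem (mul_mem (h.v_A x) (h.w_A a)) (h.z_A e)) hc.1

theorem π_T {g : G} (hg : g ∈ T) : π g ∈ Y.T := by
  obtain ⟨x, a, e, c, hc, rfl⟩ := (hT g).1 hg
  rw [h.q.mulK (AN (mul_mem (mul_mem (h.v_A x) (h.w_A a)) (h.z_A e))) hc.2.1, h.π_p]
  exact Y.p_T ..

theorem isP : IsPGroup 2 T := isPGroup_iff_mem.2 fun g hg => by
  obtain ⟨n, hn⟩ := T2.of_mem Y.isP_T (h.π_T hT hg)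
  refine T2.of_pow (k := n) ?_
  rw [← h.q.pow (AN (h.T_A hT hg))] at hn
  obtain ⟨x, a, e, c, hc, e1⟩ := (hT _).1 (T.pow_mem hg (2 ^ n))
  rw [e1, h.q.mulK (AN (mul_mem (mul_mem (h.v_A x) (h.w_A a)) (h.z_A e))) hc.2.1, h.π_p] at hn
  obtain ⟨rfl, rfl, rfl⟩ := Y.inj _ _ _ hn
  rw [e1, la_zero h.v_add, la_zero h.w_add, la_zero h.z_add, one_mul, one_mul, one_mul]
  exact hc.2.2

theorem syl : IsSylowIn 2 T A := by
  refine ⟨h.T_A hT, h.isP hT, fun R h1 h2 h3 => le_antisymm (fun r hr => ?_) h1⟩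
  obtain ⟨R', m, -, hp, -⟩ := h.q.im (h2.trans le_normalizer)
  have pT : ∀ x a e, v x * w a * z e ∈ T := fun x a e => (hT _).2 ⟨x, a, e, 1, one_mem _, (mul_one _).symm⟩
  have e := Y.syl.max R' (by
      rintro _ ⟨x, a, e, rfl⟩
      exact (m _).2 ⟨_, h1 (pT x a e), h.π_p x a e⟩)
    (fun y hy => by
      obtain ⟨g, hg, rfl⟩ := (m y).1 hy
      exact h.q.mapA g (h2 hg)) (hp h3)
  obtain ⟨x, a, b, k⟩ : π r ∈ Y.T := e ▸ (m _).2 ⟨r, hr, rfl⟩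
  obtain ⟨c, c1, c2, rfl⟩ := h.q.eqA (h.T_A hT (pT x a b)) (h2 hr) ((h.π_p x a b).trans k.symm)
  exact (hT _).2 ⟨x, a, b, c, ⟨c1, c2, T2.of_mem h3 ((mul_mem_cancel_left (h1 (pT x a b))).1 hr)⟩, rfl⟩

theorem gen : Z2 A ≤ closure {c | ∃ a x, c = ψ a x} := by
  set P := closure {c | ∃ a x, c = ψ a x} with hP
  have PZ : P ≤ Z2 A := (closure_le _).2 (by rintro _ ⟨a, x, rfl⟩; exact h.ψ_Z a x)
  have ψP : ∀ a x, ψ a x ∈ P := fun a x => subset_closure ⟨a, x, rfl⟩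
  have φP : ∀ y, φ y ∈ P := fun y => by
    have := h.ψ_sq y 1
    rw [mul_one, mul_one] at this
    exact this ▸ mul_mem (ψP _ _) (ψP _ _)
  have zi : ∀ e, (z e)⁻¹ = z e := fun e => inv_eq_of_mul_eq_one_right (la_sq h.z_add e)
  let D : Subgroup G :=
    { carrier := {g | ∃ e, ∃ c ∈ P, g = z e * c}
      mul_mem' := by
        rintro _ _ ⟨e, c, hc, rfl⟩ ⟨e', c', hc', rfl⟩
        exact ⟨e + e', _, mul_mem hc hc', by
          rw [h.z_add, mul_assoc, ← mul_assoc c, ← (PZ hc).2.1 _ (h.z_A e')]; group⟩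
      one_mem' := ⟨0, 1, one_mem _, by rw [la_zero h.z_add, one_mul]⟩
      inv_mem' := by
        rintro _ ⟨e, c, hc, rfl⟩
        exact ⟨e, _, inv_mem hc, by rw [mul_inv_rev, zi, (PZ (inv_mem hc)).2.1 _ (h.z_A e)]⟩ }
  have PD : ∀ c ∈ P, c ∈ D := fun c hc => ⟨0, c, hc, by rw [la_zero h.z_add, one_mul]⟩
  have nD : ∀ g ∈ A, (∀ e, ∃ y, g * z e = z e * g * φ y) → ∀ d ∈ D, g * d * g⁻¹ ∈ D := by
    rintro g hg k _ ⟨e, c, hc, rfl⟩
    obtain ⟨y, k⟩ := k e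
    refine ⟨e, _, mul_mem (φP y) hc, ?_⟩
    rw [← mul_assoc, k, mul_assoc _ (φ y), mul_assoc (z e), (PZ (mul_mem (φP y) hc)).2.1 _ hg]; group
  have nv := fun x => nD _ (h.v_A x) fun e => ⟨_, h.vz x e⟩
  have nw := fun x => nD _ (h.w_A x) fun e => ⟨_, h.wz x e⟩
  have nz : ∀ x, ∀ d ∈ D, z x * d * (z x)⁻¹ ∈ D := fun x d hd =>
    have : z x ∈ D := ⟨x, 1, one_mem _, (mul_one _).symm⟩
    mul_mem (mul_mem this hd) (inv_mem this)
  let C : G → G → Prop := fun a b => a * b * a⁻¹ * b⁻¹ ∈ D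
  have Cs : ∀ a b, C a b → C b a := fun a b k => by
    have := inv_mem k
    rwa [show (a * b * a⁻¹ * b⁻¹)⁻¹ = b * a * b⁻¹ * a⁻¹ by group] at this
  have Cm : ∀ a a' b, (∀ d ∈ D, a * d * a⁻¹ ∈ D) → C a b → C a' b → C (a * a') b := fun a a' b n k k' => by
    have := mul_mem (n _ k') k
    rwa [show a * (a' * b * a'⁻¹ * b⁻¹) * a⁻¹ * (a * b * a⁻¹ * b⁻¹) = a * a' * b * (a * a')⁻¹ * b⁻¹ by
      group] at this
  have Cc : ∀ a b, a * b = b * a → C a b := fun a b k => by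
    show _ ∈ D
    rw [k, show b * a * a⁻¹ * b⁻¹ = 1 by group]; exact one_mem _
  have Cφ : ∀ a ∈ A, ∀ b ∈ A, ∀ y, a * b = b * a * φ y → C a b := fun a ha b hb y k => by
    show _ ∈ D
    rw [k, (h.φ_Z y).2.1 _ (mul_mem hb ha), show φ y * (b * a) * a⁻¹ * b⁻¹ = φ y by group]
    exact PD _ (φP y)
  have Cwv : ∀ a x, C (w a) (v x) := fun a x => by
    show _ ∈ D
    rw [h.wv, show v x * w a * (z (a * x) * ψ a x) * (w a)⁻¹ * (v x)⁻¹ =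
      v x * (w a * (z (a * x) * ψ a x) * (w a)⁻¹) * (v x)⁻¹ by group]
    exact nv _ _ (nw _ _ ⟨_, _, ψP a x, rfl⟩)
  have CT : ∀ b ∈ A, (∀ x, C (v x) b) → (∀ x, C (w x) b) → (∀ x, C (z x) b) → ∀ g ∈ T, C g b :=
    fun b hb k1 k2 k3 g hg => by
      obtain ⟨x, a, e, c, hc, rfl⟩ := (hT g).1 hg
      rw [mul_assoc, mul_assoc]
      exact Cm _ _ _ (nv x) (k1 x) (Cm _ _ _ (nw a) (k2 a) (Cm _ _ _ (nz e) (k3 e)
        (Cc _ _ (hc.2.1 _ hb).symm)))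
  have Cvz : ∀ x e, C (v x) (z e) := fun x e => Cφ _ (h.v_A x) _ (h.z_A e) _ (h.vz x e)
  have Cwz : ∀ x e, C (w x) (z e) := fun x e => Cφ _ (h.w_A x) _ (h.z_A e) _ (h.wz x e)
  intro c hc
  obtain ⟨e, c', hc', rfl⟩ : c ∈ D := cent_mem (std_perf h.q.std) (h.syl hT) (fun a ha b hb =>
    CT b (h.T_A hT hb)
      (fun x => Cs _ _ (CT _ (h.v_A x) (fun _ => Cc _ _ (la_comm h.v_add ..)) (fun _ => Cwv _ _)
        (fun _ => Cs _ _ (Cvz _ _)) b hb))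
      (fun x => Cs _ _ (CT _ (h.w_A x) (fun _ => Cs _ _ (Cwv _ _)) (fun _ => Cc _ _ (la_comm h.w_add ..))
        (fun _ => Cs _ _ (Cwz _ _)) b hb))
      (fun x => Cs _ _ (CT _ (h.z_A x) (fun _ => Cvz _ _) (fun _ => Cwz _ _)
        (fun _ => Cc _ _ (la_comm h.z_add ..)) b hb)) a ha) hc
  have k := h.q.one _ hc.2.1
  rw [h.q.mulK (AN (h.z_A e)) (PZ hc').2.1, h.π_z] at k
  rwa [(Y.inj _ _ _ k).2.2, la_zero h.z_add, one_mul]

end LaP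

omit [Finite G] in
/-- an involution `v` inverting `z ψ` -/
theorem la_inv {v z ψ φ C : G} (hC : C = z * ψ) (hv : v * C * v⁻¹ = C⁻¹) (z2 : z * z = 1) (φ2 : φ * φ = 1)
    (hz : z ∈ A) (hA : v ∈ A) (hψ : ψ ∈ 𝐂(A)) (hφ : φ ∈ 𝐂(A)) (e : v * z = z * v * φ) : ψ * ψ = φ := by
  have h1 : v * C * v⁻¹ = φ * C := by
    rw [hC, ← mul_assoc, e, mul_assoc _ φ, mul_assoc z, mul_mem hφ hψ _ hA, ← mul_assoc φ z, ← hφ _ hz]
    group
  have h2 : C * C = ψ * ψ := by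
    rw [hC, mul_assoc, ← mul_assoc ψ, ← hψ _ hz, ← mul_assoc, ← mul_assoc, z2, one_mul]
  rw [← h2, ← inv_eq_of_mul_eq_one_right φ2, eq_inv_iff_mul_eq_one, mul_eq_one_comm, ← mul_assoc, ← h1, hv,
    inv_mul_cancel]

end

theorem exists_cv {A : Subgroup G} {Y : H10.Sz.St Γ} {π : G → Γ} (q : Qf A Y.L π) :
    ∃ X : Cv G Γ, X.A = A := by
  obtain ⟨H, hH, kH, z, zA, kz, za, Hz⟩ := la_z q
  obtain ⟨N, hN, kN⟩ := q.onto _ Y.n_L
  obtain ⟨M, hM, kM⟩ := q.onto _ Y.m_L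
  obtain ⟨v, hv⟩ : ∃ v : F4 → G, ∀ x, v x = N * z x * N⁻¹ := ⟨_, fun _ => rfl⟩
  obtain ⟨w, hw⟩ : ∃ w : F4 → G, ∀ x, w x = M * z x * M⁻¹ := ⟨_, fun _ => rfl⟩
  have vA : ∀ x, v x ∈ A := fun x => hv x ▸ nA (AN hN) (zA x)
  have wA : ∀ x, w x ∈ A := fun x => hw x ▸ nA (AN hM) (zA x)
  have kv : ∀ x, π (v x) = Y.p x 0 0 := fun x => by rw [hv, q.conj (AN hN) (AN (zA x)), kN, kz, Y.n_p]
  have kw : ∀ x, π (w x) = Y.p 0 x 0 := fun x => by rw [hw, q.conj (AN hM) (AN (zA x)), kM, kz, Y.m_p]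
  have va : ∀ x x', v (x + x') = v x * v x' := fun x x' => by rw [hv, hv, hv, za, conj_mul]
  have wa : ∀ x x', w (x + x') = w x * w x' := fun x x' => by rw [hw, hw, hw, za, conj_mul]
  obtain ⟨φ, φa, φZ, vz⟩ := la_sym q vA zA va za (fun x e => by rw [kv, kz, Y.z_comm])
    fun a => ⟨w a, wA a, fun x => by
      rw [q.mul _ (AN (vA _)) _ (AN (zA _)), q.conj (AN (wA _)) (AN (vA _)), kv, kz, kw, Y.p_conj, Y.mul]; simp⟩
  obtain ⟨φ', φa', φZ', wz⟩ := la_sym q wA zA wa za (fun x e => by rw [kw, kz, Y.z_comm])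
    fun a => ⟨v a, vA a, fun x => by
      rw [q.mul _ (AN (wA _)) _ (AN (zA _)), q.conj (AN (vA _)) (AN (wA _)), kv, kz, kw, Y.p_conj, Y.mul]
      simp [mul_comm]⟩
  have vi : ∀ x, (v x)⁻¹ = v x := fun x => inv_eq_of_mul_eq_one_right (la_sq va x)
  have wi : ∀ x, (w x)⁻¹ = w x := fun x => inv_eq_of_mul_eq_one_right (la_sq wa x)
  choose ψ ψA ψK hψ using fun a x => q.eqA (zA (a * x)) (la_cmA (wA a) (vA x)) (by
    rw [q.cm (AN (wA a)) (AN (vA x)), kw, kv, kz, H10.Sz.St.cm_p]; simp)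
  have s1 : ∀ a x, ψ a x * ψ a x = φ (x * (a * x)) := fun a x =>
    la_inv (hψ a x) (by
      calc v x * (w a * v x * (w a)⁻¹ * (v x)⁻¹) * (v x)⁻¹ =
          v x * w a * v x * (w a)⁻¹ * (v x * v x)⁻¹ := by group
        _ = _ := by
          rw [la_sq va, inv_one, mul_one, mul_inv_rev, mul_inv_rev, mul_inv_rev, inv_inv, inv_inv, vi]; group)
      (la_sq za _) (la_sq φa _) (zA _) (vA x) (ψK a x) (φZ _).2.1 (vz x _)
  have s2 : ∀ a x, ψ a x * ψ a x = φ' (a * (a * x)) := fun a x =>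
    la_inv (hψ a x) (by
      calc w a * (w a * v x * (w a)⁻¹ * (v x)⁻¹) * (w a)⁻¹ =
          (w a * w a) * (v x * (w a)⁻¹ * (v x)⁻¹ * (w a)⁻¹) := by group
        _ = _ := by rw [la_sq wa, one_mul, mul_inv_rev, mul_inv_rev, mul_inv_rev, inv_inv, inv_inv, wi]; group)
      (la_sq za _) (la_sq φa' _) (zA _) (wA a) (ψK a x) (φZ' _).2.1 (wz a _)
  have h : LaP A Y π v w z φ ψ :=
    ⟨q, vA, wA, zA, kv, kw, kz, va, wa, za, φZ,
      fun a x => ⟨ψA a x, ψK a x, T2.of_pow (k := 1) (by rw [pow_one, sq, s1]; exact (φZ _).2.2)⟩, vz,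
      fun a e => by
        have k := (s2 1 (a * e)).symm.trans (s1 1 (a * e))
        rw [one_mul, one_mul] at k
        rw [wz, k]; congr 2; ring,
      fun a x => by
        rw [← hψ, wi, vi]
        calc w a * v x = v x * (w a * w a) * v x * (w a * v x) := by
              rw [la_sq wa, mul_one, la_sq va, one_mul]
          _ = _ := by group,
      fun a x => by rw [s1]; congr 1; ring⟩
  obtain ⟨T, hT⟩ := h.exists_T
  refine ⟨⟨A, Y, π, q, v, w, z, H, φ, ψ, T, vA, wA, zA, hH, kv, kw, kz, kH, va, wa, za, φa, φZ, h.ψ_Z, vz,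
    h.wz, h.wv, h.ψ_sq, Hz, fun a x => ?_, h.gen hT, h.isP hT, hT⟩, rfl⟩
  have h1 := q.cm_eq (a := w (ϖ * a)) (a' := H * w a * H⁻¹) (b := v (ϖ * x)) (b' := H * v x * H⁻¹) (wA _)
    (In.of_A (nA (AN hH) (wA a))) (vA _) (nA (AN hH) (vA x))
    (by rw [q.conj (AN hH) (AN (wA a)), kw, kw, kH, Y.h_p]; simp)
    (by rw [q.conj (AN hH) (AN (vA x)), kv, kv, kH, Y.h_p]; simp)
  rw [show H * w a * H⁻¹ * (H * v x * H⁻¹) * (H * w a * H⁻¹)⁻¹ * (H * v x * H⁻¹)⁻¹ =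
    H * (w a * v x * (w a)⁻¹ * (v x)⁻¹) * H⁻¹ by group, hψ, hψ, ← conj_mul, Hz, ψK a x _ hH,
    mul_inv_cancel_right, show ϖ * a * (ϖ * x) = ω * (a * x) by clear * -; decide +revert] at h1
  exact (mul_left_cancel h1).symm

end H79.A4
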