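import Cfsg.Agent.Lib.A41.BasL
import Cfsg.Agent.Lib.A41.TA

/-! An involution of a conjugate of the centraliser that is inner. -/

set_option autoImplicit false

namespace H79.A4

open H69 Subgroup Cfsg
open H30 (F4)
open H10.HeS (T2)
open scoped H10.Sz

variable {G Γ : Type*} [Group G] [Group Γ] [Finite G] [Finite Γ]

open H10.Sz in
theorem gx (Y : H10.Sz.St Γ) {s : Γ} (hs : s ∈ 𝐍(Y.L)) (s2 : s * s = 1) {l m : F4}
    (q : Y.Act s true false l m) :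
    (∃ x ∈ Y.L, s * x * s⁻¹ = x ∧ ∀ e, x * Y.p 0 0 e * x⁻¹ = Y.p 0 0 (ω * e)) ∧
      (∀ e, s * Y.p 0 0 e * s⁻¹ = Y.p 0 0 e) ∧ ∀ e, ∃ τ ∈ Y.T, τ * s * τ⁻¹ = s * Y.p 0 0 e := by
  have si := inv_eq_of_mul_eq_one_right s2
  have ss : ∀ y, s * (s * y * s⁻¹) * s⁻¹ = y := fun y => by
    rw [si, ← mul_assoc, ← mul_assoc, s2, one_mul, mul_assoc, s2, mul_one]
  obtain ⟨-, -, q1, q2⟩ := (q.mul q).uniq (show Y.Act _ false false 1 1 by rw [s2]; exact .one)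
  have cs' : ∀ τ, τ⁻¹ * s * τ⁻¹⁻¹ = s * ((s * τ * s⁻¹)⁻¹ * τ) := fun τ => by
    rw [si]; simp [mul_assoc, si, ← mul_assoc s s, s2]
  have lm : l * m = 1 := by simpa [th, mul_comm] using q1
  have qz : ∀ e, s * Y.p 0 0 e * s⁻¹ = Y.p 0 0 e := fun e => by simpa [lm, th] using q.z e
  have tv : ∀ x, ∃ e, s * Y.p x 0 0 * s⁻¹ = Y.p 0 (l * x) e := fun x => by simpa [c1, c2, th] using q.t x 0 0
  have tz : ∀ e, ∃ τ ∈ Y.T, τ * s * τ⁻¹ = s * Y.p 0 0 e := fun e => by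
    obtain ⟨x, hx⟩ : ∃ x, l * x * x = e := by have := q.l0; clear * - this; decide +revert
    obtain ⟨b, k⟩ := tv x
    refine ⟨(Y.p x 0 0 * Y.p 0 (l * x) b)⁻¹, inv_mem (mul_mem (Y.p_T ..) (Y.p_T ..)), ?_⟩
    rw [cs', ← conj_mul, k, ← k, ss, k, Y.mul, Y.mul, Y.p_inv, Y.mul, ← hx]
    congr 2 <;> (clear * -; decide +revert)
  refine ⟨?_, qz, tz⟩
  obtain ⟨x, a, e, k⟩ : Y.h * s * Y.h⁻¹ * s⁻¹ ∈ Y.T := Y.cen _ (by
    simpa [mul_assoc] using mul_mem Y.h_L (Y.cL hs (inv_mem Y.h_L))) (by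
    have a1 : ∀ e, Commute s (Y.p 0 0 e) := fun e => mul_inv_eq_iff_eq_mul.1 (qz e)
    have a2 : Commute (Y.h * s * Y.h⁻¹) (Y.p 0 0 1) := by
      have := (a1 ϖ).conj Y.h
      rwa [Y.h_z] at this
    exact (a2.mul_left (a1 1).inv_left).eq)
  have k2 : s * Y.p x a e * s⁻¹ = (Y.p x a e)⁻¹ := by rw [← k, si]; simp [mul_assoc, si, ← mul_assoc s s, s2]
  obtain ⟨_, k3⟩ := q.t x a e
  obtain rfl : a = l * x := by simpa [c2, th] using (Y.p_inj ((Y.p_inv ..).symm.trans (k2.symm.trans k3))).2.1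
  obtain ⟨b, k4⟩ := tv x
  obtain ⟨τ, hτ, k5⟩ := tz (b + e)
  have k6 : (Y.p x 0 0 * τ)⁻¹ * Y.h * s * ((Y.p x 0 0 * τ)⁻¹ * Y.h)⁻¹ = s := by
    have : Y.p x 0 0 * τ * s * (Y.p x 0 0 * τ)⁻¹ = Y.h * s * Y.h⁻¹ := by
      rw [mul_inv_eq_iff_eq_mul.1 k, show Y.p x 0 0 * τ * s * (Y.p x 0 0 * τ)⁻¹ =
        Y.p x 0 0 * (τ * s * τ⁻¹) * (Y.p x 0 0)⁻¹ * s⁻¹ * s by group, k5, Y.v_inv,
        show Y.p x 0 0 * (s * Y.p 0 0 (b + e)) * Y.p x 0 0 * s⁻¹ = Y.p x 0 0 * (s * Y.p 0 0 (b + e) * s⁻¹) *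
        (s * Y.p x 0 0 * s⁻¹) by group, qz, k4, Y.mul, Y.mul]
      congr 2 <;> (clear * -; decide +revert)
    rw [← cji (Y.p x 0 0 * τ), this]; group
  have hT := inv_mem (mul_mem (Y.p_T x 0 0) hτ)
  refine ⟨_, mul_mem (Y.T_L hT) Y.h_L, by rw [← mul_inv_eq_iff_eq_mul.1 k6, mul_inv_cancel_right], fun e => ?_⟩
  rw [(Pm.Act.of_T hT).mul Y.act_h |>.z e]
  congr 1

open H10.Sz in
theorem fx (Y : H10.Sz.St Γ) {s : Γ} (s2 : s * s = 1) {σ : Bool} {l m : F4} (q : Y.Act s σ true l m) :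
    ∃ x a e e', a * x ≠ 0 ∧ s * Y.p x a e * s⁻¹ = Y.p x a e ∧
      Y.p 0 0 e' * s * (Y.p 0 0 e')⁻¹ = s * Y.p 0 0 (a * x) := by
  have si := inv_eq_of_mul_eq_one_right s2
  have ss : ∀ y, s * (s * y * s⁻¹) * s⁻¹ = y := fun y => by
    rw [si, ← mul_assoc, ← mul_assoc, s2, one_mul, mul_assoc, s2, mul_one]
  obtain ⟨-, -, q1, q2⟩ := (q.mul q).uniq (show Y.Act _ false false 1 1 by rw [s2]; exact .one)
  have cs' : ∀ τ, τ⁻¹ * s * τ⁻¹⁻¹ = s * ((s * τ * s⁻¹)⁻¹ * τ) := fun τ => by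
    rw [si]; simp [mul_assoc, si, ← mul_assoc s s, s2]
  obtain ⟨x, a, h1, h2, h3⟩ : ∃ x a, c1 σ true l m x a = x ∧ c2 σ true l m x a = a ∧ a * x ≠ 0 := by
    clear * - q1 q2; decide +revert
  obtain ⟨b, k⟩ := q.t x a 0
  rw [h1, h2] at k
  have kz : ∀ e, s * Y.p x a e * s⁻¹ = Y.p x a (b + l * m * (e * e)) := fun e => by
    rw [← Y.mul_z, ← k, ← show th true e = e * e from rfl, ← q.z, conj_mul, Y.mul_z, zero_add]
  have k1 := ss (Y.p x a 0)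
  rw [k, kz, Y.p_eq] at k1
  have l0 := mul_ne_zero q.l0 q.m0
  obtain ⟨e, he⟩ : ∃ e, b + l * m * (e * e) = e := by
    have := k1.2.2
    generalize l * m = u at *
    clear * - this l0; decide +revert
  have k2 := kz e
  rw [he] at k2
  have k3 : s * Y.p 0 0 (a * x) * s⁻¹ = Y.p 0 0 (a * x) := by rw [← Y.p_sq x a e, ← conj_mul, k2]
  obtain ⟨e', he'⟩ : ∃ e', l * m * th true e' + e' = a * x := by
    have := (Y.p_inj ((q.z _).symm.trans k3)).2.2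
    generalize l * m = u, a * x = y at *
    clear * - this l0; decide +revert
  refine ⟨x, a, e, e', h3, k2, ?_⟩
  have := cs' (Y.p 0 0 e')
  rw [q.z, Y.z_inv (l * m * _), Y.z_mul, he', inv_inv, Y.z_inv] at this
  rw [Y.z_inv, this]

theorem Cv.lb_j (X : Cv G Γ) {s x : G} (sN : s ∈ 𝐍(X.A)) (hx : x ∈ X.A)
    (h1 : X.π s * X.π x * (X.π s)⁻¹ = X.π x)
    (h2 : ∀ e, X.π x * X.Y.p 0 0 e * (X.π x)⁻¹ = X.Y.p 0 0 (ω * e))
    (h3 : ∀ e, X.π s * X.Y.p 0 0 e * (X.π s)⁻¹ = X.Y.p 0 0 e) (e : F4) :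
    ∃ j ∈ X.T, s * j * s⁻¹ = j ∧ X.π j = X.Y.p 0 0 e := by
  have hz := X.z_A (ω * e)
  have e1 : X.π (x * X.z (ω * e) * x⁻¹) = X.Y.p 0 0 (ω * (ω * e)) := by
    rw [X.q.conj (AN hx) (AN hz), X.π_z, h2]
  refine ⟨x * X.z (ω * e) * x⁻¹ * (X.z (ω * e))⁻¹, mul_mem (X.lift2 (nA (AN hx) hz)
    ((T2.of_sq (X.z2 _)).conj x) (e1 ▸ X.Y.p_T ..)) (inv_mem (X.z_T _)), ?_, ?_⟩
  · conv_rhs => rw [← X.q.cm_eq hx (.of_A (nA sN hx)) hz (nA sN hz) (by rw [X.q.conj sN (AN hx), h1])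
      (by rw [X.q.conj sN (AN hz), X.π_z, h3])]
    group
  · rw [X.q.mul _ (AN (nA (AN hx) hz)) _ (AN (inv_mem hz)), e1, X.q.inv (AN hz), X.π_z, X.Y.z_inv,
      X.Y.z_mul]
    congr 1
    clear * -; decide +revert

theorem Cv.lb_two (X : Cv G Γ) {B : Subgroup G} {a b : G} (ha : Dk X.A B a) (hb : b ∈ 𝐂(B))
    (aN : a ∈ 𝐍(X.A)) (bN : b ∈ 𝐍(X.A)) {σ : Bool} {l m l' m' : F4} (qa : X.Y.Act (X.π a) true false l m)
    (qb : X.Y.Act (X.π b) σ true l' m') : Inn X.A := by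
  obtain ⟨⟨x, hx0, h1, h2⟩, h3, -⟩ := gx X.Y (X.q.mapN a aN) (by rw [← X.q.mul a aN a aN, ha.sq, X.q.one']) qa
  obtain ⟨x, hx, rfl⟩ := X.q.onto x hx0
  obtain ⟨e, he⟩ : ∃ e, e + l' * m' * (e * e) ≠ 0 := by
    have := mul_ne_zero qb.l0 qb.m0
    generalize l' * m' = u at *
    clear * - this; decide +revert
  obtain ⟨j, jT, ja, πj⟩ := X.lb_j aN hx h1 h2 h3 e
  have jB : j ∈ 𝐍(B) := ha.cN X.std (mul_inv_eq_iff_eq_mul.1 ja).symm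
  have iB : j * b * j⁻¹ * b⁻¹ ∈ 𝐂(B) := mul_mem (nK jB hb) (inv_mem hb)
  have iT : j * b * j⁻¹ * b⁻¹ ∈ X.T := by
    have := mul_mem jT (conj_mem_of_mem_normalizer (X.nT bN qb.norm) (inv_mem jT))
    simpa only [mul_assoc] using this
  have πi : X.π (j * b * j⁻¹ * b⁻¹) = X.Y.p 0 0 (e + l' * m' * (e * e)) := by
    rw [X.q.cm (AN (X.T_A jT)) bN, πj, X.Y.z_inv, ← X.Y.z_mul, ← show H10.Sz.th true e = e * e from rfl,
      ← qb.z]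
    simp only [mul_assoc]
  generalize j * b * j⁻¹ * b⁻¹ = i at iB iT πi
  refine ⟨B, i, ⟨ha.cj, ha.ne, iB, ?_, fun f => X.Y.z_ne he (by rw [← πi, f, X.q.one'])⟩, .of_A (X.T_A iT)⟩
  refine ha.cj.one X.std ha.ne ((X.q.eq_one (AN (X.T_A (mul_mem iT iT)))).1 ?_) (mul_mem iB iB)
    (.of_mem X.isP (mul_mem iT iT))
  rw [X.q.mul _ (AN (X.T_A iT)) _ (AN (X.T_A iT)), πi, X.Y.z_sq]

theorem Cv.four_out (X : Cv G Γ) {B : Subgroup G} {s t : G} (hs : Dk X.A B s) (ht : Dk X.A B t)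
    (sN : s ∈ 𝐍(X.A)) (tN : t ∈ 𝐍(X.A)) (c : s * t = t * s) (h1 : ¬ In X.A s) (h2 : ¬ In X.A t)
    (h3 : ¬ In X.A (s * t)) : Inn X.A := by
  have st2 : s * t * (s * t) = 1 := by
    rw [mul_assoc, ← mul_assoc t, ← c, mul_assoc, ht.sq, mul_one, hs.sq]
  have hst : Dk X.A B (s * t) :=
    ⟨hs.cj, hs.ne, mul_mem hs.mem ht.mem, st2, fun e => h3 (e ▸ .of_A (one_mem _))⟩
  obtain ⟨X', e, hT⟩ := X.norm2 (Q := zpowers s ⊔ zpowers t)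
    (IsPGroup.to_sup_of_normal_left' (T2.of_sq hs.sq).pg (T2.of_sq ht.sq).pg
      (zpowers_le.2 (centralizer_le_normalizer _ (by
        rintro _ ⟨n, rfl⟩
        exact ((show Commute s t from c).zpow_left n).eq))))
    (sup_le (zpowers_le.2 sN) (zpowers_le.2 tN))
  rw [← e] at hs ht sN tN h1 h2 h3 hst ⊢
  obtain ⟨σ, f, l, m, q⟩ := H10.Sz.Pm.act_of_norm (hT s (mem_sup_left (mem_zpowers s)))
  obtain ⟨σ', f', l', m', q'⟩ := H10.Sz.Pm.act_of_norm (hT t (mem_sup_right (mem_zpowers t)))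
  have q2 := q.mul q'
  rw [← X'.q.mul s sN t tN] at q2
  cases f <;> cases f'
  · cases σ
    · exact absurd (X'.in_act sN (.of_sq hs.sq) q) h1
    cases σ'
    · exact absurd (X'.in_act tN (.of_sq ht.sq) q') h2
    · exact absurd (X'.in_act (mul_mem sN tN) (.of_sq st2) q2) h3
  · cases σ
    · exact absurd (X'.in_act sN (.of_sq hs.sq) q) h1
    · exact X'.lb_two hs ht.mem sN tN q q'
  · cases σ'
    · exact absurd (X'.in_act tN (.of_sq ht.sq) q') h2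
    · exact X'.lb_two ht hs.mem tN sN q' q
  · cases σ <;> cases σ'
    · exact absurd (X'.in_act (mul_mem sN tN) (.of_sq st2) q2) h3
    · exact X'.lb_two hst hs.mem (mul_mem sN tN) sN q2 q
    · exact X'.lb_two hst hs.mem (mul_mem sN tN) sN q2 q
    · exact absurd (X'.in_act (mul_mem sN tN) (.of_sq st2) q2) h3

end H79.A4
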