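import Cfsg.Agent.Lib.A41.BasL

/-! The Sylow 2-subgroup of the centre is elementary abelian. -/

set_option autoImplicit false
set_option linter.unusedSectionVars false

namespace H79.A4

open H69 Subgroup Cfsg
open H30 (F4)
open H10.HeS (T2)
open scoped H10.Sz

variable {G Γ : Type*} [Group G] [Group Γ] [Finite G] [Finite Γ]

/-- `t` is an involution of the centre of `B` that is inner on `A` -/
structure LcH (X : Cv G Γ) (B : Subgroup G) (t : G) : Prop where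
  cj : Cj X.A B
  ne : B ≠ X.A
  tZ : t ∈ Z2 B
  t2 : t * t = 1
  tI : In X.A t
  πt : X.π t = X.Y.p 0 0 1
  φ1 : ∃ y, X.φ y ≠ 1

theorem lc_comm {g s : G} (h : g * s * g⁻¹ * s⁻¹ = 1) : g * s = s * g := by
  rw [← mul_inv_eq_iff_eq_mul, ← mul_inv_eq_one, h]

theorem lc_mv : ∀ (y l m : F4) (σ f : Bool), y ≠ 0 → ¬ (σ = false ∧ f = false) →
    ∃ x a, (x * 1 + a * a * (1 * 1) = 0 ∨ x * 1 + a * a * (1 * 1) = y) ∧
      ¬ (x + H10.Sz.c1 σ f l m x a = 0 ∧ a + H10.Sz.c2 σ f l m x a = 0) := by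
  decide +kernel

namespace LcH

variable {X : Cv G Γ} {B : Subgroup G} {t s n : G}

theorem sB (h : LcH X B t) : IsStandardSubgroup B := h.cj.std X.std

theorem one (h : LcH X B t) {k : G} (hk : k ∈ 𝐂(X.A)) (hk' : k ∈ 𝐂(B)) (p : T2 k) : k = 1 :=
  h.cj.one X.std h.ne hk hk' p

theorem t1 (h : LcH X B t) : t ≠ 1 := fun e =>
  X.Y.z_ne one_ne_zero (by rw [← h.πt, e, X.q.one'])

theorem key (h : LcH X B t) {g : G} (hg : g ∈ X.A) (k : g ∈ 𝐍(B)) {x a e : F4}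
    (p : X.π g = X.Y.p x a e) : X.φ (x * 1 + a * a * (1 * 1)) = 1 := by
  have e := X.cm_z hg h.tI p h.πt
  exact h.one (X.φ_Z _).2.1 (e ▸ mul_mem (nK k h.tZ.2.1) (inv_mem h.tZ.2.1)) (X.φ_Z _).2.2

theorem swap (h : LcH X B t) : ∃ X' : Cv G Γ, LcH X' B t ∧ X'.A = X.A ∧ X'.π = X.π ∧
    ∀ x e, X'.Y.p x 0 e = X.Y.p 0 x e := by
  obtain ⟨X', e1, e2, e3, -, -, -, -, e4⟩ := X.swap
  have e : ∀ x e, X'.Y.p x 0 e = X.Y.p 0 x e := fun x e => by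
    rw [e3]
    change X.Y.p 0 x (e + 0 * x) = _
    rw [zero_mul, add_zero]
  obtain ⟨y, hy⟩ := h.φ1
  exact ⟨X', ⟨e1 ▸ h.cj, e1 ▸ h.ne, h.tZ, h.t2, e1 ▸ h.tI, by rw [e2, e, h.πt], y * y, by
    rwa [e4, show y * y * (y * y) = y by clear * -; decide +revert]⟩, e1, e2, e⟩

theorem nv (h : LcH X B t) (hs : s ∈ 𝐂(B)) (s2 : s * s = 1) (s1 : s ≠ 1) (i : In X.A s) {x0 e0 : F4}
    (p : X.π s = X.Y.p x0 0 e0) : x0 = 0 := by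
  by_contra o
  obtain ⟨y, hy⟩ := h.φ1
  obtain ⟨e, he⟩ : ∃ e, y * e0 + x0 * e = 0 := by clear * - o; decide +revert
  have hg : X.v y * X.w 0 * X.z e ∈ X.A := mul_mem (mul_mem (X.v_A _) (X.w_A _)) (X.z_A _)
  have c := X.cm_v hg i (X.π_p y 0 e) p
  rw [he, X.φ0] at c
  have := h.key hg (cN h.sB hs (.of_sq s2) s1 (lc_comm c)) (X.π_p y 0 e)
  simp [hy] at this

theorem πc (h : LcH X B t) (hn : n ∈ 𝐂(B)) (k : n ∈ 𝐍(X.A)) :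
    X.π n * X.Y.p 0 0 1 = X.Y.p 0 0 1 * X.π n := by
  rw [← h.πt, ← X.q.mul _ k _ h.tI.mem, ← X.q.mul _ h.tI.mem _ k, hn t h.tZ.1]

theorem inn (h : LcH X B t) (hs : s ∈ 𝐂(B)) (s2 : s * s = 1) (i : In X.A s) : s = 1 ∨ s = t := by
  rw [or_iff_not_imp_left]
  intro s1
  obtain ⟨x0, a0, e0, p⟩ := X.Y.cen _ ((X.q.in_iff i.mem).1 i) (h.πc hs i.mem)
  have q : a0 * x0 = 0 := by
    have := X.q.mul _ i.mem _ i.mem
    rw [s2, X.q.one', p, X.Y.p_sq] at this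
    exact (X.Y.p_one.1 this.symm).2.2
  obtain ⟨rfl, rfl⟩ : x0 = 0 ∧ a0 = 0 := by
    obtain ⟨X', h', e1, e2, e3⟩ := h.swap
    rcases mul_eq_zero.1 q with rfl | rfl
    · exact ⟨h.nv hs s2 s1 i p, rfl⟩
    · exact ⟨rfl, h'.nv hs s2 s1 (e1 ▸ i) (by rw [e2, e3, p])⟩
  by_cases e : e0 = 0
  · rw [e, X.Y.p_zero, X.q.eq_one i.mem] at p
    exact absurd (h.one p hs (.of_sq s2)) s1
  by_cases e' : e0 = 1
  · have : X.π (s * t) = 1 := by rw [X.q.mul _ i.mem _ h.tI.mem, p, h.πt, e', X.Y.z_sq]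
    have := h.one ((X.q.eq_one (i.mul h.tI).mem).1 this) (mul_mem hs h.tZ.2.1)
      ((T2.of_sq s2).mul (.of_sq h.t2) (hs t h.tZ.1).symm)
    rw [← h.t2] at this
    exact mul_right_cancel this
  exfalso
  obtain ⟨y, hy⟩ := h.φ1
  obtain ⟨x, a, k1, k2⟩ : ∃ x a, x * e0 + a * a * (e0 * e0) = 0 ∧ x * 1 + a * a * (1 * 1) = y := by
    clear * - e e'; decide +revert
  have hg : X.v x * X.w a * X.z 0 ∈ X.A := mul_mem (mul_mem (X.v_A _) (X.w_A _)) (X.z_A _)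
  have c := X.cm_z hg i (X.π_p x a 0) p
  rw [k1, X.φ0] at c
  exact hy (k2 ▸ h.key hg (cN h.sB hs (.of_sq s2) s1 (lc_comm c)) (X.π_p x a 0))

theorem ker (h : LcH X B t) (hZ : Z2 B ≤ 𝐍(X.A)) : ∃ y, y ≠ 0 ∧ X.φ y = 1 := by
  by_contra o
  push Not at o
  obtain ⟨g, rfl⟩ := h.cj
  have k : ∀ y, y ≠ 0 → g * X.φ y * g⁻¹ = t := fun y hy => by
    obtain ⟨c, hc, e⟩ := X.phi_sq y
    have z := cjZ (g := g) hc
    have i := X.in_sq (hZ z) z.2.2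
    rw [conj_mul, e] at i
    refine (h.inn (cjK (X.φ_Z y).2.1) (by rw [conj_mul, X.φ2]; group) i).resolve_left fun e => o y hy ?_
    simpa using e
  have e := (H10.Sz.cji g).1 ((k 1 (by decide)).trans (k ω (by decide)).symm)
  exact o (1 + ω) (by decide) (by rw [X.φ_add, e, X.φ2])

theorem cmj (h : LcH X B t) (hZ : Z2 B ≤ 𝐍(X.A)) (hn : n ∈ 𝐂(B)) (k : n ∈ 𝐍(X.A)) (p : T2 n)
    (o : ¬ In X.A n) : ∃ g ∈ 𝐍(B), In X.A (g * n * g⁻¹ * n⁻¹) ∧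
      g * n * g⁻¹ * n⁻¹ * (g * n * g⁻¹ * n⁻¹) = t := by
  obtain ⟨y, y0, hy⟩ := h.ker hZ
  have nT := H10.Sz.St.nT (X.q.mapN n k) one_ne_zero (mul_inv_eq_iff_eq_mul.2 (h.πc hn k))
  obtain ⟨σ, f, l, m, ac⟩ := H10.Sz.Pm.act_of_norm nT
  obtain ⟨x, a, k1, k2⟩ := lc_mv y l m σ f y0 (by rintro ⟨rfl, rfl⟩; exact o (X.in_act k p ac))
  have gT : X.v x * X.w a * X.z 0 ∈ X.T := mul_mem (mul_mem (X.v_T _) (X.w_T _)) (X.z_T _)
  have pg := X.π_p x a 0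
  generalize X.v x * X.w a * X.z 0 = g at gT pg
  have gA := X.T_A gT
  have c := X.cm_z gA h.tI pg h.πt
  have gN : g ∈ 𝐍(B) := cN h.sB h.tZ.2.1 h.tZ.2.2 h.t1 (lc_comm (by
    rcases k1 with e | e <;> rw [c, e]
    exacts [X.φ0, hy]))
  have jC : g * n * g⁻¹ * n⁻¹ ∈ 𝐂(B) := mul_mem (nK gN hn) (inv_mem hn)
  have jT : g * n * g⁻¹ * n⁻¹ ∈ X.T := by
    rw [show g * n * g⁻¹ * n⁻¹ = g * (n * g⁻¹ * n⁻¹) by group]
    exact mul_mem gT ((mem_normalizer_iff.1 (X.nT k nT) _).1 (inv_mem gT))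
  obtain ⟨e, he⟩ := ac.t x a 0
  have pj : ∃ e', X.π (g * n * g⁻¹ * n⁻¹) =
      X.Y.p (x + H10.Sz.c1 σ f l m x a) (a + H10.Sz.c2 σ f l m x a) e' := by
    rw [X.q.cm (AN gA) k, show X.π g * X.π n * (X.π g)⁻¹ * (X.π n)⁻¹ =
      X.π g * (X.π n * X.π g * (X.π n)⁻¹)⁻¹ by group, pg, he, X.Y.p_inv, X.Y.mul]
    exact ⟨_, rfl⟩
  obtain ⟨e', pj⟩ := pj
  refine ⟨g, gN, .of_A (X.T_A jT), ?_⟩
  generalize g * n * g⁻¹ * n⁻¹ = j at jC jT pj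
  have jA := X.T_A jT
  have jj := mul_mem jA jA
  have j4 : j * j * (j * j) = 1 := h.one ((X.q.eq_one (AN (mul_mem jj jj))).1 (by
    rw [X.q.mul _ (AN jj) _ (AN jj), X.q.mul _ (AN jA) _ (AN jA), pj, X.Y.p_sq, X.Y.z_sq]))
    (mul_mem (mul_mem jC jC) (mul_mem jC jC)) (.of_mem X.isP (mul_mem (mul_mem jT jT) (mul_mem jT jT)))
  refine (h.inn (mul_mem jC jC) j4 (.of_A jj)).resolve_left fun j2 => k2 ?_
  rcases h.inn jC j2 (.of_A jA) with e | e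
  · rw [e, X.q.one', eq_comm, X.Y.p_one] at pj
    exact ⟨pj.1, pj.2.1⟩
  · rw [e, h.πt, eq_comm, X.Y.p_eq] at pj
    exact ⟨pj.1, pj.2.1⟩

theorem elim (h : LcH X B t) (hZ : Z2 B ≤ 𝐍(X.A)) {y : G} (hy : y ∈ Z2 B) (e : y * y = t)
    (hs : s ∈ 𝐂(B)) (k : s ∈ 𝐍(X.A)) (s2 : s * s = 1) (s1 : s ≠ 1) (st : s ≠ t) : False := by
  obtain ⟨y, hy, i, e⟩ : ∃ y ∈ Z2 B, In X.A y ∧ y * y = t := by
    by_cases i : In X.A y
    · exact ⟨y, hy, i, e⟩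
    · obtain ⟨g, hg, a, b⟩ := h.cmj hZ hy.2.1 (hZ hy) hy.2.2 i
      exact ⟨_, mul_mem (nZ hg hy) (inv_mem hy), a, b⟩
  obtain ⟨g, hg, a, b⟩ := h.cmj hZ hs k (.of_sq s2) fun i => (h.inn hs s2 i).elim s1 st
  have jC : g * s * g⁻¹ * s⁻¹ ∈ 𝐂(B) := mul_mem (nK hg hs) (inv_mem hs)
  have si : s⁻¹ = s := inv_eq_of_mul_eq_one_right s2
  have inv : g * s * g⁻¹ * s⁻¹ * (s * (g * s * g⁻¹ * s⁻¹) * s⁻¹) = 1 := by
    calc _ = g * (s * s) * g⁻¹ * (s⁻¹ * s⁻¹) := by group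
      _ = 1 := by rw [si, s2]; group
  generalize g * s * g⁻¹ * s⁻¹ = j at a b jC inv
  have c := jC y hy.1
  have jB : j ∈ B := by
    have q : y * j * (y * j) = 1 := by
      calc _ = y * (j * y) * j := by group
        _ = y * y * (j * j) := by rw [← c]; group
        _ = 1 := by rw [e, b, h.t2]
    rw [← mul_mem_cancel_left hy.1]
    rcases h.inn (mul_mem hy.2.1 jC) q (i.mul a) with e | e <;> rw [e]
    exacts [one_mem _, h.tZ.1]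
  rw [← hs j jB, mul_inv_cancel_right, b] at inv
  exact h.t1 inv

end LcH

theorem Cv.elem (X : Cv G Γ) (h4 : Four 𝐂(X.A)) (hi : Inn X.A) : ∀ c ∈ Z2 X.A, c * c = 1 := by
  intro c hc
  by_contra c2
  obtain ⟨B, d, D, i⟩ := hi
  have hZ : Z2 X.A ≤ 𝐍(B) := fun y hy => D.cN X.std (i.comm hy.1 hy.2.1)
  have hu := mul_mem hc hc
  obtain ⟨X1, e1, p1⟩ := X.to_z i (D.notK X.std) (D.sq ▸ one_mem _)
  obtain ⟨k, hk, k2, e⟩ := X1.dec_z (e1 ▸ i.mem) D.sq p1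
  rw [e1] at hk
  obtain ⟨b, hb, b2, b1, bu, bk⟩ := four_cent h4 hk k2 hu
  have bN : b ∈ 𝐍(B) := D.cN X.std (by
    rw [e, ← mul_assoc, ← hb _ (e1 ▸ X1.z_A 1), mul_assoc, bk, mul_assoc])
  obtain ⟨X2, rfl⟩ := X.of_cj D.cj
  have ui := X2.in_sq (hZ hc) hc.2.2
  obtain ⟨X3, e3, p3⟩ := X2.to_z ui (fun o => c2 (D.cj.one X.std D.ne hu.2.1 o hu.2.2))
    (X.pow4 hc ▸ one_mem _)
  rw [← e3] at D hZ bN ui
  obtain ⟨g, hg⟩ := D.cj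
  have h : LcH X3 X.A (c * c) := ⟨D.cj.symm, D.ne.symm, hu, X.pow4 hc, ui, p3,
    X3.phi_ne (hg ▸ cjZ (g := g) hc) (by rw [conj_mul]; simpa using c2)⟩
  exact h.elim hZ hc rfl hb bN b2 b1 bu

end H79.A4
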