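import Cfsg.Agent.Lib.A41.BasL

/-! The Sylow 2-subgroup of the centre does not have order two. -/

set_option autoImplicit false

namespace H79.A4

open H69 Subgroup Cfsg
open H30 (F4)
open H10.HeS (T2)
open scoped H10.Sz

variable {G Γ : Type*} [Group G] [Group Γ] [Finite G] [Finite Γ]

theorem ld_ker {χ : F4 → G} {u : G} (u2 : u * u = 1) (add : ∀ y y', χ (y + y') = χ y * χ y')
    (val : ∀ y, χ y = 1 ∨ χ y = u) : ∃ y, y ≠ 0 ∧ χ y = 1 := by
  rcases val 1 with a | a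
  · exact ⟨1, by decide, a⟩
  rcases val ω with b | b
  · exact ⟨ω, by decide, b⟩
  exact ⟨1 + ω, by decide, by rw [add, a, b, u2]⟩

theorem ld_key (X : Cv G Γ) {B : Subgroup G} (c : Cj X.A B) (ne : B ≠ X.A) {u : G} (u2 : u * u = 1)
    (uK : u ∈ 𝐂(X.A)) (u1 : u ≠ 1) {χ : F4 → G} (add : ∀ y y', χ (y + y') = χ y * χ y')
    (val : ∀ y, χ y = 1 ∨ χ y = u) (on : ∃ y, χ y = u) (h : ∀ e, X.z e * χ e ∈ 𝐂(B)) : False := by
  have K : ∀ y, χ y ∈ 𝐂(X.A) := fun y => by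
    rcases val y with a | a <;> rw [a]
    exacts [one_mem _, uK]
  have sq : ∀ y, χ y * χ y = 1 := fun y => by
    rcases val y with a | a <;> rw [a]
    exacts [one_mul _, u2]
  have hc : ∀ e, X.H * (X.z e * χ e) * X.H⁻¹ = X.z (ω * e) * χ e := fun e => by
    rw [← X.H_z, ← conj_mul, mem_centralizer_iff_commute.1 (K e) _ X.H_A, mul_inv_cancel_right]
  obtain ⟨y, y0, e1⟩ := ld_ker u2 add val
  have e2 : χ (ω * y) = χ (ω * (ω * y)) := by
    have : ω * (ω * y) = ω * y + y := by clear * -; decide +revert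
    rw [this, add, e1, mul_one]
  have hN : X.H ∈ 𝐍(B) := by
    refine ti (c.std X.std) (h (ω * y)) (T2.of_sq ?_) (fun k => ?_) (by rw [hc, e2]; exact h _)
    · have := mem_centralizer_iff_commute.1 (K (ω * y)) _ (X.z_A (ω * y))
      rw [mul_assoc, ← mul_assoc (χ _), ← this, mul_assoc, sq, mul_one, X.z2]
    · have := X.q.mulK (AN (X.z_A (ω * y))) (K (ω * y))
      rw [k, X.q.one', X.π_z] at this
      exact X.Y.z_ne (by clear * - y0; decide +revert) this.symm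
  obtain ⟨y1, e3⟩ := on
  have m1 := nK hN (h (ω * y1))
  rw [hc] at m1
  have m2 := mul_mem (inv_mem (h (ω * (ω * y1)))) m1
  have e4 : (X.z (ω * (ω * y1)) * χ (ω * (ω * y1)))⁻¹ * (X.z (ω * (ω * y1)) * χ (ω * y1)) = u := by
    have : χ (ω * y1) = χ (ω * (ω * y1)) * u := by
      rw [← e3, ← add]; congr 1; clear * -; decide +revert
    rw [this]; group
  rw [e4] at m2
  exact u1 (c.one X.std ne uK m2 (T2.of_sq u2))

theorem ld_main (X : Cv G Γ) {u : G} (hu : ∀ c, c ∈ Z2 X.A ↔ c = 1 ∨ c = u) (u1 : u ≠ 1)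
    (h4 : Four 𝐂(X.A)) {B : Subgroup G} {d : G} (D : Dk X.A B d) (hi : In X.A d)
    (hd : X.π d = X.Y.p 0 0 1) : False := by
  have uZ : u ∈ Z2 X.A := (hu u).2 (Or.inr rfl)
  have u2 : u * u = 1 := ((hu _).1 (mul_mem uZ uZ)).resolve_right fun e => u1 (mul_left_cancel (a := u) (by simpa using e))
  have el : ∀ c ∈ Z2 X.A, c * c = 1 := fun c hc => by
    rcases (hu c).1 hc with a | a <;> rw [a]
    exacts [one_mul _, u2]
  have hφ := X.phi_one el
  obtain ⟨χ, add, hψ, hZ⟩ := X.psi el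
  have val : ∀ y, χ y = 1 ∨ χ y = u := fun y => (hu _).1 ((hZ _).2 ⟨y, rfl⟩)
  obtain ⟨y1, e1⟩ := (hZ u).1 uZ
  obtain ⟨y0, y00, e0⟩ := ld_ker u2 add val
  have χ0 : χ 0 = 1 := mul_left_cancel (a := χ 0) (by rw [← add, add_zero, mul_one])
  have y10 : y1 ≠ 0 := fun e => u1 (by rw [e1, e, χ0])
  obtain ⟨k, hk, k2, ed⟩ := X.dec_z hi.mem D.sq hd
  obtain ⟨b, hb, b2, b1, bu, bk⟩ := four_cent h4 hk k2 uZ
  have ub : u * b = b * u := hb u uZ.1
  have radd := H10.Sz.fam_add u2 b2 ub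
  set r := H10.Sz.fam u b with hr
  have r0 : r 0 = 1 := rfl
  have r1 : r 1 = u := rfl
  have rK : ∀ c, r c ∈ 𝐂(X.A) := fun c => by
    cases c
    exacts [one_mem _, uZ.2.1, hb, mul_mem uZ.2.1 hb]
  have r2 : ∀ c, r c * r c = 1 := fun c => by rw [← radd, H10.Sz.aa, r0]
  have rinj : ∀ c, r c = 1 → c = 0 := fun c e => by
    cases c
    · rfl
    · exact absurd e u1
    · exact absurd e b1
    · exact absurd ((eq_inv_of_mul_eq_one_right e).trans (inv_eq_of_mul_eq_one_right u2)) bu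
  have TN : X.T ≤ 𝐍(B) := fun g hg => D.cN X.std (by
    rw [ed, ← mul_assoc, X.T_z hφ hg, mul_assoc, hk g (X.T_A hg), mul_assoc])
  have bN : b ∈ 𝐍(B) := D.cN X.std (by
    rw [ed, ← mul_assoc, ← hb _ (X.z_A 1), mul_assoc, bk, mul_assoc])
  have uT : u ∈ X.T := X.Z_T uZ
  have hQ : IsPGroup 2 (X.T ⊔ zpowers b : Subgroup G) :=
    isPGroup_sup_of_le_normalizer_left X.isP (T2.of_sq b2).pg (zpowers_le_of_mem
      (centralizer_le_normalizer _ (centralizer_anti X.T_A hb)))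
  have QN : X.T ⊔ zpowers b ≤ 𝐍(B) := sup_le TN (zpowers_le_of_mem bN)
  have rQ : ∀ c, r c ∈ X.T ⊔ zpowers b := fun c => by
    cases c
    exacts [one_mem _, mem_sup_left uT, mem_sup_right (mem_zpowers b),
      mul_mem (mem_sup_left uT) (mem_sup_right (mem_zpowers b))]
  have vQ : ∀ x c, X.v x * r c ∈ X.T ⊔ zpowers b := fun x c => mul_mem (mem_sup_left (X.v_T x)) (rQ c)
  have wQ : ∀ x c, X.w x * r c ∈ X.T ⊔ zpowers b := fun x c => mul_mem (mem_sup_left (X.w_T x)) (rQ c)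
  have rB : ∀ c, r c ∈ 𝐂(B) → c = 0 := fun c h => rinj c (D.cj.one X.std D.ne (rK c) h (T2.of_sq (r2 c)))
  have cwv : ∀ a x c, X.w a * r c * X.v x * (X.w a * r c)⁻¹ * (X.v x)⁻¹ = X.z (a * x) * χ (a * x * x) :=
    fun a x c => by
      rw [← hψ]
      exact X.cm_wv hφ ⟨_, X.w_A a, _, rK c, rfl⟩ (X.v_A x)
        (by rw [X.q.mulK (AN (X.w_A a)) (rK c), X.π_w]) (X.π_v x)
  have cvw : ∀ a x c, X.v x * r c * X.w a * (X.v x * r c)⁻¹ * (X.w a)⁻¹ = X.z (a * x) * χ (a * x * x) :=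
    fun a x c => by
      rw [← inv_eq_of_mul_eq_one_right (el _ ((hZ _).2 ⟨a * x * x, rfl⟩)), ← hψ]
      exact X.cm_vw hφ ⟨_, X.v_A x, _, rK c, rfl⟩ (X.w_A a)
        (by rw [X.q.mulK (AN (X.v_A x)) (rK c), X.π_v]) (X.π_w a)
  have cmB : ∀ g ∈ 𝐂(B), ∀ n ∈ 𝐍(B), g * n * g⁻¹ * n⁻¹ ∈ 𝐂(B) := fun g hg n hn => by
    have := mul_mem hg (nK hn (inv_mem hg))
    simpa only [mul_assoc] using this
  have key := @ld_key _ _ _ _ _ _ X B D.cj D.ne u u2 uZ.2.1 u1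
  have vinj : ∀ x c, X.v x * r c ∈ 𝐂(B) → x = 0 ∧ c = 0 := fun x c h => by
    have x0 : x = 0 := by
      by_contra x0
      refine key (χ := fun e => χ (e * x)) (fun y y' => by rw [add_mul, add]) (fun y => val _)
        ⟨y1 * (x * x), by rw [e1]; congr 1; clear * - x0; decide +revert⟩ fun e => ?_
      have := cmB _ h _ (TN (X.w_T (e * (x * x))))
      rwa [cvw, show e * (x * x) * x = e by clear * - x0; decide +revert] at this
    rw [x0, X.v0, one_mul] at h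
    exact ⟨x0, rB c h⟩
  have winj : ∀ x c, X.w x * r c ∈ 𝐂(B) → x = 0 ∧ c = 0 := fun x c h => by
    have x0 : x = 0 := by
      by_contra x0
      refine key (χ := fun e => χ (e * e * (x * x)))
        (fun y y' => by rw [← add]; congr 1; clear * -; decide +revert) (fun y => val _)
        ⟨y1 * y1 * (x * x), by rw [e1]; congr 1; clear * - x0; decide +revert⟩ fun e => ?_
      have := cmB _ h _ (TN (X.v_T (e * (x * x))))
      rwa [cwv, show x * (e * (x * x)) = e by clear * - x0; decide +revert,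
        show e * (e * (x * x)) = e * e * (x * x) by ring] at this
    rw [x0, X.w0, one_mul] at h
    exact ⟨x0, rB c h⟩
  obtain ⟨X', hX⟩ := X.of_cj D.cj
  have q := X'.q
  rw [hX] at q
  obtain ⟨Q', mQ, nQ, pQ, -⟩ := q.im QN
  have mulr : ∀ (f : F4 → G), (∀ x, f x ∈ X.A) → (∀ x x', f (x + x') = f x * f x') → ∀ x c x' c',
      f (x + x') * r (c + c') = f x * r c * (f x' * r c') := fun f m a x c x' c' => by
    rw [a, radd, mul_assoc (f x) (r c), ← mul_assoc (r c), ← rK c _ (m x')]; group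
  obtain ⟨Y1, hL, -, pv, pw⟩ := H10.Sz.St.rank2 (Y := X'.Y) (fun p : F4 × F4 => X'.π (X.v p.1 * r p.2))
    (fun p : F4 × F4 => X'.π (X.w p.1 * r p.2))
    (fun p p' => by rw [← q.mul _ (QN (vQ _ _)) _ (QN (vQ _ _)), ← mulr _ X.v_A X.v_add]; rfl)
    (fun p p' => by rw [← q.mul _ (QN (wQ _ _)) _ (QN (wQ _ _)), ← mulr _ X.w_A X.w_add]; rfl)
    (fun p => by
      rw [← q.mul _ (QN (vQ _ _)) _ (QN (vQ _ _)), ← mulr _ X.v_A X.v_add, H10.Sz.aa, H10.Sz.aa, X.v0, r0,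
        one_mul, q.one'])
    (fun p => by
      rw [← q.mul _ (QN (wQ _ _)) _ (QN (wQ _ _)), ← mulr _ X.w_A X.w_add, H10.Sz.aa, H10.Sz.aa, X.w0, r0,
        one_mul, q.one'])
    (pQ hQ) nQ (fun p => (mQ _).2 ⟨_, vQ _ _, rfl⟩) (fun p => (mQ _).2 ⟨_, wQ _ _, rfl⟩)
    (fun p h => Prod.ext_iff.2 (vinj _ _ ((q.memC (QN (vQ _ _))).1 h)))
    (fun p h => Prod.ext_iff.2 (winj _ _ ((q.memC (QN (wQ _ _))).1 h)))
    (by
      by_contra nc
      push Not at nc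
      refine key add val ⟨y1, e1.symm⟩ fun e => ?_
      have := nc (1, 0) (e, 0)
      rw [← q.cm (QN (vQ _ _)) (QN (wQ _ _)), q.memC (mul_mem (mul_mem (mul_mem (QN (vQ _ _)) (QN (wQ _ _)))
        (inv_mem (QN (vQ _ _)))) (inv_mem (QN (wQ _ _))))] at this
      simp only [r0, mul_one (X.w e)] at this
      rw [← r0, cvw] at this
      simpa using this)
  rw [← hL] at q
  have pv' : ∀ x c, ∃ x' e, X'.π (X.v x * r c) = Y1.p x' 0 e := fun x c => by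
    obtain ⟨x', e, k, hk, h⟩ := pv (x, c)
    exact ⟨x', e, q.dec (QN (vQ _ _)) (Y1.p_L ..) hk h⟩
  have pw' : ∀ x c, ∃ x' e, X'.π (X.w x * r c) = Y1.p 0 x' e := fun x c => by
    obtain ⟨x', e, k, hk, h⟩ := pw (x, c)
    exact ⟨x', e, q.dec (QN (wQ _ _)) (Y1.p_L ..) hk h⟩
  have pr : ∀ c, ∃ e, X'.π (r c) = Y1.p 0 0 e := fun c => by
    obtain ⟨x, e, h⟩ := pv' 0 c
    obtain ⟨x', e', h'⟩ := pw' 0 c
    rw [X.v0, one_mul] at h
    rw [X.w0, one_mul, h] at h'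
    exact ⟨e, by rw [h, (Y1.p_inj h').1]⟩
  choose ρ hρ using pr
  have ρs : Function.Surjective ρ := Finite.injective_iff_surjective.1 fun c c' e => by
    have : X'.π (r (c + c')) = 1 := by
      rw [radd, q.mul _ (QN (rQ c)) _ (QN (rQ c')), hρ, hρ, e, Y1.z_sq]
    exact H10.Sz.ae.1 (rB _ ((q.eq_one (QN (rQ _))).1 this))
  have nz : ∀ g ∈ 𝐍(B), ∀ e, X'.π g = Y1.p 0 0 e → ∃ c, g * r c ∈ 𝐂(B) := fun g hg e h => by
    obtain ⟨c, rfl⟩ := ρs e
    exact ⟨c, (q.eq_one (mul_mem hg (QN (rQ c)))).1 (by rw [q.mul _ hg _ (QN (rQ c)), h, hρ, Y1.z_sq])⟩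
  have big : ∀ e x, e ≠ 0 → x ≠ 0 → ∃ f, f ≠ 0 ∧ X'.π (X.z e * χ (e * x)) = Y1.p 0 0 f := fun e x e0 x0 => by
    obtain ⟨x', e1, h1⟩ := pv' x 0
    obtain ⟨a', e2, h2⟩ := pw' (e * (x * x)) 0
    rw [r0, mul_one] at h1
    have n1 : x' ≠ 0 := fun z => by
      obtain ⟨c, hc⟩ := nz _ (TN (X.v_T x)) e1 (by rw [h1, z])
      exact x0 (vinj _ _ hc).1
    have n2 : a' ≠ 0 := fun z => by
      obtain ⟨c, hc⟩ := nz _ (TN (X.w_T (e * (x * x)))) e2 (by rw [z, r0, mul_one] at h2; exact h2)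
      exact mul_ne_zero e0 (mul_ne_zero x0 x0) (winj _ _ hc).1
    refine ⟨a' * x', mul_ne_zero n2 n1, ?_⟩
    have := cwv (e * (x * x)) x 0
    rw [show e * (x * x) * x = e by clear * - x0; decide +revert] at this
    rw [← this, q.cm (QN (wQ _ _)) (TN (X.v_T x)), h1, h2, H10.Sz.St.cm_p]
    simp
  have pz : ∀ e, ∃ f, (e ≠ 0 → f ≠ 0) ∧ X'.π (X.z e) = Y1.p 0 0 f := fun e => by
    by_cases ez : e = 0
    · exact ⟨0, fun h => absurd ez h, by rw [ez, X.z0, q.one', Y1.p_zero]⟩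
    obtain ⟨f, f0, h⟩ := big e (y0 * (e * e)) ez (mul_ne_zero y00 (mul_ne_zero ez ez))
    rw [show e * (y0 * (e * e)) = y0 by clear * - ez; decide +revert, e0, mul_one] at h
    exact ⟨f, fun _ => f0, h⟩
  choose f hf0 hf using pz
  have fs : Function.Surjective f := Finite.injective_iff_surjective.1 fun c c' e => by
    by_contra ne
    have : Y1.p 0 0 (f (c + c')) = 1 := by
      rw [← hf, X.z_add, q.mul _ (TN (X.z_T c)) _ (TN (X.z_T c')), hf, hf, e, Y1.z_sq]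
    exact Y1.z_ne (hf0 _ fun z => ne (H10.Sz.ae.1 z)) this
  obtain ⟨e, he⟩ := fs (ρ 1)
  have hz : X'.π (X.z e * u) = 1 := by rw [q.mul _ (TN (X.z_T e)) _ (TN uT), hf, ← r1, hρ, he, Y1.z_sq]
  by_cases ez : e = 0
  · rw [ez, X.z0, one_mul, q.eq_one (TN uT)] at hz
    exact absurd (rB 1 hz) (by decide)
  obtain ⟨g, g0, h⟩ := big e (y1 * (e * e)) ez (mul_ne_zero y10 (mul_ne_zero ez ez))
  rw [show e * (y1 * (e * e)) = y1 by clear * - ez; decide +revert, ← e1, hz] at h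
  exact Y1.z_ne g0 h.symm

theorem Cv.no_two (X : Cv G Γ) {u : G} (hu : ∀ c, c ∈ Z2 X.A ↔ c = 1 ∨ c = u) (u1 : u ≠ 1)
    (h4 : Four 𝐂(X.A)) (hi : Inn X.A) : False := by
  obtain ⟨B, d, D, i⟩ := hi
  obtain ⟨X', e, hd⟩ := X.to_z i (D.notK X.std) (by rw [D.sq]; exact one_mem _)
  rw [← e] at hu h4 D i
  exact ld_main X' hu u1 h4 D i hd

end H79.A4
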