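import Cfsg.Agent.Lib.A41.BasL
import Cfsg.Agent.Lib.A41.TA

/-! The centraliser of a central element of odd order. -/

set_option autoImplicit false
set_option maxRecDepth 100000
set_option synthInstance.maxSize 100000

namespace H79.A4

open H69 Subgroup Cfsg
open H30 (F4)
open H10.HeS (T2)
open scoped H10.Sz
open H10.Sz (St Pm th c1 c2 pigeon)

variable {G Γ : Type*} [Group G] [Group Γ] [Finite G] [Finite Γ]

omit [Finite G] in
theorem le_odd_sq {y : G} {n : ℕ} (ho : Odd n) (h : y ^ n = 1) : ∃ k : ℕ, y = y ^ k * y ^ k := by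
  obtain ⟨k, rfl⟩ := ho
  refine ⟨k + 1, ?_⟩
  rw [← pow_add, show k + 1 + (k + 1) = 2 * k + 1 + 1 by ring, pow_succ, h, one_mul]

omit [Finite G] in
theorem le_odd_mem {y : G} {n : ℕ} (ho : Odd n) (h : y ^ n = 1) {K : Subgroup G}
    (hy : y * y * (y * y) ∈ K) : y ∈ K := by
  have h2 : ∀ {y : G}, y ^ n = 1 → y * y ∈ K → y ∈ K := fun {y} h hy => by
    obtain ⟨k, e⟩ := le_odd_sq ho h
    rw [e, ← Commute.mul_pow (Commute.refl y)]
    exact pow_mem hy k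
  refine h2 h (h2 ?_ hy)
  rw [Commute.mul_pow (Commute.refl y), h, one_mul]

/-- no elementary abelian group of order more than 4 commutes with an element of odd order -/
theorem le_rank (Y : St Γ) {A : Type*} [AddCommGroup A] [Fintype A] (φ : A → Γ)
    (add : ∀ u v, φ (u + v) = φ u * φ v) (sq : ∀ u, φ u * φ u = 1) (hN : ∀ u, φ u ∈ 𝐍(Y.L))
    (inj : ∀ u, φ u ∈ 𝐂(Y.L) → u = 0) (cz : ∀ u, φ u * Y.p 0 0 1 * (φ u)⁻¹ = Y.p 0 0 1) {ζ : Γ}
    (hζ : ζ ∈ 𝐍(Y.L)) {n : ℕ} (ho : Odd n) (hn : ζ ^ n = 1) (ζz : ζ * Y.p 0 0 1 * ζ⁻¹ = Y.p 0 0 1)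
    (nK : ζ ∉ 𝐂(Y.L)) (c : ∀ u, ζ * φ u = φ u * ζ) : Fintype.card A ≤ 4 := by
  classical
  have hT : ∀ u, φ u ∈ 𝐍(Y.T) := fun u => St.nT (hN u) one_ne_zero (cz u)
  have ζT : ζ ∈ 𝐍(Y.T) := St.nT hζ one_ne_zero ζz
  choose s f l m q using fun u => Pm.act_of_norm (hT u)
  obtain ⟨a, b, qζ⟩ : ∃ a b, Y.Act ζ false false a b := by
    obtain ⟨k, e⟩ := le_odd_sq ho hn
    obtain ⟨s, f, l, m, h⟩ := Pm.act_of_norm (pow_mem ζT k)
    have := h.mul h
    rw [← e, Bool.xor_self, Bool.xor_self] at this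
    exact ⟨_, _, this⟩
  have ab : a * b = 1 := by
    have := (Y.p_inj ((qζ.z 1).symm.trans ζz)).2.2
    simpa [th] using this
  have a1 : a ≠ 1 := by
    rintro rfl
    rw [one_mul] at ab
    subst ab
    obtain ⟨x, a, e, k, hk, e1⟩ := St.tk_of_act hζ qζ
    refine nK (le_odd_mem ho hn ?_)
    have c1 : Commute (Y.p x a e) k := Y.pk hk x a e
    have : ζ * ζ * (ζ * ζ) = Y.p x a e ^ 4 * k ^ 4 := by
      rw [← c1.mul_pow, ← e1]; simp only [pow_succ, pow_zero, one_mul, mul_assoc]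
    rw [this, show (4 : ℕ) = 2 * 2 from rfl, pow_mul, _root_.sq, _root_.sq, Y.p_sq, Y.z_sq, one_mul]
    exact pow_mem hk _
  have a0 := qζ.l0
  have sf : ∀ u, s u = f u := fun u => by
    have h := (qζ.mul (q u)).uniq (c u ▸ (q u).mul qζ)
    have h3 := h.2.2.1
    have l0 := (q u).l0
    revert h3 l0 a0 a1 ab
    generalize s u = s; generalize f u = f; generalize l u = l; generalize m u = m
    clear * -
    cases s <;> cases f <;> simp only [th] <;> decide +revert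
  have sub : ∀ u v, φ (u - v) = φ u * φ v := fun u v => by
    have := add (u - v) v
    rw [sub_add_cancel] at this
    rw [this, mul_assoc, sq, mul_one]
  have cm : ∀ u v, φ u * φ v * (φ u)⁻¹ = φ v := fun u v => by rw [← add, add_comm, add]; group
  let P : A → Prop := fun u => s u = false
  have h1 : ∀ u v, s u = s v → P (u - v) := fun u v e => by
    have := (q (u - v)).uniq (sub u v ▸ (q u).mul (q v))
    exact this.1.trans (by simp_all)
  have ex : ∀ u, ∃ e : F4, P u → ∃ k ∈ 𝐂(Y.L), φ u = Y.p 0 0 e * k := fun u => by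
    by_cases h : P u
    · have := q u
      rw [← sf u, h] at this
      obtain ⟨e1, e2⟩ := this.two (.of_sq (sq u))
      rw [e1, e2] at this
      obtain ⟨x, y, e, k, hk, e3⟩ := St.tk_of_act (hN u) this
      have fx := (Y.fix hζ (Y.p_L x y e) hk (by rw [← e3, c, mul_inv_cancel_right])).1
      obtain ⟨e', e4⟩ := qζ.t x y e
      obtain ⟨h3, h4, -⟩ := Y.p_inj (e4.symm.trans fx)
      simp only [c1, c2, th, Bool.false_eq_true, if_false] at h3 h4
      obtain rfl : x = 0 := by clear * - h3 a1; decide +revert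
      obtain rfl : y = 0 := by clear * - h4 a1 ab; decide +revert
      exact ⟨e, fun _ => ⟨k, hk, e3⟩⟩
    · exact ⟨0, fun k => absurd k h⟩
  choose c hc using ex
  have h2 : ∀ u v, P u → P v → c u = c v → u = v := fun u v h h' e => by
    obtain ⟨k, hk, e1⟩ := hc u h
    obtain ⟨k', hk', e2⟩ := hc v h'
    refine sub_eq_zero.1 (inj _ ?_)
    rw [sub, ← inv_eq_of_mul_eq_one_right (sq u), e1, e2, e]
    simpa [mul_assoc] using mul_mem (inv_mem hk) hk'
  by_cases ha : ∀ u, s u = false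
  · simpa [H30.F4.card_eq] using pigeon P s c {false} Finset.univ h1 h2 (by simpa using ha) (by simp)
  · obtain ⟨v, hv⟩ := not_forall.1 ha
    have sv : s v = true := by simpa using hv
    have lm : l v * m v = 1 := by
      have := (Y.p_inj (((q v).z 1).symm.trans (cz v))).2.2
      simpa [th] using this
    have := pigeon P s c Finset.univ {0, 1} h1 h2 (by simp) fun u h => by
      obtain ⟨k, hk, e⟩ := hc u h
      have fx := (Y.fix (hN v) (Y.p_L ..) hk (e ▸ cm v u)).1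
      have := (Y.p_inj (((q v).z (c u)).symm.trans fx)).2.2
      rw [lm, ← sf v, sv] at this
      revert this
      generalize c u = t
      simp only [th]
      revert t; decide
    simpa using this

/-- the same in `G` -/
theorem le_rank' (X : Cv G Γ) (φ : F4 × ZMod 2 → G)
    (add : ∀ u v, φ (u + v) = φ u * φ v) (sq : ∀ u, φ u * φ u = 1) (hN : ∀ u, φ u ∈ 𝐍(X.A))
    {ζ : G} (hζ : ζ ∈ 𝐍(X.A)) (ho : Odd (orderOf ζ)) (nK : ζ ∉ 𝐂(X.A)) (c : ∀ u, ζ * φ u = φ u * ζ) :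
    ∃ u, u ≠ 0 ∧ φ u ∈ 𝐂(X.A) := by
  classical
  by_contra hc
  push Not at hc
  have q := X.q
  choose s f ty using fun u => St.Ty.ex (q.mapN _ (hN u))
  obtain ⟨u, v, uv, e⟩ := Fintype.exists_ne_map_eq_of_card_lt (fun u => (s u, f u)) (by
    simp [H30.F4.card_eq])
  obtain ⟨e1, e2⟩ := Prod.ext_iff.1 e
  simp only at e1 e2
  have t := (ty u).mul (ty v)
  rw [e1, e2, Bool.xor_self, Bool.xor_self, ← q.mul _ (hN u) _ (hN v), ← add] at t
  obtain ⟨l, hl, k, hk, e3⟩ := t.two (q.t2 (hN _) (.of_sq (sq _)))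
  have hi : In X.A (φ (u + v)) := (q.in_iff (hN _)).2 (q.dec (hN _) hl hk e3 ▸ hl)
  have uv' : u + v ≠ 0 := by clear * - uv; decide +revert
  obtain ⟨X', eA, ez⟩ := X.to_z hi (hc _ uv') (by rw [sq]; exact one_mem _)
  rw [← eA] at hN hζ nK hc
  have q := X'.q
  have := le_rank X'.Y (fun u => X'.π (φ u)) (fun u v => by rw [add, q.mul _ (hN u) _ (hN v)])
    (fun u => by rw [← q.mul _ (hN u) _ (hN u), sq, q.one']) (fun u => q.mapN _ (hN u))
    (fun u h => by_contra fun k => hc u k ((q.memC (hN u)).1 h))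
    (fun w => by rw [← ez, ← q.conj (hN _) (hN _), ← add, add_comm w, add, mul_inv_cancel_right])
    (q.mapN _ hζ) ho (by rw [← q.pow hζ, pow_orderOf_eq_one, q.one'])
    (by rw [← ez, ← q.conj hζ (hN _), c, mul_inv_cancel_right]) (fun h => nK ((q.memC hζ).1 h))
    fun u => by rw [← q.mul _ hζ _ (hN u), c, q.mul _ (hN u) _ hζ]
  simp [H30.F4.card_eq] at this

omit [Finite G] in
/-- descending along commutators in a perfect group -/
theorem le_perf {B : Subgroup G} (hp : ⁅B, B⁆ = B) (P : G → Prop) (h1 : P 1)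
    (hm : ∀ a ∈ B, ∀ b ∈ B, P a → P b → P (a * b)) (hi : ∀ a ∈ B, P a → P a⁻¹)
    (hc : ∀ a ∈ B, ∀ b ∈ B, P (a * b * a⁻¹ * b⁻¹)) : ∀ b ∈ B, P b := by
  let M : Subgroup G :=
    { carrier := {g | g ∈ B ∧ P g}
      mul_mem' := fun ⟨a, a'⟩ ⟨b, b'⟩ => ⟨mul_mem a b, hm _ a _ b a' b'⟩
      one_mem' := ⟨one_mem _, h1⟩
      inv_mem' := fun ⟨a, a'⟩ => ⟨inv_mem a, hi _ a a'⟩ }
  have : B ≤ M := by
    conv_lhs => rw [← hp]
    exact commutator_le.2 fun a ha b hb =>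
      ⟨mul_mem (mul_mem (mul_mem ha hb) (inv_mem ha)) (inv_mem hb), hc a ha b hb⟩
  exact fun b hb => (this hb).2

/-- a perfect subgroup of `N(A)` centralising an inner involution centralises `A` -/
theorem le_cent (X : Cv G Γ) {B : Subgroup G} (hp : ⁅B, B⁆ = B) (hB : B ≤ 𝐍(X.A)) {d : G}
    (hd : d ∈ 𝐍(X.A)) (ez : X.π d = X.Y.p 0 0 1) (c : d ∈ 𝐂(B)) : B ≤ 𝐂(X.A) := by
  have q := X.q
  have hT : ∀ b ∈ B, ∃ s f l m, X.Y.Act (X.π b) s f l m := fun b hb =>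
    Pm.act_of_norm (St.nT (q.mapN _ (hB hb)) one_ne_zero (e := 1) (by
      rw [← ez, ← q.conj (hB hb) hd, c b hb, mul_inv_cancel_right]))
  have cmB : ∀ a ∈ B, ∀ b ∈ B, a * b * a⁻¹ * b⁻¹ ∈ B := fun a ha b hb =>
    mul_mem (mul_mem (mul_mem ha hb) (inv_mem ha)) (inv_mem hb)
  have ecm : ∀ a ∈ B, ∀ b ∈ B, X.π (a * b * a⁻¹ * b⁻¹) * X.π b * X.π a = X.π a * X.π b := fun a ha b hb => by
    rw [q.cm (hB ha) (hB hb)]; group
  have einv : ∀ a ∈ B, X.π a⁻¹ * X.π a = 1 := fun a ha => by rw [q.inv (hB ha), inv_mul_cancel]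
  have s1 : ∀ b ∈ B, ∃ l m, X.Y.Act (X.π b) false false l m := by
    refine le_perf hp _ ⟨1, 1, q.one' ▸ Pm.Act.one⟩ (fun a ha b hb ⟨l, m, h⟩ ⟨l', m', h'⟩ =>
      ⟨_, _, q.mul _ (hB ha) _ (hB hb) ▸ h.mul h'⟩) (fun a ha ⟨l, m, h⟩ => ?_) fun a ha b hb => ?_
    · obtain ⟨s, f, l', m', h'⟩ := hT _ (inv_mem ha)
      have := (h'.mul h).uniq (einv a ha ▸ Pm.Act.one)
      obtain rfl : s = false := by simpa using this.1
      obtain rfl : f = false := by simpa using this.2.1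
      exact ⟨_, _, h'⟩
    · obtain ⟨s, f, l, m, h⟩ := hT _ (cmB a ha b hb)
      obtain ⟨sa, fa, la, ma, ha'⟩ := hT _ ha
      obtain ⟨sb, fb, lb, mb, hb'⟩ := hT _ hb
      have := ((h.mul hb').mul ha').uniq (ecm a ha b hb ▸ ha'.mul hb')
      obtain rfl : s = false := by have := this.1; clear * - this; decide +revert
      obtain rfl : f = false := by have := this.2.1; clear * - this; decide +revert
      exact ⟨_, _, h⟩
  have s2 : ∀ b ∈ B, X.Y.Act (X.π b) false false 1 1 := by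
    refine le_perf hp _ (q.one' ▸ Pm.Act.one) (fun a ha b hb h h' => ?_) (fun a ha h => ?_) fun a ha b hb => ?_
    · simpa [th, q.mul _ (hB ha) _ (hB hb)] using h.mul h'
    · obtain ⟨l', m', h'⟩ := s1 _ (inv_mem ha)
      have := (h'.mul h).uniq (einv a ha ▸ Pm.Act.one)
      obtain rfl : l' = 1 := by simpa [th] using this.2.2.1
      obtain rfl : m' = 1 := by simpa [th] using this.2.2.2
      exact h'
    · obtain ⟨l, m, h⟩ := s1 _ (cmB a ha b hb)
      obtain ⟨la, ma, ha'⟩ := s1 _ ha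
      obtain ⟨lb, mb, hb'⟩ := s1 _ hb
      have := ((h.mul hb').mul ha').uniq (ecm a ha b hb ▸ ha'.mul hb')
      have e1 := this.2.2.1
      have e2 := this.2.2.2
      simp only [th, Bool.false_eq_true, if_false, Bool.xor_self] at e1 e2
      obtain rfl : l = 1 := by
        have a0 := ha'.l0; have b0 := hb'.l0
        clear * - e1 a0 b0; decide +revert
      obtain rfl : m = 1 := by
        have a0 := ha'.m0; have b0 := hb'.m0
        clear * - e2 a0 b0; decide +revert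
      exact h
  have s3 : ∀ b ∈ B, ∃ x a e, X.π b = X.Y.p x a e := fun b hb => by
    obtain ⟨x, a, e, k, hk, e1⟩ := St.tk_of_act (q.mapN _ (hB hb)) (s2 b hb)
    exact ⟨x, a, e, q.dec (hB hb) (X.Y.p_L ..) hk e1⟩
  have s4 : ∀ b ∈ B, X.π b ∈ X.Y.Z := by
    refine le_perf hp _ (q.one' ▸ one_mem _) (fun a ha b hb h h' => q.mul _ (hB ha) _ (hB hb) ▸ mul_mem h h')
      (fun a ha h => q.inv (hB ha) ▸ inv_mem h) fun a ha b hb => ?_
    obtain ⟨x, y, e, e1⟩ := s3 a ha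
    obtain ⟨x', y', e', e2⟩ := s3 b hb
    rw [q.cm (hB ha) (hB hb), e1, e2, St.cm_p]
    exact X.Y.z_Z _
  refine le_perf hp _ (one_mem _) (fun a _ b _ => mul_mem) (fun a _ => inv_mem) fun a ha b hb => ?_
  obtain ⟨e, e1⟩ := s4 a ha
  obtain ⟨e', e2⟩ := s4 b hb
  rw [← q.eq_one (hB (cmB a ha b hb)), q.cm (hB ha) (hB hb), e1, e2, St.cm_p]
  simp [X.Y.p_zero]

theorem le_main (X : Cv G Γ) (h2 : ∀ c ∈ Z2 X.A, c * c = 1) (h4 : Four (Z2 X.A)) {B : Subgroup G} {d : G}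
    (D : Dk X.A B d) (hd : d ∈ 𝐍(X.A)) (ez : X.π d = X.Y.p 0 0 1)
    {ζ : G} (h1 : ζ ∈ X.A) (hK : ζ ∈ 𝐂(X.A)) (ho : Odd (orderOf ζ)) : ζ ∈ 𝐂(B) := by
  by_contra nK'
  have hA := X.std
  have hφ := X.phi_one h2
  obtain ⟨χ, χa, χψ, χZ⟩ := X.psi h2
  have χm : ∀ y, χ y ∈ Z2 X.A := fun y => (χZ _).2 ⟨y, rfl⟩
  have χK : ∀ y, χ y ∈ 𝐂(X.A) := fun y => (χm y).2.1
  have χ0 : χ 0 = 1 := by simpa using χa 0 0
  have χi : ∀ y, χ y = 1 → y = 0 := fun y hy => by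
    by_contra y0
    obtain ⟨a, ha, b, hb, -, -, -, a1, b1, ab⟩ := h4
    obtain ⟨y1, rfl⟩ := (χZ _).1 ha
    obtain ⟨y2, rfl⟩ := (χZ _).1 hb
    have : y1 = 0 ∨ y1 = y ∨ y2 = 0 ∨ y2 = y ∨ y1 = y2 ∨ y1 = y2 + y := by clear * - y0; decide +revert
    rcases this with rfl | rfl | rfl | rfl | rfl | rfl
    exacts [a1 χ0, a1 hy, b1 χ0, b1 hy, ab rfl, ab (by rw [χa, hy, mul_one])]
  have χB : ∀ y, χ y ∈ 𝐂(B) → y = 0 := fun y h => χi y (D.cj.one hA D.ne (χK y) h (χm y).2.2)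
  obtain ⟨k, hk, -, ed⟩ := X.dec_z hd D.sq ez
  have TN : ∀ g ∈ X.T, g ∈ 𝐍(B) := fun g hg => D.cN hA (by
    rw [ed, ← mul_assoc, X.T_z hφ hg, mul_assoc, hk g (X.T_A hg), mul_assoc])
  have ζN : ζ ∈ 𝐍(B) := D.cN hA (by
    rw [ed, ← mul_assoc, ← hK _ (X.z_A 1), mul_assoc, hk ζ h1, mul_assoc])
  obtain ⟨X', rfl⟩ := X.of_cj D.cj
  let em : ZMod 2 → F4 := fun t => if t = 0 then 0 else 1
  have ema : ∀ t t', em (t + t') = em t + em t' := by decide
  have key : ∀ x : F4, x ≠ 0 → ∃ y, X.v x * χ y ∈ 𝐂(X'.A) := fun x x0 => by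
    have vc : ∀ t y, X.v t * χ y = χ y * X.v t := fun t y => χK y _ (X.v_A t)
    have add : ∀ u u' : F4 × ZMod 2, X.v (x * em (u + u').2) * χ (u + u').1 =
        X.v (x * em u.2) * χ u.1 * (X.v (x * em u'.2) * χ u'.1) := fun u u' => by
      rw [Prod.snd_add, Prod.fst_add, ema, mul_add, X.v_add, χa, mul_assoc, mul_assoc, ← mul_assoc (χ u.1),
        ← vc, mul_assoc]
    obtain ⟨u, u0, hu⟩ := le_rank' X' (fun u => X.v (x * em u.2) * χ u.1) add
      (fun u => by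
        rw [← add, show u + u = 0 by clear * -; decide +revert]
        simp [em, X.v0, χ0])
      (fun u => TN _ (mul_mem (X.v_T _) (X.Z_T (χm _)))) ζN ho nK' fun u =>
        (hK _ (mul_mem (X.v_A _) (χm _).1)).symm
    obtain ⟨y, t⟩ := u
    by_cases t0 : t = 0
    · subst t0
      simp only [em, if_true, mul_zero, X.v0, one_mul] at hu
      exact absurd (by rw [χB y hu]; rfl) u0
    · simp only [em, if_neg t0, mul_one] at hu
      exact ⟨y, hu⟩
  have key2 : ∀ x : F4, x ≠ 0 → ∀ a, X.z (a * x) * χ (a * x * x) ∈ 𝐂(X'.A) := fun x x0 a => by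
    obtain ⟨y, hy⟩ := key x x0
    have e := X.cm_wv hφ (In.of_A (X.w_A a)) (mul_mem (X.v_A x) (χm y).1) (X.π_w a)
      (by rw [X.q.mulK (AN (X.v_A x)) (χK y), X.π_v])
    rw [← χψ, ← e]
    exact mul_mem (nK (TN _ (X.w_T a)) hy) (inv_mem hy)
  have k1 := key2 1 one_ne_zero 1
  have k2 := key2 ω (by decide) ϖ
  rw [show (ϖ * ω : F4) = 1 by decide] at k2
  simp only [one_mul] at k1 k2
  have := mul_mem (inv_mem k1) k2
  rw [mul_inv_rev, mul_assoc, inv_mul_cancel_left, inv_eq_of_mul_eq_one_right (h2 _ (χm 1)), ← χa] at this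
  exact absurd (χB _ this) (by decide)

theorem Cv.exists_cent (X : Cv G Γ) (h2 : ∀ c ∈ Z2 X.A, c * c = 1) (h4 : Four (Z2 X.A)) (hi : Inn X.A)
    {ζ : G} (h1 : ζ ∈ X.A) (hK : ζ ∈ 𝐂(X.A)) (ho : Odd (orderOf ζ)) :
    ∃ g, g * ζ = ζ * g ∧ g ∉ 𝐍(X.A) := by
  obtain ⟨B, d, D, hd⟩ := hi
  obtain ⟨X', eA, ez⟩ := X.to_z hd (D.notK X.std) (by rw [D.sq]; exact one_mem _)
  rw [← eA] at h2 h4 h1 hK D hd ⊢
  have hζ := le_main X' h2 h4 D hd.mem ez h1 hK ho
  by_contra hc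
  push Not at hc
  have hB : B ≤ 𝐍(X'.A) := fun b hb => hc b (hζ b hb)
  have := le_cent X' (std_perf (D.cj.std X'.std)) hB hd.mem ez D.mem
  obtain ⟨g, rfl⟩ := D.cj
  exact X'.std.2.2.1 g D.ne (by rw [commutator_comm]; exact commutator_eq_bot_iff_le_centralizer.2 this)

end H79.A4
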