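import Cfsg.Agent.Lib.A41.LB

/-! An involution of a conjugate of the centraliser that is inner, part 2. -/

set_option autoImplicit false

namespace H79.A4

open H69 Subgroup Cfsg
open H30 (F4)
open H10.HeS (T2)
open scoped H10.Sz

variable {G Γ : Type*} [Group G] [Group Γ] [Finite G] [Finite Γ]

/-- the inner elements -/
def liS (B : Subgroup G) : Subgroup G where
  carrier := {y | In B y}
  one_mem' := .of_A (one_mem _)
  mul_mem' := In.mul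
  inv_mem' := In.inv

theorem Cv.li_left (X : Cv G Γ) {B R : Subgroup G} {s a b : G} (hs : Dk X.A B s) (RK : R ≤ 𝐂(X.A))
    (hR : IsPGroup 2 R) (Rs : ∀ y ∈ R, y * s = s * y) (ha : a ∈ R) (hb : b ∈ R) (a1 : a ≠ 1) (b1 : b ≠ 1)
    (ab : a * b ≠ 1) : Inn X.A := by
  by_contra n
  have n' : ¬ Inn B := fun h => n (Inn.of_cj hs.cj h)
  have k : ∀ y ∈ R, In B y → y = 1 := fun y hy hi =>
    (T2.of_mem hR hy).eq_one (K := 𝐂(X.A) ⊓ liS B) ⟨RK hy, hi⟩ fun u hu u2 =>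
      by_contra fun u1 => n' ⟨_, u, hs.swap hu.1 u2 u1, hu.2⟩
  obtain ⟨X', rfl⟩ := X.of_cj hs.cj
  have RN : ∀ y ∈ R, y ∈ 𝐍(X'.A) := fun y hy => hs.cN X.std (Rs y hy)
  have sq : ∀ y ∈ R, y * y = 1 := fun y hy => k _ (mul_mem hy hy) (X'.in_sq (RN y hy) (.of_mem hR hy))
  refine n' (X'.four_out (hs.swap (RK ha) (sq a ha) a1) (hs.swap (RK hb) (sq b hb) b1) (RN a ha) (RN b hb)
    ?_ (fun e => a1 (k a ha e)) (fun e => b1 (k b hb e)) fun e => ab (k _ (mul_mem ha hb) e))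
  rw [← inv_eq_of_mul_eq_one_right (sq _ (mul_mem ha hb)), mul_inv_rev,
    inv_eq_of_mul_eq_one_right (sq a ha), inv_eq_of_mul_eq_one_right (sq b hb)]

theorem Cv.li_sq (X : Cv G Γ) (el : ∀ c ∈ Z2 X.A, c * c = 1) {y : G} (yT : y ∈ X.T) {e : F4}
    (πy : X.π y = X.Y.p 0 0 e) : y * y = 1 := by
  obtain ⟨c, hc, rfl⟩ := X.eq_z yT πy
  rw [mul_assoc, ← mul_assoc c, (bl_zc hc (X.z_A e)).eq, mul_assoc, el c hc, mul_one, X.z2]

theorem Cv.li_fin (X : Cv G Γ) {B : Subgroup G} {s u r y : G} (hs : Dk X.A B s) (sN : s ∈ 𝐍(X.A))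
    (sT : X.π s ∈ 𝐍(X.Y.T)) (hu : u ∈ 𝐂(X.A)) (hr : r ∈ 𝐂(X.A)) (u2 : u * u = 1) (ur : u * r = r * u)
    (rs : r * s * r⁻¹ = s * u) (el : ∀ c ∈ Z2 X.A, c * c = 1)
    (zs : ∀ c ∈ Z2 X.A, c * s = s * c → c = 1 ∨ c = u) (yT : y ∈ X.T) (ys : y * s = s * y) {e : F4}
    (e0 : e ≠ 0) (πy : X.π y = X.Y.p 0 0 e) (yB : In B y) {τ : Γ} (hτ : τ ∈ X.Y.T)
    (k : τ * X.π s * τ⁻¹ = X.π s * X.Y.p 0 0 e) : Inn X.A := by
  have yA := X.T_A yT
  have y2 := X.li_sq el yT πy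
  have yK : y ∉ 𝐂(X.A) := fun h => X.Y.z_ne e0 (πy ▸ X.q.one y h)
  obtain ⟨x, a, e', rfl⟩ := hτ
  rw [← X.π_p] at k
  have tT := X.bl_T x a e'
  generalize X.v x * X.w a * X.z e' = t at k tT
  have tN := AN (X.T_A tT)
  have gT : s⁻¹ * t * s * t⁻¹ ∈ X.T := by
    have := mul_mem (conj_mem_of_mem_normalizer (inv_mem (X.nT sN sT)) tT) (inv_mem tT)
    rwa [inv_inv] at this
  obtain ⟨c, c1, c2, ec⟩ := X.q.eqA yA (X.T_A gT) (by
    rw [X.q.mul _ (mul_mem (mul_mem (inv_mem sN) tN) sN) _ (inv_mem tN),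
      X.q.mul _ (mul_mem (inv_mem sN) tN) _ sN, X.q.mul _ (inv_mem sN) _ tN, X.q.inv sN, X.q.inv tN, πy,
      mul_assoc, mul_assoc, ← mul_assoc (X.π t), k, inv_mul_cancel_left])
  have cZ : c ∈ Z2 X.A := X.TK ((mul_mem_cancel_left yT).1 (ec ▸ gT)) c2
  have e1 : t * s * t⁻¹ = s * y * c := by rw [mul_assoc s, ← ec]; group
  have e2 : s * y * c * (s * y * c) = 1 := by rw [← e1, conj_mul, hs.sq, mul_one, mul_inv_cancel]
  have cy : y * c = c * y := c2 y yA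
  have cs : c * s = s * c := by
    have : s * c * (s * c) = 1 := by
      rw [← e2]
      calc s * c * (s * c) = s * c * (s * (y * y) * c) := by rw [y2, mul_one]
        _ = s * (c * (s * y)) * y * c := by group
        _ = s * (c * (y * s)) * y * c := by rw [ys]
        _ = s * (c * y) * (s * y * c) := by group
        _ = _ := by rw [← cy]; group
    rw [← inv_eq_of_mul_eq_one_right this, mul_inv_rev, inv_eq_of_mul_eq_one_right (el c cZ),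
      inv_eq_of_mul_eq_one_right hs.sq]
  rcases zs c cZ cs with rfl | rfl
  · exact inn_of X.std hs (.of_A yA) yK y2 yB (g := t) (by rw [e1, mul_one])
  · refine inn_of X.std hs (.of_A yA) yK y2 yB (g := r * t) ?_
    calc r * t * s * (r * t)⁻¹ = r * (t * s * t⁻¹) * r⁻¹ := by group
      _ = r * s * (y * (c * r⁻¹)) := by rw [e1]; group
      _ = r * s * r⁻¹ * ((r * y) * r⁻¹ * (r * c * r⁻¹)) := by group
      _ = s * (c * (y * c)) := by rw [rs, ← hr y yA, ← ur]; group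
      _ = _ := by rw [cy, ← mul_assoc c, u2, one_mul]

theorem Cv.inn (X : Cv G Γ) (h4 : Four 𝐂(X.A)) (h : Out X.A) : Inn X.A := by
  obtain ⟨B, s, hs, sN⟩ := h
  have t := T2.of_sq hs.sq
  have si := inv_eq_of_mul_eq_one_right hs.sq
  obtain ⟨X', e, hT⟩ := X.norm2 t.pg (zpowers_le.2 sN)
  rw [← e] at h4 hs sN ⊢
  replace hT := hT s (mem_zpowers s)
  clear e
  generalize X' = X at *
  rcases dich h4 sN hs.sq with ⟨R, RK, hR, Rs, a, ha, b, hb, a1, b1, ab⟩ |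
    ⟨u, hu, r, hr, u2, us, ur, rs, r2, el, zs⟩
  · exact X.li_left hs RK hR Rs ha hb a1 b1 ab
  obtain ⟨X', rfl⟩ := X.of_cj hs.cj
  obtain ⟨σ, f, l, m, q⟩ := H10.Sz.Pm.act_of_norm hT
  have π2 : X.π s * X.π s = 1 := by rw [← X.q.mul s sN s sN, hs.sq, X.q.one']
  have ss : ∀ y, s * (s * y * s⁻¹) * s⁻¹ = y := fun y => by
    rw [si, ← mul_assoc, ← mul_assoc, hs.sq, one_mul, mul_assoc, hs.sq, mul_one]
  cases f
  · cases σ
    · exact ⟨_, s, hs, X.in_act sN t q⟩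
    obtain ⟨⟨x, hx0, h1, h2⟩, h3, h5⟩ := gx X.Y (X.q.mapN s sN) π2 q
    obtain ⟨x, hx, rfl⟩ := X.q.onto x hx0
    obtain ⟨j, jT, js, πj⟩ := X.lb_j sN hx h1 h2 h3 1
    obtain ⟨c, c1, c2, ec⟩ := X.q.eqA hx (nA sN hx) (by rw [X.q.conj sN (AN hx), h1])
    have gA : x * (s * x * s⁻¹) ∈ X.A := mul_mem hx (nA sN hx)
    have gs : s * (x * (s * x * s⁻¹)) * s⁻¹ = x * (s * x * s⁻¹) := by
      rw [← conj_mul, ss, ec, mul_assoc, ← c2 x hx]
    have πg : X.π (x * (s * x * s⁻¹)) = X.π x * X.π x := by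
      rw [X.q.mul _ (AN hx) _ (AN (nA sN hx)), X.q.conj sN (AN hx), h1]
    generalize x * (s * x * s⁻¹) = g at gA gs πg
    have jA := X.T_A jT
    have e1 : X.π (g * j * g⁻¹) = X.Y.p 0 0 ϖ := by
      rw [X.q.conj (AN gA) (AN jA), πg, πj, show X.π x * X.π x * X.Y.p 0 0 1 * (X.π x * X.π x)⁻¹ =
        X.π x * (X.π x * X.Y.p 0 0 1 * (X.π x)⁻¹) * (X.π x)⁻¹ by group, h2, h2]
      rfl
    have yT : g * j * g⁻¹ * j⁻¹ ∈ X.T := mul_mem (X.lift2 (nA (AN gA) jA)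
      ((T2.of_mem X.isP jT).conj g) (e1 ▸ X.Y.p_T ..)) (inv_mem jT)
    have cg : Commute g s := (mul_inv_eq_iff_eq_mul.1 gs).symm
    have cj : Commute j s := (mul_inv_eq_iff_eq_mul.1 js).symm
    obtain ⟨τ, hτ, k⟩ := h5 ω
    refine X.li_fin hs sN hT hu hr u2 ur rs el zs yT
      (((cg.mul_left cj).mul_left cg.inv_left).mul_left cj.inv_left).eq (e := ω) (by decide) ?_
      (X'.in_cm (hs.cN X.std cg.eq) (hs.cN X.std cj.eq) (.of_mem X.isP yT)) hτ k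
    rw [X.q.mul _ (AN (nA (AN gA) jA)) _ (AN (inv_mem jA)), e1, X.q.inv (AN jA), πj, X.Y.z_inv, X.Y.z_mul]
    rfl
  obtain ⟨x, a, e, e', ax, h1, h2⟩ := fx X.Y π2 q
  have gT := X.bl_T x a e
  have πg := X.π_p x a e
  generalize X.v x * X.w a * X.z e = g at gT πg
  have gA := X.T_A gT
  obtain ⟨c, c1, c2, ec⟩ := X.q.eqA gA (nA sN gA) (by rw [X.q.conj sN (AN gA), πg, h1])
  have cZ : c ∈ Z2 X.A :=
    X.TK ((mul_mem_cancel_left gT).1 (ec ▸ conj_mem_of_mem_normalizer (X.nT sN hT) gT)) c2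
  have cs : c * s = s * c := by
    have := ss g
    rw [ec, ← conj_mul, ec, mul_assoc, mul_eq_left] at this
    rw [eq_comm, ← mul_inv_eq_iff_eq_mul, ← inv_eq_of_mul_eq_one_right this,
      inv_eq_of_mul_eq_one_right (el c cZ)]
  have πy : X.π (g * g) = X.Y.p 0 0 (a * x) := by rw [X.q.mul _ (AN gA) _ (AN gA), πg, X.Y.p_sq]
  have fin : ∀ g' : G, Commute g' s → (∃ d ∈ Z2 X.A, g' * g' = g * g * d) → Inn X.A := by
    rintro g' cg ⟨d, hd, ed⟩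
    have yT : g' * g' ∈ X.T := ed ▸ mul_mem (mul_mem gT gT) (X.Z_T hd)
    refine X.li_fin hs sN hT hu hr u2 ur rs el zs yT (cg.mul_left cg).eq ax ?_
      (X'.in_sq (hs.cN X.std cg.eq) (T2.of_pow (k := 1) ?_)) (X.Y.p_T ..) h2
    · rw [ed, X.q.mulK (AN (mul_mem gA gA)) hd.2.1, πy]
    · rw [pow_one, pow_two]; exact .of_mem X.isP yT
  rcases zs c cZ cs with rfl | rfl
  · exact fin g (mul_inv_eq_iff_eq_mul.1 (ec.trans (mul_one g))).symm ⟨1, one_mem _, (mul_one _).symm⟩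
  · have sr : s * r * s⁻¹ = c * r := by
      have : r * s = s * c * r := mul_inv_eq_iff_eq_mul.1 rs
      calc s * r * s⁻¹ = s * (r * s) := by rw [si, mul_assoc]
        _ = _ := by rw [this, ← mul_assoc, ← mul_assoc, hs.sq, one_mul]
    refine fin (g * r) (mul_inv_eq_iff_eq_mul.1 (show s * (g * r) * s⁻¹ = g * r by
      rw [← conj_mul, ec, sr, mul_assoc, ← mul_assoc c, u2, one_mul])).symm ?_
    have e3 : g * r * (g * r) = g * g * (r * r) := by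
      rw [mul_assoc, ← mul_assoc r, ← hr g gA]; group
    rcases r2 with f | f <;> rw [e3, f]
    exacts [⟨1, one_mem _, rfl⟩, ⟨c, cZ, rfl⟩]

end H79.A4
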