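import Cfsg.Agent.Lib.A41.Bas
import Cfsg.Agent.Lib.Schur.Main
import Cfsg.Agent.Lib.GL.Simple
import Cfsg.Agent.S2043
import Cfsg.Agent.S2048
import Cfsg.Agent.S2049
import Cfsg.Agent.S2088
import Cfsg.Agent.S2102
import Cfsg.Agent.S2738

/-! Consequences of the Schur multipliers. -/

set_option autoImplicit false

namespace H79.A4

open H69 Subgroup Cfsg
open H30 (F4)
open H10.HeS (T2)
open scoped H10.Sz

variable {X Q : Type*} [Group X] [Finite X] [Group Q] {σ : X →* Q}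

theorem mu_dvd {Q' : Type*} [Group Q'] {n : ℕ} (hA : HasCyclicSchurMultiplier Q' n) (e : Q ≃* Q')
    (h : IsStemExtension σ) : Nat.card σ.ker ∣ n := by
  have := H78.Schur.card_ker_inf_dvd (H78.Schur.hasSchurMultiplier_of_equiv hA e.symm) σ h.1 h.2.1
  rwa [H78.Schur.stem_ker_inf h, Nat.card_congr Multiplicative.toAdd, Nat.card_zmod] at this

theorem mu_iso (h : IsStemExtension σ) (h1 : Nat.card σ.ker = 1) : Nonempty (X ≃* Q) :=
  ⟨MulEquiv.ofBijective σ ⟨(MonoidHom.ker_eq_bot_iff _).1 (card_eq_one.1 h1), h.1⟩⟩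

theorem mu_stem (hX : IsQuasisimple X) (e : X ⧸ center X ≃* Q) :
    IsStemExtension (e.toMonoidHom.comp (QuotientGroup.mk' (center X))) ∧
      (e.toMonoidHom.comp (QuotientGroup.mk' (center X))).ker = center X := by
  have k : (e.toMonoidHom.comp (QuotientGroup.mk' (center X))).ker = center X :=
    Subgroup.ext fun x => e.map_eq_one_iff.trans (QuotientGroup.eq_one_iff x)
  exact ⟨⟨e.surjective.comp (QuotientGroup.mk'_surjective _), k.le, hX.1.commutator_eq_top ▸ le_top⟩, k⟩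

theorem ker_co1 (h : IsStemExtension σ) (ho : Odd (Nat.card σ.ker)) (e : Spor.IsoCo1 Q) :
    Nat.card σ.ker = 1 ∧ Spor.IsoCo1 X := by
  obtain ⟨e⟩ := e
  have h1 : Nat.card σ.ker = 1 :=
    (Nat.prime_two.eq_one_or_self_of_dvd _ (mu_dvd Cfsg.Agent.S2043.result e h)).resolve_right fun e2 => by
      rw [e2] at ho; exact absurd ho (by decide)
  obtain ⟨f⟩ := mu_iso h h1
  exact ⟨h1, ⟨f.trans e⟩⟩

theorem ker_he (h : IsStemExtension σ) (e : Spor.IsoHe Q) : Nat.card σ.ker = 1 ∧ Spor.IsoHe X := by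
  obtain ⟨e⟩ := e
  have h1 := Nat.dvd_one.1 (mu_dvd Cfsg.Agent.S2049.result e h)
  obtain ⟨f⟩ := mu_iso h h1
  exact ⟨h1, ⟨f.trans e⟩⟩

theorem ker_suz (h : IsStemExtension σ) (ho : Odd (Nat.card σ.ker)) (e : Spor.IsoSuz Q) :
    Nat.card σ.ker ∣ 3 ∧ (Spor.IsoSuz X ∨
      ∃ (N : Subgroup X) (_ : N.Normal), Nat.card N = 3 ∧ Spor.IsoSuz (X ⧸ N)) := by
  obtain ⟨e⟩ := e
  have h3 : Nat.card σ.ker ∣ 3 :=
    (Nat.Coprime.dvd_mul_left (ho.coprime_two_right)).1 (mu_dvd (n := 2 * 3) Cfsg.Agent.S2048.result e h)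
  refine ⟨h3, (Nat.prime_three.eq_one_or_self_of_dvd _ h3).imp (fun h1 => ?_) fun h1 =>
    ⟨σ.ker, inferInstance, h1, ⟨(QuotientGroup.quotientKerEquivOfSurjective σ h.1).trans e⟩⟩⟩
  obtain ⟨f⟩ := mu_iso h h1
  exact ⟨f.trans e⟩

variable {F : Type*} [Field F] [Fintype F]

theorem cen_g2 (hX : IsQuasisimple X) (hF : Fintype.card F = 4)
    (e : X ⧸ center X ≃* Lie.chevG2.group F) :
    center X = ⊥ ∨ ∃ u : X, u ≠ 1 ∧ ∀ c, c ∈ center X ↔ c = 1 ∨ c = u := by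
  obtain ⟨h, k⟩ := mu_stem hX e
  have h2 := mu_dvd (Cfsg.Agent.S2102.result hF) (MulEquiv.refl _) h
  rw [k] at h2
  refine (Nat.prime_two.eq_one_or_self_of_dvd _ h2).imp card_eq_one.1 fun h2 => ?_
  obtain ⟨u, u1, hu⟩ := (Nat.card_eq_two_iff' (1 : center X)).1 h2
  refine ⟨u, fun e => u1 (Subtype.ext e), fun c => ⟨fun hc => ?_, ?_⟩⟩
  · by_cases c1 : c = 1
    · exact Or.inl c1
    · exact Or.inr (congrArg Subtype.val (hu ⟨c, hc⟩ fun e => c1 (congrArg Subtype.val e)))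
  · rintro (rfl | rfl)
    exacts [one_mem _, u.2]

theorem iso_of_bot (h : center X = ⊥) (e : X ⧸ center X ≃* Q) : Nonempty (X ≃* Q) :=
  ⟨(QuotientGroup.quotientBot.symm.trans (QuotientGroup.quotientMulEquivOfEq h.symm)).trans e⟩

set_option synthInstance.maxSize 100000 in
theorem mu_key : ∀ a b : Multiplicative (ZMod 3 × ZMod 4 × ZMod 4), a ^ 4 ≠ 1 →
    b ^ 4 = a ^ 0 ∨ b ^ 4 = a ^ 4 ∨ b ^ 4 = a ^ 8 := by decide +kernel

theorem mu_three {Γ : Type*} [Group Γ] {τ : Γ →* Q}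
    (hA : HasSchurMultiplier Q (Multiplicative (ZMod 3 × ZMod 4 × ZMod 4))) (hτ : IsStemExtension τ)
    (e : τ.ker ≃* Multiplicative (ZMod 3 × ZMod 4 × ZMod 4)) (h : IsStemExtension σ)
    (hX : commutator X = ⊤) (h3 : Nat.card σ.ker = 3) : ∃ η : commutator Γ →* X,
    Function.Surjective η ∧ ∀ x, x ∈ η.ker ↔ τ x = 1 ∧ (x : Γ) ^ 4 = 1 := by
  obtain ⟨η, h1, h2⟩ := H78.Schur.exists_hom_commutator hA hτ (Nat.card_congr e.toEquiv).ge σ h.1 h.2.1
  have hs : Function.Surjective η := MonoidHom.range_eq_top.1 (h2.trans hX)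
  have e1 : ∀ x, σ (η x) = τ x := fun x => DFunLike.congr_fun h1 x
  have p3 : ∀ x : commutator Γ, τ x = 1 → η (x ^ 4) = 1 → η x = 1 := fun x hx h4 => by
    have : (⟨η x, (e1 x).trans hx⟩ : σ.ker) ^ 3 = 1 := by rw [← h3, pow_card_eq_one']
    have : η x ^ 3 = 1 := congrArg Subtype.val this
    rwa [map_pow, pow_succ, this, one_mul] at h4
  refine ⟨η, hs, fun x => ⟨fun hx => ?_, fun hx => p3 x hx.1 (by
    rw [show x ^ 4 = 1 from Subtype.ext hx.2, map_one])⟩⟩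
  have hx1 : η x = 1 := hx
  have tx : τ x = 1 := by rw [← e1, hx1, map_one]
  refine ⟨tx, by_contra fun h4 => ?_⟩
  have key : ∀ a b : Multiplicative (ZMod 3 × ZMod 4 × ZMod 4), a ^ 4 ≠ 1 →
      b ^ 4 = a ^ 0 ∨ b ^ 4 = a ^ 4 ∨ b ^ 4 = a ^ 8 := mu_key
  have : σ.ker = ⊥ := eq_bot_iff.2 fun y hy => by
    obtain ⟨y, rfl⟩ := hs y
    have ty : τ y = 1 := (e1 y).symm.trans hy
    have k : ∀ n : ℕ, e ⟨y, ty⟩ ^ 4 = e ⟨x, tx⟩ ^ n → η y = 1 := fun n hn => p3 y ty (by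
      rw [← map_pow, ← map_pow] at hn
      have hn' : (y : Γ) ^ 4 = (x : Γ) ^ n := congrArg Subtype.val (e.injective hn)
      rw [show y ^ 4 = x ^ n from Subtype.ext hn', map_pow, hx1, one_pow])
    rcases key (e ⟨x, tx⟩) (e ⟨y, ty⟩) (fun e4 => h4 (by
      rw [← map_pow, e.map_eq_one_iff] at e4
      exact congrArg Subtype.val e4)) with r | r | r <;> exact k _ r
  rw [this, card_bot] at h3
  omega

theorem iso_sl3 (hX : IsQuasisimple X) (hF : Fintype.card F = 4)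
    (e : X ⧸ center X ≃* Matrix.ProjectiveSpecialLinearGroup (Fin 3) F) (h : Nat.card (center X) = 3) :
    Nonempty (X ≃* Matrix.SpecialLinearGroup (Fin 3) F) := by
  have hA := Cfsg.Agent.S2088.result hF
  obtain ⟨Γ, _, _, τ, hτ, ⟨f⟩⟩ := hA.1
  obtain ⟨h1, k1⟩ := mu_stem hX e
  obtain ⟨η, s, k⟩ := mu_three hA hτ f h1 hX.1.commutator_eq_top (by rw [k1, h])
  have hp : commutator (Matrix.SpecialLinearGroup (Fin 3) F) = ⊤ :=
    H10.commutator_SL_fin_eq_top 3 fun e => absurd e (by decide)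
  obtain ⟨η', s', k'⟩ := mu_three (σ := QuotientGroup.mk' (center (Matrix.SpecialLinearGroup (Fin 3) F)))
    hA hτ f ⟨QuotientGroup.mk'_surjective _, (QuotientGroup.ker_mk' _).le, hp ▸ le_top⟩ hp
    (by rw [QuotientGroup.ker_mk', (Cfsg.Agent.S2738.result F hF).1])
  exact ⟨((QuotientGroup.quotientKerEquivOfSurjective η s).symm.trans (QuotientGroup.quotientMulEquivOfEq
    (Subgroup.ext fun x => (k x).trans (k' x).symm))).trans (QuotientGroup.quotientKerEquivOfSurjective η' s')⟩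

end H79.A4
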