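import Cfsg.Agent.Lib.A41.Bas
import Cfsg.Agent.Lib.A41.TA
import Cfsg.Prelude.Def_KGroupFacts

/-! Reductions: quotients by normal subgroups of odd order. -/

set_option autoImplicit false
set_option linter.unusedSectionVars false

namespace H79.A4

open H69 Subgroup Cfsg
open H30 (F4)
open H10.HeS (T2)
open scoped H10.Sz

variable {G : Type*} [Group G] [Finite G] {A W : Subgroup G} [W.Normal]

theorem tc_norm (hp : ⁅A, A⁆ = A) (hW : W ≤ 𝐂(A)) :
    𝐍(A.map (QuotientGroup.mk' W)).comap (QuotientGroup.mk' W) = 𝐍(A) := by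
  refine le_antisymm (fun g hg => mem_normalizer_of_cj_le ?_) fun g hg => ?_
  · have AW : A ≤ 𝐂(W) := le_centralizer_iff.1 hW
    have h1 : A ^ᶜ g ≤ A ⊔ W ⊓ 𝐂(W) := by
      rintro _ ⟨a, ha, rfl⟩
      obtain ⟨b, hb, e⟩ := (mem_normalizer_iff.1 (mem_comap.1 hg) _).1 (mem_map_of_mem _ ha)
      have e' : b⁻¹ * (g * a * g⁻¹) ∈ W := QuotientGroup.eq.1 e
      have e'' : b⁻¹ * (g * a * g⁻¹) ∈ 𝐂(W) :=
        mul_mem (inv_mem (AW hb)) ((inferInstance : 𝐂(W).Normal).conj_mem a (AW ha) g)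
      have := mul_mem (mem_sup_left (T := W ⊓ 𝐂(W)) hb) (mem_sup_right (S := A) ⟨e', e''⟩)
      rwa [mul_inv_cancel_left] at this
    have h2 : ⁅A ⊔ W ⊓ 𝐂(W), A ⊔ W ⊓ 𝐂(W)⁆ ≤ A :=
      H23.commutator_le_of_le_sup_centralizer (Z := W ⊓ 𝐂(W)) le_sup_left
        (sup_le le_normalizer (le_normalizer_of_le_centralizer (inf_le_left.trans hW)))
        (by
          rw [centralizer_sup]
          exact le_inf (inf_le_left.trans hW) (inf_le_right.trans (centralizer_anti inf_le_left)))
        le_rfl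
    calc A ^ᶜ g = ⁅A ^ᶜ g, A ^ᶜ g⁆ := by rw [← cj_commutator, hp]
      _ ≤ A := (commutator_mono h1 h1).trans h2
  · rw [mem_comap, ← cj_eq_self_iff, ← map_cj, cj_eq_self_iff.2 hg]

theorem tc_cen' {g : G} (hg : g ∈ 𝐂(A)) :
    QuotientGroup.mk' W g ∈ 𝐂(A.map (QuotientGroup.mk' W)) := by
  rintro _ ⟨a, ha, rfl⟩
  rw [← map_mul, ← map_mul, hg a ha]

theorem tc_cen (hp : ⁅A, A⁆ = A) (hW : W ≤ 𝐂(A)) :
    𝐂(A.map (QuotientGroup.mk' W)).comap (QuotientGroup.mk' W) = 𝐂(A) := by
  refine le_antisymm (fun g hg => ta_cen hp ?_ fun a ha => hW ?_) fun g hg => tc_cen' hg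
  · rw [← tc_norm hp hW]
    exact centralizer_le_normalizer _ hg
  · have e : QuotientGroup.mk' W a * QuotientGroup.mk' W g =
        QuotientGroup.mk' W g * QuotientGroup.mk' W a := hg _ (mem_map_of_mem _ ha)
    rw [← QuotientGroup.ker_mk' W, MonoidHom.mem_ker, map_mul, map_mul, map_mul, map_inv, map_inv, ← e]
    group

theorem tc_one (ho : Odd (Nat.card W)) {a : G} (a2 : a * a = 1) (h : a ∈ W) : a = 1 :=
  orderOf_eq_one_iff.1 (Nat.eq_one_of_dvd_coprimes (Nat.coprime_two_left.2 ho)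
    (orderOf_dvd_of_pow_eq_one (by rw [pow_two, a2])) (Subgroup.orderOf_dvd_natCard _ h))

theorem std_quot (hA : IsStandardSubgroup A) (ho : Odd (Nat.card W)) (hW : W ≤ 𝐂(A)) :
    IsStandardSubgroup (A.map (QuotientGroup.mk' W)) := by
  haveI : Fact (Nat.Prime 2) := ⟨Nat.prime_two⟩
  have hp := std_perf hA
  have hs := QuotientGroup.mk'_surjective W
  have hC := tc_cen hp hW
  refine ⟨H23.IsQuasisimple.map hA.1 _ fun e => ?_, ⟨?_, fun g hg => ?_⟩, fun g hg e => ?_, ?_⟩
  · rw [Subgroup.map_eq_bot_iff, QuotientGroup.ker_mk'] at e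
    exact H23.IsQuasisimple.not_le_centralizer hA.1 (e.trans hW)
  · obtain ⟨⟨k, hk⟩, k2⟩ := exists_prime_orderOf_dvd_card' 2 hA.2.1.1.two_dvd
    rw [← orderOf_coe] at k2
    have k3 : k * k = 1 := by rw [← pow_two, ← k2]; exact pow_orderOf_eq_one k
    have k1 : QuotientGroup.mk' W k ≠ 1 := fun e => by
      have : k = 1 := tc_one ho k3 ((QuotientGroup.eq_one_iff k).1 e)
      simp [this] at k2
    rw [even_iff_two_dvd, ← orderOf_eq_prime (p := 2) (by rw [pow_two, ← map_mul, k3, map_one]) k1]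
    exact Subgroup.orderOf_dvd_natCard _ (tc_cen' hk)
  · obtain ⟨g, rfl⟩ := hs g
    have h1 : g ∉ 𝐍(𝐂(A)) := by
      rwa [← hC, ← comap_normalizer_eq_of_surjective _ hs, mem_comap]
    refine (hA.2.1.2 g h1).of_dvd_nat ?_
    rw [← map_comap_eq_self_of_surjective hs (_ ⊓ _), comap_inf, ← comap_cj, hC]
    exact card_map_dvd _ _
  · obtain ⟨g, rfl⟩ := hs g
    refine hA.2.2.1 g (fun e' => hg (by rw [← map_cj, e'])) ?_
    rw [commutator_comm, commutator_eq_bot_iff_le_centralizer] at e ⊢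
    rwa [← hC, ← map_le_iff_le_comap, map_cj]
  · apply comap_injective hs
    rw [tc_norm hp hW, comap_normalizer_eq_of_surjective _ hs, hC, hA.2.2.2]

theorem four_quot (ho : Odd (Nat.card W)) (h4 : Four 𝐂(A)) : Four 𝐂(A.map (QuotientGroup.mk' W)) := by
  obtain ⟨a, ha, b, hb, a2, b2, c, a1, b1, ab⟩ := h4
  refine ⟨_, tc_cen' ha, _, tc_cen' hb, by rw [← map_mul, a2, map_one],
    by rw [← map_mul, b2, map_one], by rw [← map_mul, ← map_mul, c],
    fun e => a1 (tc_one ho a2 ((QuotientGroup.eq_one_iff a).1 e)),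
    fun e => b1 (tc_one ho b2 ((QuotientGroup.eq_one_iff b).1 e)), fun e => ab ?_⟩
  refine inv_mul_eq_one.1 (tc_one ho ?_ (QuotientGroup.eq.1 e))
  rw [inv_eq_of_mul_eq_one_right a2]
  calc a * b * (a * b) = a * (b * a) * b := by group
    _ = a * a * (b * b) := by rw [← c]; group
    _ = 1 := by rw [a2, b2, one_mul]

theorem normal_quot (hA : IsStandardSubgroup A) (hW : W ≤ 𝐂(A))
    (h : (A.map (QuotientGroup.mk' W)).Normal) : A.Normal := by
  rw [normal_iff_top_le_normalizer, ← tc_norm (std_perf hA) hW]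
  exact fun g _ => normal_iff_top_le_normalizer.1 h (mem_top _)

theorem tc_center (hA : IsStandardSubgroup A) (hW : W ≤ 𝐂(A)) :
    (center (A.map (QuotientGroup.mk' W))).comap ((QuotientGroup.mk' W).subgroupMap A) =
      center A := by
  ext a
  rw [mem_comap, mem_center_iff, mem_center_iff]
  constructor
  · intro h b
    have : (a : G) ∈ 𝐂(A) := by
      rw [← tc_cen (std_perf hA) hW]
      exact fun x hx => congrArg Subtype.val (h ⟨x, hx⟩)
    exact Subtype.ext (this b b.2)
  · intro h b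
    obtain ⟨b, rfl⟩ := (QuotientGroup.mk' W).subgroupMap_surjective A b
    rw [← map_mul, ← map_mul, h]

theorem iso_quot (hA : IsStandardSubgroup A) (hW : W ≤ 𝐂(A)) :
    Nonempty ((A.map (QuotientGroup.mk' W) ⧸ center (A.map (QuotientGroup.mk' W))) ≃* A ⧸ center A) :=
  ⟨(QuotientGroup.quotientKerEquivOfSurjective
    ((QuotientGroup.mk' (center (A.map (QuotientGroup.mk' W)))).comp
      ((QuotientGroup.mk' W).subgroupMap A))
    ((QuotientGroup.mk'_surjective _).comp ((QuotientGroup.mk' W).subgroupMap_surjective A))).symm.trans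
    (QuotientGroup.quotientMulEquivOfEq (by
      rw [← MonoidHom.comap_ker, QuotientGroup.ker_mk', tc_center hA hW]))⟩

theorem tc_card {X Y : Type*} [Group X] [Group Y] [Finite X] {f : X →* Y}
    (hf : Function.Surjective f) (H : Subgroup Y) :
    Nat.card (H.comap f) = Nat.card H * Nat.card f.ker := by
  haveI : Finite Y := Finite.of_surjective f hf
  have h1 := (H.comap f).card_mul_index
  have h2 := f.ker.card_mul_index
  rw [index_comap_of_surjective _ hf] at h1
  rw [index_ker, MonoidHom.range_eq_top.2 hf, card_top, ← H.card_mul_index, ← h1] at h2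
  refine Nat.eq_of_mul_eq_mul_right (Nat.pos_of_ne_zero H.index_ne_zero_of_finite) ?_
  rw [← h2]
  ring

theorem tc_ker (X : Subgroup G) : Nat.card (W.subgroupOf X) = Nat.card (X ⊓ W : Subgroup G) := by
  rw [← inf_subgroupOf_left, card_subgroupOf inf_le_left]

theorem card_quot (hA : IsStandardSubgroup A) (hW : W ≤ 𝐂(A)) :
    Nat.card (center A) = Nat.card (center (A.map (QuotientGroup.mk' W))) * Nat.card (A ⊓ W : Subgroup G) := by
  rw [← tc_center hA hW, tc_card ((QuotientGroup.mk' W).subgroupMap_surjective A),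
    Subgroup.ker_subgroupMap, QuotientGroup.ker_mk', tc_ker]

theorem stem_quot (hA : IsStandardSubgroup A) (hW : W ≤ 𝐂(A)) :
    ∃ σ : normalClosure (A : Set G) →* normalClosure (A.map (QuotientGroup.mk' W) : Set (G ⧸ W)),
      IsStemExtension σ ∧ Nat.card σ.ker ∣ Nat.card W ∧ Nat.card (A ⊓ W : Subgroup G) ∣ Nat.card σ.ker := by
  have e : (normalClosure (A : Set G)).map (QuotientGroup.mk' W) =
      normalClosure (A.map (QuotientGroup.mk' W) : Set (G ⧸ W)) :=
    map_normalClosure _ _ (QuotientGroup.mk'_surjective W)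
  have hk : ((MulEquiv.subgroupCongr e).toMonoidHom.comp
      ((QuotientGroup.mk' W).subgroupMap (normalClosure (A : Set G)))).ker =
      W.subgroupOf (normalClosure (A : Set G)) := by
    ext x
    rw [MonoidHom.mem_ker, mem_subgroupOf, ← QuotientGroup.eq_one_iff]
    exact Subtype.ext_iff
  have hc : normalClosure (A : Set G) ≤ 𝐂(W) := normalClosure_le_normal (le_centralizer_iff.1 hW)
  have hp : Group.IsPerfect (normalClosure (A : Set G)) := isPerfect_iff.2 (le_antisymm
    (commutator_le_left _ _) (normalClosure_le_normal (show A ≤ _ from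
      (std_perf hA).symm.le.trans (commutator_mono le_normalClosure le_normalClosure))))
  refine ⟨(MulEquiv.subgroupCongr e).toMonoidHom.comp ((QuotientGroup.mk' W).subgroupMap _),
    ⟨(MulEquiv.subgroupCongr e).surjective.comp ((QuotientGroup.mk' W).subgroupMap_surjective _),
      ?_, fun _ _ => Group.IsPerfect.mem_commutator⟩, ?_, ?_⟩
  · rw [hk]
    exact fun x hx => mem_center_iff.2 fun y => Subtype.ext (hc y.2 x hx).symm
  · rw [hk, tc_ker]
    exact card_dvd_of_le inf_le_right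
  · rw [hk, tc_ker]
    exact card_dvd_of_le (inf_le_inf_right W le_normalClosure)

theorem eqv_quot (h : A ⊓ W = ⊥) : Nonempty (A ≃* A.map (QuotientGroup.mk' W)) := by
  refine ⟨MulEquiv.ofBijective ((QuotientGroup.mk' W).subgroupMap A)
    ⟨?_, (QuotientGroup.mk' W).subgroupMap_surjective A⟩⟩
  rw [← MonoidHom.ker_eq_bot_iff, Subgroup.ker_subgroupMap, QuotientGroup.ker_mk', ← card_eq_one,
    tc_ker, h, card_bot]

end H79.A4
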