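import Cfsg.Agent.Lib.A41.Bas
import Cfsg.Agent.Lib.Comp.Component
import Cfsg.Agent.Lib.Core.PCore
import Cfsg.Agent.Lib.Core.CoprimeAbelian
import Cfsg.Agent.Lib.Cls.Four
import Cfsg.Agent.Lib.SE42.Basic
import Cfsg.Agent.S0205
import Cfsg.Agent.S1347
import Cfsg.Agent.S1911

/-! Reductions: the odd core, the layer, subgroups. -/

set_option autoImplicit false

namespace H79.A4

open H69 Subgroup Cfsg
open H30 (F4)
open H10.HeS (T2)
open scoped H10.Sz

variable {G : Type*} [Group G] [Finite G] {A : Subgroup G}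

omit [Finite G] in
theorem tb_zp {z x : G} (hz : z * z = 1) (h : x ∈ zpowers z) : x = 1 ∨ x = z := by
  obtain ⟨n, rfl⟩ := h
  have h2 : z ^ (2 : ℤ) = 1 := by rw [zpow_two, hz]
  rcases Int.even_or_odd' n with ⟨k, rfl | rfl⟩
  · left; simp only [zpow_mul, h2, one_zpow]
  · right; simp only [zpow_add, zpow_mul, h2, one_zpow, one_mul, zpow_one]

omit [Finite G] in
theorem tb_ord {x : G} (h2 : x * x = 1) (h1 : x ≠ 1) : orderOf x = 2 :=
  orderOf_eq_prime (by rw [pow_two]; exact h2) h1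

/-- a subgroup without involutions has odd order -/
theorem tb_odd {K : Subgroup G} (h : ∀ t ∈ K, t * t = 1 → t = 1) : Odd (Nat.card K) := by
  have : Fact (Nat.Prime 2) := ⟨Nat.prime_two⟩
  rw [← Nat.not_even_iff_odd, even_iff_two_dvd]
  intro h2
  obtain ⟨t, ht⟩ := exists_prime_orderOf_dvd_card' 2 h2
  have e := h t t.2 (congrArg Subtype.val (show t * t = 1 by rw [← sq, ← ht, pow_orderOf_eq_one]))
  rw [Subtype.ext (a1 := t) (a2 := 1) e, orderOf_one] at ht
  omega

theorem four_of (hR : ¬ PRankLE 2 1 𝐂(A)) : Four 𝐂(A) := by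
  by_contra k
  refine hR fun B c hB => ?_
  by_cases e : B = ⊥
  · rw [e, card_bot]; norm_num
  obtain ⟨a, ha, a1⟩ := (B.bot_or_exists_ne_one).resolve_left e
  have s : ∀ x ∈ B, x * x = 1 := fun x hx => sq x ▸ hB x hx
  rw [pow_one, ← tb_ord (s a ha) a1, ← Nat.card_zpowers]
  refine card_le_of_le fun b hb => ?_
  by_contra h
  exact k ⟨a, a.2, b, b.2, congrArg Subtype.val (s a ha), congrArg Subtype.val (s b hb),
    congrArg Subtype.val (setLike_mul_comm ha hb), fun e => a1 (Subtype.ext e),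
    fun e => h (Subtype.ext (a1 := b) (a2 := 1) e ▸ one_mem _),
    fun e => h (Subtype.ext (a1 := a) (a2 := b) e ▸ mem_zpowers a)⟩

theorem not_rank {K : Subgroup G} (h4 : Four K) : ¬ PRankLE 2 1 K := by
  obtain ⟨a, ha, b, hb, a2, b2, ab, a1, b1, ne⟩ := h4
  intro h
  have hV := H19.isKleinFour_closure_pair (a := (⟨a, ha⟩ : K)) (b := ⟨b, hb⟩)
    (fun e => a1 (congrArg Subtype.val e)) (fun e => b1 (congrArg Subtype.val e))
    (fun e => ne (congrArg Subtype.val e)) (Subtype.ext a2) (Subtype.ext b2) (Subtype.ext ab)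
  have := h _ hV.isMulCommutative fun x hx => by
    rw [sq]; exact H19.mul_self_of_isKleinFour hV hx
  rw [hV.card_four] at this
  omega

theorem core_le (hA : IsStandardSubgroup A) (h4 : Four 𝐂(A)) : oddCore G ≤ 𝐂(A) := by
  obtain ⟨a, ha, b, hb, a2, b2, ab, a1, b1, ne⟩ := h4
  have hV := H19.isKleinFour_closure_pair a1 b1 ne a2 b2 ab
  have hO : Odd (Nat.card (oddCore G)) := H1.odd_card_oddCore
  have n : (oddCore G).Normal := inferInstance
  have VK : closure ({a, b} : Set G) ≤ 𝐂(A) := by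
    rw [closure_le]; rintro x (rfl | rfl)
    exacts [ha, hb]
  have h1 : oddCore G ≤ 𝐍(A) := by
    refine H2.le_of_forall_centralizer_le (A := closure ({a, b} : Set G)) hV.isMulCommutative
      hV.not_isCyclic (by rw [normalizer_eq_top]; exact le_top) ?_ fun c hc c1 x hx => ?_
    · rw [hV.card_four]
      exact (Nat.Coprime.pow_right 2 (Nat.coprime_two_right.2 hO)).symm
    · exact cN hA (VK hc) (.of_sq (H19.mul_self_of_isKleinFour hV hc)) c1
        (mem_centralizer_singleton_iff.1 hx.2)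
  have h2 : ⁅oddCore G, A⁆ ≤ oddCore G ⊓ A := by
    refine le_inf (commutator_le_left _ _) (commutator_le.2 fun o ho x hx => ?_)
    rw [commutatorElement_def]
    exact mul_mem (nA (h1 ho) hx) (inv_mem hx)
  have h3 : oddCore G ⊓ A ≤ 𝐂(A) := by
    refine (H23.IsQuasisimple.eq_or_le_centralizer hA.1 inf_le_right
      (le_normalizer_inf (by rw [normalizer_eq_top]; exact le_top) le_normalizer)).resolve_left fun e => ?_
    exact H23.IsQuasisimple.not_le_of_isSolvable hA.1 (Cfsg.Agent.S0205.result hO) (e.ge.trans inf_le_left)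
  exact commutator_eq_bot_iff_le_centralizer.1 (H23.commutator_eq_bot_of_perfect
    (H23.IsQuasisimple.commutator_self hA.1) (commutator_eq_bot_iff_le_centralizer.2 (h2.trans h3)))

theorem core_quot : oddCore (G ⧸ oddCore G) = ⊥ := H1.pPrimeCore_quotient_pPrimeCore

theorem exists_E (hA : IsStandardSubgroup A) (h4 : Four 𝐂(A)) (hO : oddCore G = ⊥) (hn : ¬ A.Normal) :
    IsSimpleGroup (normalClosure (A : Set G)) := by
  obtain ⟨a, ha, b, hb, a2, b2, -, a1, b1, ab⟩ := h4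
  rcases Cfsg.Agent.S1347.result A hA hO a (tb_ord a2 a1) ha with
    e | ⟨-, -, -, -, -, -, -, e⟩ | ⟨h1, h2, -⟩
  · exact absurd e hn
  · rcases tb_zp a2 (e ▸ hb) with k | k
    exacts [absurd k b1, absurd k.symm ab]
  have le : normalClosure (A : Set G) ≤ layer G := normalClosure_le_normal h1
  rcases ((normalClosure_normal (s := (A : Set G))).subgroupOf (layer G)).eq_bot_or_eq_top with e | e
  · refine absurd (le_bot_iff.1 fun x hx => ?_) (H23.IsQuasisimple.ne_bot hA.1)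
    have : (⟨x, h1 hx⟩ : layer G) ∈ (normalClosure (A : Set G)).subgroupOf (layer G) :=
      le_normalClosure hx
    rw [e, mem_bot] at this
    exact congrArg Subtype.val this
  · rw [le_antisymm le (subgroupOf_eq_top.1 e)]
    exact h2

theorem exists_out (hA : IsStandardSubgroup A) (h4 : Four 𝐂(A)) (hO : oddCore G = ⊥) (hn : ¬ A.Normal)
    {z : G} (hz : z ∈ A) (z2 : z * z = 1) (z1 : z ∉ 𝐂(A)) : Out A := by
  have hs := exists_E hA h4 hO hn
  have hL : A ≤ normalClosure (A : Set G) := le_normalClosure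
  have nL : (normalClosure (A : Set G)).Normal := normalClosure_normal
  generalize normalClosure (A : Set G) = L at hs hL nL
  by_contra h
  have hK : ¬ 𝐂(A).Normal := fun k =>
    hn (normal_iff_top_le_normalizer.2 (hA.2.2.2 ▸ normal_iff_top_le_normalizer.1 k))
  have hS := (Cfsg.Agent.S1911.result 𝐂(A) hA.2.1 fun g hg => by
    rw [← hA.2.2.2] at hg ⊢
    refine tb_odd fun t ht t2 => ?_
    by_contra t1
    exact h ⟨A ^ᶜ g, t, ⟨⟨g, rfl⟩, fun e => hg (cj_eq_self_iff.1 e), cj_centralizer A g ▸ ht.1, t2, t1⟩,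
      ht.2⟩).resolve_left hK
  rcases ((normalClosure_normal (s := (𝐂(A) : Set G))).subgroupOf L).eq_bot_or_eq_top with e | e
  · refine hK ⟨fun k hk g a ha => ?_⟩
    have hm := normalClosure_normal.conj_mem k (le_normalClosure hk) g
    generalize g * k * g⁻¹ = m at hm
    have : (⟨a * m * a⁻¹ * m⁻¹, by
        have := mul_mem (hL ha) (nL.conj_mem _ (inv_mem (hL ha)) m)
        rwa [← mul_assoc, ← mul_assoc] at this⟩ : L) ∈
        (normalClosure (𝐂(A) : Set G)).subgroupOf L :=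
      mul_mem (normalClosure_normal.conj_mem m hm a) (inv_mem hm)
    rw [e, mem_bot, Subtype.ext_iff] at this
    exact mul_inv_eq_iff_eq_mul.1 (mul_inv_eq_one.1 this)
  · obtain ⟨k, hk, -, -, k2, -, -, k1, -⟩ := h4
    have zn : z ≠ 1 := fun c => z1 (c ▸ one_mem _)
    have o : ∀ {a : normalClosure (𝐂(A) : Set G)}, (a : G) * a = 1 → (a : G) ≠ 1 → orderOf a = 2 :=
      fun h h' => tb_ord (Subtype.ext h) fun c => h' (congrArg Subtype.val c)
    obtain ⟨g, hg⟩ := isConj_iff.1 (H42.SE.isConj hS (a := ⟨k, le_normalClosure hk⟩)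
      (b := ⟨z, subgroupOf_eq_top.1 e (hL hz)⟩) (o k2 k1) (o z2 zn))
    have ez : (g : G) * k * (g : G)⁻¹ = z := congrArg Subtype.val hg
    have zK : z ∈ 𝐂(A ^ᶜ (g : G)) := ez ▸ cjK hk
    exact h ⟨A ^ᶜ (g : G), z, ⟨⟨g, rfl⟩, fun c => z1 (c ▸ zK), zK, z2, zn⟩, AN hz⟩

omit [Finite G] in
theorem tb_memC {E : Subgroup G} (hE : A ≤ E) {x : E} : x ∈ 𝐂(A.subgroupOf E) ↔ (x : G) ∈ 𝐂(A) :=
  ⟨fun h a ha => congrArg Subtype.val (h ⟨a, hE ha⟩ ha), fun h a ha => Subtype.ext (h a ha)⟩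

omit [Finite G] in
theorem tb_memN {E : Subgroup G} (hE : A ≤ E) {x : E} : x ∈ 𝐍(A.subgroupOf E) ↔ (x : G) ∈ 𝐍(A) := by
  rw [← subgroupOf_normalizer_eq hE, mem_subgroupOf]

theorem std_sub (hA : IsStandardSubgroup A) {E : Subgroup G} (hE : A ≤ E) {k : G} (hk : k ∈ 𝐂(A))
    (hkE : k ∈ E) (k2 : k * k = 1) (k1 : k ≠ 1) : IsStandardSubgroup (A.subgroupOf E) := by
  have kC : (⟨k, hkE⟩ : E) ∈ 𝐂(A.subgroupOf E) := (tb_memC hE).2 hk
  refine ⟨(H23.isQuasisimple_subgroupOf_iff hE).2 hA.1, ⟨?_, fun g hg => ?_⟩, fun g hg e => ?_,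
    le_antisymm (normalizer_le_normalizer_centralizer _) fun g hg => ?_⟩
  · rw [even_iff_two_dvd, ← tb_ord (x := (⟨k, hkE⟩ : E)) (Subtype.ext k2)
      fun c => k1 (congrArg Subtype.val c)]
    exact orderOf_dvd_natCard _ kC
  · refine tb_odd fun t ht t2 => ?_
    by_contra t1
    refine hg (normalizer_le_normalizer_centralizer _ ((tb_memN hE).2 ?_))
    have h1 : ((g⁻¹ * t * g : E) : G) ∈ 𝐂(A) := (tb_memC hE).1 (mem_cj.1 ht.2)
    have := ti hA (g := (g : G)⁻¹) ((tb_memC hE).1 ht.1) (.of_sq (congrArg Subtype.val t2))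
      (fun c => t1 (Subtype.ext c)) (by rw [inv_inv]; exact h1)
    exact inv_mem_iff.1 this
  · refine hA.2.2.1 g (fun c => hg (cj_eq_self_iff.2 ((tb_memN hE).2 (cj_eq_self_iff.1 c)))) ?_
    have := congrArg (Subgroup.map E.subtype) e
    rwa [map_commutator, map_subtype_cj, map_subgroupOf_eq_of_le hE, Subgroup.map_bot] at this
  · refine (tb_memN hE).2 (ti hA hk (.of_sq k2) k1 ?_)
    exact (tb_memC hE).1 ((mem_normalizer_iff.1 hg _).1 kC)

theorem four_sub {E : Subgroup G} (hE : A ≤ E) (h4 : Four (𝐂(A) ⊓ E)) : Four 𝐂(A.subgroupOf E) := by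
  obtain ⟨a, ha, b, hb, a2, b2, ab, a1, b1, ne⟩ := h4
  exact ⟨⟨a, ha.2⟩, (tb_memC hE).2 ha.1, ⟨b, hb.2⟩, (tb_memC hE).2 hb.1, Subtype.ext a2, Subtype.ext b2,
    Subtype.ext ab, fun e => a1 (congrArg Subtype.val e), fun e => b1 (congrArg Subtype.val e),
    fun e => ne (congrArg Subtype.val e)⟩

end H79.A4
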